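import Cfsg.Agent.Lib.JankoThree.Cert

/-!
# Matrices and lines given by codes
-/

set_option autoImplicit false

namespace Cfsg.Agent.JankoThree

open Matrix Cfsg.Spor

universe u

section

variable {F : Type u} [Field F] (ω : F)

/-- A unit has the matrix of a code up to a nonzero scalar. -/
def Rep (g : GL F9 F) (M : ℕ) : Prop := ∃ c : F, c ≠ 0 ∧ (g : Matrix F9 F9 F) = c • mat ω M

/-- A unit maps the line of one code to the line of another. -/
def Maps (g : GL F9 F) (u v : ℕ) : Prop :=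
  ∃ c : F, c ≠ 0 ∧ (g : Matrix F9 F9 F) *ᵥ dec ω u = c • dec ω v

variable (F)

/-- The nonzero scalars. -/
def Zs : Subgroup (GL F9 F) :=
  (Units.map (Matrix.scalar F9 : F →+* Matrix F9 F9 F).toMonoidHom).range

variable {F}

theorem mem_Zs {g : GL F9 F} :
    g ∈ Zs F ↔ ∃ c : F, c ≠ 0 ∧ (g : Matrix F9 F9 F) = c • (1 : Matrix F9 F9 F) := by
  constructor
  · rintro ⟨c, rfl⟩
    exact ⟨c, c.ne_zero, (Matrix.smul_one_eq_diagonal (c : F)).symm⟩
  · rintro ⟨c, hc, h⟩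
    exact ⟨Units.mk0 c hc, Units.ext (by rw [h, Matrix.smul_one_eq_diagonal]; rfl)⟩

theorem card_Zs [Fintype F] (hF : Fintype.card F = 4) : Nat.card (Zs F) = 3 := by
  classical
  have hinj : Function.Injective (Units.map (Matrix.scalar F9 : F →+* Matrix F9 F9 F).toMonoidHom) := by
    intro a b h
    have h' := congrArg (fun x : GL F9 F => (x : Matrix F9 F9 F)) h
    exact Units.ext (Matrix.scalar_inj.mp h')
  rw [Zs, ← Nat.card_congr (MonoidHom.ofInjective hinj).toEquiv, Nat.card_eq_fintype_card,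
    Fintype.card_units, hF]

theorem Zs_comm {z : GL F9 F} (hz : z ∈ Zs F) (g : GL F9 F) : z * g = g * z := by
  obtain ⟨c, _, h⟩ := mem_Zs.mp hz
  apply Units.ext
  rw [Units.val_mul, Units.val_mul, h]
  simp

variable {ω}

theorem Rep.mul {g h : GL F9 F} {M N : ℕ} (hg' : Good ω) (h1 : Rep ω g M) (h2 : Rep ω h N) :
    Rep ω (g * h) (mmul M N) := by
  obtain ⟨a, ha, ea⟩ := h1
  obtain ⟨b, hb, eb⟩ := h2
  refine ⟨a * b, mul_ne_zero ha hb, ?_⟩
  rw [Units.val_mul, ea, eb, mat_mmul hg', Matrix.smul_mul, Matrix.mul_smul, smul_smul]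

theorem Rep.of_mat {g : GL F9 F} {M N : ℕ} (h : Rep ω g M) (e : mat ω M = mat ω N) : Rep ω g N := by
  obtain ⟨a, ha, ea⟩ := h
  exact ⟨a, ha, by rw [ea, e]⟩

theorem Rep.congr {g : GL F9 F} {M N : ℕ} (hg' : Good ω) (h : Rep ω g M) (e : peq M N = true) :
    Rep ω g N := by
  obtain ⟨a, ha, ea⟩ := h
  obtain ⟨b, hb, eb⟩ := peq_spec hg' (mat_mulW hg') e
  exact ⟨a * b, mul_ne_zero ha hb, by rw [ea, eb, smul_smul]⟩

theorem Rep.congr' {g : GL F9 F} {M N : ℕ} (hg' : Good ω) (h : Rep ω g N) (e : peq M N = true) :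
    Rep ω g M := by
  obtain ⟨a, ha, ea⟩ := h
  obtain ⟨b, hb, eb⟩ := peq_spec hg' (mat_mulW hg') e
  exact ⟨a * b⁻¹, mul_ne_zero ha (inv_ne_zero hb), by
    rw [ea, eb, smul_smul, mul_assoc, inv_mul_cancel₀ hb, mul_one]⟩

theorem rep_one (hg' : Good ω) : Rep ω (1 : GL F9 F) idCode :=
  ⟨1, one_ne_zero, by rw [mat_idCode, one_smul, Units.val_one]⟩

theorem Rep.tmul {g h : GL F9 F} {M N : ℕ} {T : ℕ × ℕ × ℕ} (hg' : Good ω) (hT : chkTab T M = true)
    (h1 : Rep ω g M) (h2 : Rep ω h N) : Rep ω (g * h) (JankoThree.tmul T N) :=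
  (h1.mul hg' h2).of_mat (by rw [mat_mmul hg', mat_tmul hg' hT])

theorem Rep.unique {g g' : GL F9 F} {M : ℕ} (h : Rep ω g M) (h' : Rep ω g' M) :
    ∃ z ∈ Zs F, g' = z * g := by
  obtain ⟨a, ha, ea⟩ := h
  obtain ⟨b, hb, eb⟩ := h'
  refine ⟨g' * g⁻¹, mem_Zs.mpr ⟨b * a⁻¹, mul_ne_zero hb (inv_ne_zero ha), ?_⟩, by group⟩
  rw [Units.val_mul, eb]
  have : mat ω M = a⁻¹ • (g : Matrix F9 F9 F) := by rw [ea, smul_smul, inv_mul_cancel₀ ha, one_smul]
  rw [this, smul_smul, Matrix.smul_mul, ← Units.val_mul, mul_inv_cancel, Units.val_one]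

theorem Rep.zs_mul {g z : GL F9 F} {M : ℕ} (h : Rep ω g M) (hz : z ∈ Zs F) : Rep ω (z * g) M := by
  obtain ⟨a, ha, ea⟩ := h
  obtain ⟨b, hb, eb⟩ := mem_Zs.mp hz
  exact ⟨b * a, mul_ne_zero hb ha, by rw [Units.val_mul, eb, ea]; simp [smul_smul, mul_comm]⟩

theorem Maps.comp {g h : GL F9 F} {u v w : ℕ} (h1 : Maps ω g u v) (h2 : Maps ω h v w) :
    Maps ω (h * g) u w := by
  obtain ⟨a, ha, ea⟩ := h1
  obtain ⟨b, hb, eb⟩ := h2
  refine ⟨a * b, mul_ne_zero ha hb, ?_⟩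
  rw [Units.val_mul, ← Matrix.mulVec_mulVec, ea, Matrix.mulVec_smul, eb, smul_smul]

theorem Maps.symm {g : GL F9 F} {u v : ℕ} (h : Maps ω g u v) : Maps ω g⁻¹ v u := by
  obtain ⟨a, ha, ea⟩ := h
  refine ⟨a⁻¹, inv_ne_zero ha, ?_⟩
  have e := congrArg (fun x => ((g⁻¹ : GL F9 F) : Matrix F9 F9 F) *ᵥ x) ea
  simp only [Matrix.mulVec_mulVec, Matrix.mulVec_smul, ← Units.val_mul, inv_mul_cancel, Units.val_one,
    Matrix.one_mulVec] at e
  rw [e, smul_smul, inv_mul_cancel₀ ha, one_smul]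

theorem maps_one (u : ℕ) : Maps ω (1 : GL F9 F) u u := ⟨1, one_ne_zero, by simp⟩

theorem maps_zs {z : GL F9 F} (hz : z ∈ Zs F) (u : ℕ) : Maps ω z u u := by
  obtain ⟨c, hc, h⟩ := mem_Zs.mp hz
  exact ⟨c, hc, by rw [h, Matrix.smul_mulVec, Matrix.one_mulVec]⟩

theorem Rep.maps {g : GL F9 F} {M u v : ℕ} (hg' : Good ω) (h : Rep ω g M)
    (e : peq (app M u) v = true) : Maps ω g u v := by
  obtain ⟨a, ha, ea⟩ := h
  obtain ⟨b, hb, eb⟩ := peq_spec hg' (dec_mulW hg') e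
  exact ⟨a * b, mul_ne_zero ha hb, by
    rw [ea, Matrix.smul_mulVec, ← dec_app hg', eb, smul_smul]⟩

theorem Rep.maps_tab {g : GL F9 F} {M u v : ℕ} {T : ℕ × ℕ × ℕ} (hg' : Good ω) (h : Rep ω g M)
    (hT : chkTab T M = true) (hu : u < 2 ^ 18) (e : peq (tapp T u) v = true) : Maps ω g u v := by
  obtain ⟨a, ha, ea⟩ := h
  obtain ⟨b, hb, eb⟩ := peq_spec hg' (dec_mulW hg') e
  exact ⟨a * b, mul_ne_zero ha hb, by
    rw [ea, Matrix.smul_mulVec, ← dec_tapp hg' hT u hu, eb, smul_smul]⟩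

theorem Maps.unique [Fintype F] {g : GL F9 F} {u v w : ℕ} (hg' : Good ω) (hF : Fintype.card F = 4)
    (h1 : Maps ω g u v) (h2 : Maps ω g u w) (hv : v < 2 ^ 18) (hw : w < 2 ^ 18)
    (mv : isMin v = true) (mw : isMin w = true) : v = w := by
  obtain ⟨a, ha, ea⟩ := h1
  obtain ⟨b, hb, eb⟩ := h2
  refine isMin_unique hg' hF (f := dec ω) (S := fun x => x < 2 ^ 18) (dec_mulW hg')
    (fun x hx => mulW_lt18 hx) (fun x y hx hy => dec_inj hg' hx hy) hv hw mv mw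
    (mul_ne_zero (inv_ne_zero ha) hb) ?_
  rw [← smul_smul, ← eb, ea, smul_smul, inv_mul_cancel₀ ha, one_smul]

theorem Rep.code_unique [Fintype F] {g : GL F9 F} {M N : ℕ} (hg' : Good ω) (hF : Fintype.card F = 4)
    (h1 : Rep ω g M) (h2 : Rep ω g N) (hM : M < 2 ^ 162) (hN : N < 2 ^ 162) (mM : isMin M = true)
    (mN : isMin N = true) : M = N := by
  obtain ⟨a, ha, ea⟩ := h1
  obtain ⟨b, hb, eb⟩ := h2
  refine isMin_unique hg' hF (f := mat ω) (S := fun x => x < 2 ^ 162) (mat_mulW hg')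
    (fun x _ => mulW_lt x) (fun x y hx hy => mat_inj hg' hx hy) hM hN mM mN
    (mul_ne_zero (inv_ne_zero ha) hb) ?_
  rw [← smul_smul, ← eb, ea, smul_smul, inv_mul_cancel₀ ha, one_smul]

theorem dec_one (hg' : Good ω) : dec ω 1 = (Pi.single (0 : F9) (1 : F) : F9 → F) := by
  have key : ∀ z : F9, (1 : ℕ).testBit (2 * idx z) = decide (z = 0) ∧
      (1 : ℕ).testBit (2 * idx z + 1) = false := by decide +kernel
  funext z
  obtain ⟨k1, k2⟩ := key z
  simp only [dec, coord, k1, k2, Pi.single_apply]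
  by_cases h : z = 0 <;> simp [h, bitVal]

/-- In a finite group, a set containing one and closed under left multiplication by generators
contains what they generate. -/
theorem closure_mem_of_mul_mem {G : Type*} [Group G] [Finite G] {S U : Set G} (h1 : (1 : G) ∈ U)
    (hm : ∀ s ∈ S, ∀ x ∈ U, s * x ∈ U) {g : G} (hg : g ∈ Subgroup.closure S) : g ∈ U := by
  have key : ∀ g ∈ Submonoid.closure S, g ∈ U := by
    intro g hg
    induction hg using Submonoid.closure_induction_left with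
    | one => exact h1
    | mul_left s hs x _ ih => exact hm s hs x ih
  apply key
  rwa [← Subgroup.closure_toSubmonoid_of_finite]

end

end Cfsg.Agent.JankoThree
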