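import Cfsg.Agent.Lib.JankoThree.Code

/-!
# Certificates for the triple cover of J₃: the shape of the data and the checkers
-/

set_option autoImplicit false

namespace Cfsg.Agent.JankoThree

open Enum (Tree field allRange)

/-- Product of a list of generator numbers. -/
def wordCode (g : ℕ → ℕ) : List ℕ → ℕ
  | [] => idCode
  | x :: w => mmul (g x) (wordCode g w)

/-- An element of a list, zero outside. -/
def at0 (l : List ℕ) (i : ℕ) : ℕ := (l[i]?).getD 0

/-- The certificate. -/
structure Cert where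
  /-- the 43 generators -/
  gens : List ℕ
  /-- their inverses -/
  gensInv : List ℕ
  /-- the list of the point stabiliser up to scalars -/
  hTree : Tree
  /-- spanning tree and left multiplication: parent, generator, rank, two images -/
  hInfo : Tree
  /-- number of the identity in the list -/
  hId : ℕ
  /-- numbers of the two generators in the list -/
  hGen : List ℕ
  /-- words of the generators -/
  hWord : List (List ℕ)
  /-- the further generator -/
  tNum : ℕ
  /-- chunk tables of the two generators and the further one -/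
  tabs : List (ℕ × ℕ × ℕ)
  /-- chunk tables of the generators of the edge stabiliser -/
  kTabs : List (ℕ × ℕ × ℕ)
  /-- the generators of the edge stabiliser, with their conjugates -/
  kGen : List (ℕ × ℕ)
  /-- the double coset representatives -/
  reps : List ℕ
  /-- their inverses -/
  repsInv : List ℕ
  /-- for each representative the root defining it -/
  repRoot : List ℕ
  /-- the suborbit representatives -/
  ys : List ℕ
  /-- first number of each suborbit -/
  starts : List ℕ
  /-- size of each suborbit -/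
  sizes : List ℕ
  /-- the lines -/
  pts : Tree
  /-- the forest -/
  forest : Tree
  /-- the sorting permutation -/
  sort : Tree
  /-- the roots: `k, r, a, j, b` in fields of 5, 12, 12, 5, 12 bits -/
  roots : Tree
  /-- stabilisers of the suborbit representatives -/
  stabs : List (List (ℕ × ℕ))
  /-- each generator as `a, j, b` -/
  genDec : List (ℕ × ℕ × ℕ)
  /-- derivations `i, h, i', a, j, b` of smaller double cosets -/
  prim : List (List (ℕ × ℕ × ℕ × ℕ × ℕ × ℕ))
  /-- number of the generator of the normal subgroup of order three -/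
  aNum : ℕ
  /-- exponents of its conjugates by the two generators -/
  aExp : List ℕ
  /-- an element inverting it -/
  uNum : ℕ
  /-- the two generators as products of conjugates: `α, α', k, e` -/
  aWords : List (List (ℕ × ℕ × ℕ × ℕ))
  /-- numbers of the coordinate lines -/
  basisPts : List ℕ
  /-- number of a line of full support -/
  fullPt : ℕ
  /-- spanning tree of the isotropic lines: parent, generator, rank -/
  isoInfo : Tree
  /-- root of that tree -/
  isoRoot : ℕ

namespace Cert

variable (c : Cert)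

/-- Generator `i`. -/
def gen (i : ℕ) : ℕ := at0 c.gens i
/-- Element `i` of the stabiliser. -/
def hm (i : ℕ) : ℕ := field 162 (c.hTree.get (i / 64)) (i % 64)
/-- Packed information on element `i`. -/
def hi (i : ℕ) : ℕ := field 48 (c.hInfo.get (i / 256)) (i % 256)
/-- Representative `k`. -/
def rep (k : ℕ) : ℕ := at0 c.reps k
/-- Suborbit representative `k`. -/
def y (k : ℕ) : ℕ := at0 c.ys k
/-- First number of suborbit `k`. -/
def start (k : ℕ) : ℕ := at0 c.starts k
/-- Size of suborbit `k`. -/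
def size (k : ℕ) : ℕ := at0 c.sizes k
/-- Line `i`. -/
def pt (i : ℕ) : ℕ := field 18 (c.pts.get (i / 256)) (i % 256)
/-- Forest entry `i`. -/
def fe (i : ℕ) : ℕ := field 17 (c.forest.get (i / 256)) (i % 256)
/-- Sorted position `i`. -/
def srt (i : ℕ) : ℕ := field 15 (c.sort.get (i / 256)) (i % 256)
/-- Root `i`. -/
def root (i : ℕ) : ℕ := field 48 (c.roots.get (i / 256)) (i % 256)
/-- Table `i`. -/
def tab (i : ℕ) : ℕ × ℕ × ℕ := (c.tabs[i]?).getD (0, 0, 0)
/-- Edge stabiliser table `i`. -/
def ktab (i : ℕ) : ℕ × ℕ × ℕ := (c.kTabs[i]?).getD (0, 0, 0)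
/-- Edge stabiliser generator `i`. -/
def kg (i : ℕ) : ℕ × ℕ := (c.kGen[i]?).getD (0, 0)
/-- The further generator. -/
def tCode : ℕ := c.gen c.tNum

/-- Element `i` of the list: canonical, increasing, closed, reachable. -/
def hOk (i : ℕ) : Bool :=
  let e := c.hi i
  let p := e % 2 ^ 12
  let g := (e / 2 ^ 12) % 2
  let r := (e / 2 ^ 13) % 2 ^ 8
  let c0 := (e / 2 ^ 21) % 2 ^ 12
  let c1 := (e / 2 ^ 33) % 2 ^ 12
  isMin (c.hm i) && (Nat.beq (i + 1) 2160 || Nat.blt (c.hm i) (c.hm (i + 1))) &&
    Nat.blt c0 2160 && peq (tmul (c.tab 0) (c.hm i)) (c.hm c0) &&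
    Nat.blt c1 2160 && peq (tmul (c.tab 1) (c.hm i)) (c.hm c1) &&
    (bif Nat.beq r 0 then Nat.beq i c.hId
      else Nat.blt p 2160 && Nat.blt ((c.hi p / 2 ^ 13) % 2 ^ 8) r &&
        peq (tmul (c.tab g) (c.hm p)) (c.hm i))

/-- Line `i` of suborbit `k`. -/
def ptOk (k i : ℕ) : Bool :=
  let e := c.fe i
  isMin (c.pt i) &&
    (bif Nat.beq (e % 4) 3 then
      let z := c.root (e / 4)
      Nat.blt (e / 4) 918 && Nat.beq (z % 2 ^ 5) k &&
        peq (app (c.hm ((z / 2 ^ 5) % 2 ^ 12)) (c.y k)) (c.pt i)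
    else Nat.ble (c.start k) (e / 4) && Nat.blt (e / 4) i &&
      peq (tapp (c.ktab (e % 4)) (c.pt (e / 4))) (c.pt i))

/-- All lines of suborbit `k`. -/
def blockOk (k : ℕ) : Bool := allRange (c.ptOk k) 32 (c.start k) (c.size k)

/-- Sorting. -/
def sortOk (j : ℕ) : Bool :=
  Nat.blt (c.srt j) 23256 && (Nat.beq (j + 1) 23256 || Nat.blt (c.pt (c.srt j)) (c.pt (c.srt (j + 1))))

/-- Root number `i`. -/
def rootOk (i : ℕ) : Bool :=
  let z := c.root i
  let k := z % 2 ^ 5
  let r := (z / 2 ^ 5) % 2 ^ 12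
  let a := (z / 2 ^ 17) % 2 ^ 12
  let j := (z / 2 ^ 29) % 2 ^ 5
  let b := (z / 2 ^ 34) % 2 ^ 12
  Nat.blt k 28 && Nat.blt r 2160 && Nat.blt a 2160 && Nat.blt j 28 && Nat.blt b 2160 &&
    peq (tmul (c.tab 2) (mmul (c.hm r) (c.rep k))) (mmul (c.hm a) (mmul (c.rep j) (c.hm b)))

/-- The generators are invertible. -/
def gensOk : Bool :=
  allRange (fun i => Nat.beq (mmul (c.gen i) (at0 c.gensInv i)) idCode) 16 0 43

/-- The small data around the stabiliser. -/
def baseOk : Bool :=
  Nat.blt c.hId 2160 && Nat.beq (c.hm c.hId) idCode && Nat.blt c.tNum 43 &&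
    chkTab (c.tab 2) c.tCode &&
    allRange (fun g => Nat.blt (at0 c.hGen g) 2160 && chkTab (c.tab g) (c.hm (at0 c.hGen g)) &&
      ((c.hWord[g]?).getD []).all (fun x => Nat.blt x 43) &&
      peq (wordCode c.gen ((c.hWord[g]?).getD [])) (c.hm (at0 c.hGen g)) &&
      peq (app (c.hm (at0 c.hGen g)) 1) 1) 8 0 2 &&
    allRange (fun g => Nat.blt (c.kg g).1 2160 && Nat.blt (c.kg g).2 2160 &&
      chkTab (c.ktab g) (c.hm (c.kg g).1) &&
      peq (tmul (c.tab 2) (c.hm (c.kg g).1)) (mmul (c.hm (c.kg g).2) c.tCode)) 8 0 3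

/-- The representatives and suborbits. -/
def repsOk : Bool :=
  Nat.beq (c.rep 0) idCode && Nat.beq (c.y 0) 1 && Nat.beq (c.start 0) 0 && Nat.beq (c.size 0) 1 &&
    Nat.beq (c.start 27 + c.size 27) 23256 &&
    allRange (fun k => Nat.blt 0 (c.size k) && Nat.beq (c.pt (c.start k)) (c.y k) &&
      peq (app (c.rep k) 1) (c.y k) && peq (mmul (c.rep k) (at0 c.repsInv k)) idCode &&
      (Nat.beq k 27 || Nat.beq (c.start (k + 1)) (c.start k + c.size k)) &&
      (Nat.beq k 0 ||
        (let z := c.root (at0 c.repRoot k)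
         Nat.blt (at0 c.repRoot k) 918 && Nat.blt (z % 2 ^ 5) k && Nat.beq ((z / 2 ^ 29) % 2 ^ 5) k &&
           Nat.beq ((z / 2 ^ 17) % 2 ^ 12) c.hId && Nat.beq ((z / 2 ^ 34) % 2 ^ 12) c.hId))) 16 0 28

/-- Strictly increasing first components. -/
def incr : List (ℕ × ℕ) → Bool
  | [] => true
  | [_] => true
  | p :: q :: l => Nat.blt p.1 q.1 && incr (q :: l)

/-- The stabiliser of suborbit representative `k`. -/
def stabOk (k : ℕ) : Bool :=
  Nat.beq k 0 ||
    (let l := (c.stabs[k]?).getD []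
     Nat.beq (l.length * c.size k) 2160 && incr l &&
       l.all (fun p => Nat.blt p.1 2160 && Nat.blt p.2 2160 && peq (app (c.hm p.1) (c.y k)) (c.y k) &&
         peq (mmul (c.hm p.1) (c.rep k)) (mmul (c.rep k) (c.hm p.2))))

/-- Generator `i` lies in a listed double coset. -/
def genDecOk (i : ℕ) : Bool :=
  let p := (c.genDec[i]?).getD (0, 0, 0)
  Nat.blt p.1 2160 && Nat.blt p.2.1 28 && Nat.blt p.2.2 2160 &&
    peq (c.gen i) (mmul (c.hm p.1) (mmul (c.rep p.2.1) (c.hm p.2.2)))

/-- Derivation steps from a set of double cosets reach a smaller one or the first. -/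
def primGo (k : ℕ) : List (ℕ × ℕ × ℕ × ℕ × ℕ × ℕ) → List ℕ → Bool
  | [], have_ => have_.any (fun x => Nat.beq x 1 || (Nat.blt 0 x && Nat.blt x k))
  | (i, h, i', a, j, b) :: l, have_ =>
    have_.any (Nat.beq i) && have_.any (Nat.beq i') && Nat.blt h 2160 && Nat.blt a 2160 &&
      Nat.blt b 2160 && Nat.blt j 28 &&
      peq (mmul (c.rep i) (mmul (c.hm h) (c.rep i'))) (mmul (c.hm a) (mmul (c.rep j) (c.hm b))) &&
      primGo k l (j :: have_)

/-- Derivation for double coset `k`. -/
def primOk (k : ℕ) : Bool := Nat.beq k 0 || c.primGo k ((c.prim[k]?).getD []) [k]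

/-- The element of order three. -/
def aCode : ℕ := c.hm c.aNum

/-- Its powers. -/
def aPow (e : ℕ) : ℕ := bif Nat.beq e 1 then c.aCode else mmul c.aCode c.aCode

/-- Product of conjugates. -/
def conjProd : List (ℕ × ℕ × ℕ × ℕ) → ℕ
  | [] => idCode
  | (al, al', k, e) :: l =>
    mmul (mmul (mmul (c.hm al) (mmul (c.rep k) (mmul (c.aPow e) (at0 c.repsInv k)))) (c.hm al'))
      (conjProd l)

/-- Facts for simplicity. -/
def simpleOk : Bool :=
  Nat.blt c.aNum 2160 && Nat.blt c.uNum 2160 && peq (mmul c.aCode (mmul c.aCode c.aCode)) idCode &&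
    peq (mmul (c.hm c.uNum) c.aCode) (mmul (c.aPow 2) (c.hm c.uNum)) &&
    allRange (fun g =>
      peq (mmul (c.hm (at0 c.hGen g)) c.aCode) (mmul (c.aPow (at0 c.aExp g)) (c.hm (at0 c.hGen g))) &&
      (let l := (c.aWords[g]?).getD []
       l.all (fun p => Nat.blt p.1 2160 && Nat.blt p.2.1 2160 && Nat.blt p.2.2.1 28 &&
         peq (mmul (c.hm p.1) (c.hm p.2.1)) idCode) &&
       peq (c.conjProd l) (c.hm (at0 c.hGen g)))) 8 0 2

/-- Nonzero parity of the first `n` coordinates. -/
def oddWeight : ℕ → ℕ → Bool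
  | 0, _ => false
  | n + 1, v => (!Nat.beq (Nat.land v 3) 0) ^^ oddWeight n (Nat.shiftRight v 2)

/-- Number of nonzero coordinates. -/
def allNonzero : ℕ → ℕ → Bool
  | 0, _ => true
  | n + 1, v => !Nat.beq (Nat.land v 3) 0 && allNonzero n (Nat.shiftRight v 2)

/-- Lines showing that the action is faithful up to scalars. -/
def faithOk : Bool :=
  allRange (fun z => Nat.blt (at0 c.basisPts z) 23256 &&
    peq (c.pt (at0 c.basisPts z)) (Nat.shiftLeft 1 (2 * z))) 8 0 9 &&
    Nat.blt c.fullPt 23256 && allNonzero 9 (c.pt c.fullPt)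

/-- The code of a slot. -/
def slotCode : ℕ → ℕ → ℕ
  | 0, _ => 1
  | n + 1, i => bif Nat.blt i (4 ^ (n + 1)) then 1 + 4 * i else 4 * slotCode n (i - 4 ^ (n + 1))

/-- Slot `i` of a line with first nonzero coordinate 1. -/
def isoOk (i : ℕ) : Bool :=
  let e := field 25 (c.isoInfo.get (i / 256)) (i % 256)
  let p := e % 2 ^ 17
  let g := (e / 2 ^ 17) % 4
  let r := e / 2 ^ 19
  oddWeight 9 (slotCode 8 i) ||
    (bif Nat.beq r 0 then Nat.beq i c.isoRoot
      else Nat.blt p 87381 && !oddWeight 9 (slotCode 8 p) &&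
        Nat.blt (field 25 (c.isoInfo.get (p / 256)) (p % 256) / 2 ^ 19) r && Nat.blt g 3 &&
        peq (tapp (c.tab g) (slotCode 8 p)) (slotCode 8 i))

end Cert

end Cfsg.Agent.JankoThree
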