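import Cfsg.Agent.Lib.JankoThree.Data

/-! Kernel checks: small data. -/

set_option autoImplicit false

namespace Cfsg.Agent.JankoThree.Data

open Enum (allRange)

theorem gensOk : cert.gensOk = true := by decide +kernel
theorem baseOk : cert.baseOk = true := by decide +kernel
theorem repsOk : cert.repsOk = true := by decide +kernel
theorem stabOk : allRange cert.stabOk 16 0 28 = true := by decide +kernel
theorem genDecOk : allRange cert.genDecOk 16 0 43 = true := by decide +kernel
theorem primOk : allRange cert.primOk 16 0 28 = true := by decide +kernel
theorem simpleOk : cert.simpleOk = true := by decide +kernel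
theorem faithOk : cert.faithOk = true := by decide +kernel
theorem scalarOk :
    (Nat.beq (mmul (cert.gen 3) (cert.gen 21)) (mulW (mmul (cert.gen 21) (cert.gen 3))) ||
    Nat.beq (mmul (cert.gen 21) (cert.gen 3)) (mulW (mmul (cert.gen 3) (cert.gen 21)))) = true := by
  decide +kernel

theorem rep_one_t : peq cert.tCode (cert.rep 1) = true := by decide +kernel

end Cfsg.Agent.JankoThree.Data
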