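import Cfsg.Agent.Lib.JankoThree.Data

/-! Kernel checks: distinctness of the lines. -/

set_option autoImplicit false

namespace Cfsg.Agent.JankoThree.Data

open Enum (allRange)

theorem sortOk : allRange cert.sortOk 32 0 23256 = true := by decide +kernel

end Cfsg.Agent.JankoThree.Data
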