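import Mathlib
import Cfsg.Prelude.Def_Spor_J3
import Cfsg.Agent.Lib.Enum.Tree

/-!
# Packed vectors and matrices over the field with four elements in dimension nine

A vector is a number below `2 ^ 18`, two bits per coordinate (`a + b ω` has bits `a`, `b`); a matrix is
nine packed columns in fields of 18 bits.
-/

set_option autoImplicit false

namespace Cfsg.Agent.JankoThree

open Matrix Cfsg.Spor

/-- Bits at even places below 162. -/
def evenMask : ℕ := 0x15555555555555555555555555555555555555555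

/-- Bits at odd places below 162. -/
def oddMask : ℕ := 0x2aaaaaaaaaaaaaaaaaaaaaaaaaaaaaaaaaaaaaaaa

/-- Multiply every packed entry by `ω`. -/
def mulW (v : ℕ) : ℕ :=
  Nat.lor (Nat.shiftRight (Nat.land v oddMask) 1)
    (Nat.xor (Nat.shiftLeft (Nat.land v evenMask) 1) (Nat.land v oddMask))

/-- Column `j` of a packed matrix. -/
def col (M j : ℕ) : ℕ := Nat.land (Nat.shiftRight M (18 * j)) 262143

/-- Multiply a packed column by a packed scalar. -/
def scal (c u : ℕ) : ℕ :=
  bif Nat.beq c 0 then 0 else bif Nat.beq c 1 then u else bif Nat.beq c 2 then mulW u else mulW (mulW u)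

/-- Combination of the first `n` columns. -/
def appAux : ℕ → ℕ → ℕ → ℕ
  | 0, _, _ => 0
  | n + 1, M, v => Nat.xor (scal (Nat.land v 3) (Nat.land M 262143))
      (appAux n (Nat.shiftRight M 18) (Nat.shiftRight v 2))

/-- Matrix times vector. -/
def app (M v : ℕ) : ℕ := appAux 9 M v

/-- Product with the first `n` columns. -/
def mmulAux : ℕ → ℕ → ℕ → ℕ
  | 0, _, _ => 0
  | n + 1, M, N => app M (Nat.land N 262143) + Nat.shiftLeft (mmulAux n M (Nat.shiftRight N 18)) 18

/-- Product of packed matrices. -/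
def mmul (M N : ℕ) : ℕ := mmulAux 9 M N

/-- Equality up to a nonzero scalar. -/
def peq (u v : ℕ) : Bool := Nat.beq u v || Nat.beq u (mulW v) || Nat.beq u (mulW (mulW v))

/-- Least among its scalar multiples. -/
def isMin (u : ℕ) : Bool := Nat.blt u (mulW u) && Nat.blt u (mulW (mulW u))

/-- Entry `c` of a chunk table. -/
def tget (T c : ℕ) : ℕ := Nat.land (Nat.shiftRight T (18 * c)) 262143

/-- Matrix times vector by chunk tables. -/
def tapp (T : ℕ × ℕ × ℕ) (v : ℕ) : ℕ :=
  Nat.xor (tget T.1 (Nat.land v 63))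
    (Nat.xor (tget T.2.1 (Nat.land (Nat.shiftRight v 6) 63)) (tget T.2.2 (Nat.land (Nat.shiftRight v 12) 63)))

/-- Chunk tables of a matrix are correct. -/
def chkTab (T : ℕ × ℕ × ℕ) (M : ℕ) : Bool :=
  Enum.allRange (fun c => Nat.beq (tget T.1 c) (app M c) &&
    Nat.beq (tget T.2.1 c) (app M (Nat.shiftLeft c 6)) &&
    Nat.beq (tget T.2.2 c) (app M (Nat.shiftLeft c 12))) 8 0 64

/-- Product by chunk tables with the first `n` columns. -/
def tmulAux : ℕ → ℕ × ℕ × ℕ → ℕ → ℕ
  | 0, _, _ => 0
  | n + 1, T, N => tapp T (Nat.land N 262143) + Nat.shiftLeft (tmulAux n T (Nat.shiftRight N 18)) 18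

/-- Product of a tabled matrix with a packed matrix. -/
def tmul (T : ℕ × ℕ × ℕ) (N : ℕ) : ℕ := tmulAux 9 T N

/-- The identity matrix. -/
def idCode : ℕ := 0x10000100001000010000100001000010000100001

/-! ### Bit facts -/

theorem evenMask_lt : evenMask < 2 ^ 162 := by decide

theorem oddMask_lt : oddMask < 2 ^ 162 := by decide

theorem testBit_evenMask (n : ℕ) : evenMask.testBit n = decide (n < 162 ∧ n % 2 = 0) := by
  rcases Nat.lt_or_ge n 162 with h | h
  · have : ∀ i : Fin 162, evenMask.testBit i = decide ((i : ℕ) % 2 = 0) := by decide +kernel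
    rw [this ⟨n, h⟩]; simp [h]
  · rw [Nat.testBit_lt_two_pow (lt_of_lt_of_le evenMask_lt (Nat.pow_le_pow_right (by norm_num) h))]
    simp; omega

theorem testBit_oddMask (n : ℕ) : oddMask.testBit n = decide (n < 162 ∧ n % 2 = 1) := by
  rcases Nat.lt_or_ge n 162 with h | h
  · have : ∀ i : Fin 162, oddMask.testBit i = decide ((i : ℕ) % 2 = 1) := by decide +kernel
    rw [this ⟨n, h⟩]; simp [h]
  · rw [Nat.testBit_lt_two_pow (lt_of_lt_of_le oddMask_lt (Nat.pow_le_pow_right (by norm_num) h))]
    simp; omega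

theorem testBit_mulW (v n : ℕ) : (mulW v).testBit n =
    (decide (n < 162) && bif decide (n % 2 = 0) then v.testBit (n + 1)
      else (v.testBit (n - 1) ^^ v.testBit n)) := by
  have key : mulW v = (v &&& oddMask) >>> 1 ||| ((v &&& evenMask) <<< 1 ^^^ (v &&& oddMask)) := rfl
  rw [key]
  simp only [Nat.testBit_or, Nat.testBit_xor, Nat.testBit_and, Nat.testBit_shiftRight,
    Nat.testBit_shiftLeft, testBit_evenMask, testBit_oddMask, Nat.add_comm 1 n]
  by_cases h2 : n % 2 = 0
  · have a1 : (n + 1) % 2 = 1 := by omega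
    have a2 : n ≥ 1 → (n - 1) % 2 = 1 := by omega
    by_cases h : n < 162
    · have a3 : n + 1 < 162 := by omega
      by_cases h0 : 1 ≤ n
      · simp [h2, a1, a2 h0, h, a3]
      · simp [h2, a1, h0, h, a3]
    · have a3 : ¬ n + 1 < 162 := by omega
      by_cases h0 : 1 ≤ n
      · simp [h2, a2 h0, h, a3]
      · omega
  · have a1 : (n + 1) % 2 = 0 := by omega
    have a2 : (n - 1) % 2 = 0 := by omega
    have h0 : 1 ≤ n := by omega
    by_cases h : n < 162
    · have a3 : n - 1 < 162 := by omega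
      have h1 : n % 2 = 1 := by omega
      simp [h1, a1, a2, h, a3, h0]
    · have a4 : ¬ (n - 1 < 162 ∧ (n - 1) % 2 = 0) := by omega
      simp [a1, h]
      intro _ _
      omega

theorem mulW_lt (v : ℕ) : mulW v < 2 ^ 162 :=
  Nat.lt_pow_two_of_testBit _ fun i hi => by
    rw [testBit_mulW]; simp [Nat.not_lt.mpr hi]

theorem mulW_lt18 {v : ℕ} (h : v < 2 ^ 18) : mulW v < 2 ^ 18 :=
  Nat.lt_pow_two_of_testBit _ fun i hi => by
    have hz : ∀ j, 18 ≤ j → v.testBit j = false := fun j hj =>
      Nat.testBit_lt_two_pow (lt_of_lt_of_le h (Nat.pow_le_pow_right (by norm_num) hj))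
    rw [testBit_mulW]
    by_cases h2 : i % 2 = 0
    · simp [h2, hz (i + 1) (by omega)]
    · simp [h2, hz i hi, hz (i - 1) (by omega)]

theorem testBit_col (M j n : ℕ) : (col M j).testBit n = (decide (n < 18) && M.testBit (18 * j + n)) := by
  rw [show col M j = (M >>> (18 * j)) % 2 ^ 18 from Nat.and_two_pow_sub_one_eq_mod _ 18,
    Nat.testBit_mod_two_pow, Nat.testBit_shiftRight]

theorem col_lt (M j : ℕ) : col M j < 2 ^ 18 :=
  Nat.lt_pow_two_of_testBit _ fun i hi => by rw [testBit_col]; simp [Nat.not_lt.mpr hi]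

theorem col_zero (M : ℕ) : col M 0 = Nat.land M 262143 := by simp [col]

theorem col_succ (M j : ℕ) : col M (j + 1) = col (Nat.shiftRight M 18) j := by
  apply Nat.eq_of_testBit_eq
  intro n
  rw [testBit_col, testBit_col, show Nat.shiftRight M 18 = M >>> 18 from rfl, Nat.testBit_shiftRight]
  congr 2
  ring

theorem col_mulW {j : ℕ} (M : ℕ) (hj : j < 9) : col (mulW M) j = mulW (col M j) := by
  apply Nat.eq_of_testBit_eq
  intro n
  rw [testBit_col, testBit_mulW, testBit_mulW, testBit_col, testBit_col, testBit_col]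
  by_cases hn : n < 18
  · have e : (18 * j + n) % 2 = n % 2 := by omega
    by_cases h2 : n % 2 = 0
    · have : n + 1 < 18 := by omega
      simp [hn, e, h2, this, show 18 * j + n < 162 by omega, show n < 162 by omega, Nat.add_assoc]
    · have h0 : 18 * j + n - 1 = 18 * j + (n - 1) := by omega
      simp [hn, e, h2, h0, show n - 1 < 18 by omega, show 18 * j + n < 162 by omega,
        show n < 162 by omega]
  · by_cases h2 : n % 2 = 0
    · simp [hn, h2, show ¬ n + 1 < 18 by omega]
    · simp [hn, h2, show ¬ n - 1 < 18 by omega]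

theorem scal_lt {c u : ℕ} (hu : u < 2 ^ 18) : scal c u < 2 ^ 18 := by
  rw [scal]
  cases Nat.beq c 0 <;> cases Nat.beq c 1 <;> cases Nat.beq c 2 <;>
    simp only [cond_true, cond_false] <;>
    first
      | exact mulW_lt18 (mulW_lt18 hu)
      | exact mulW_lt18 hu
      | exact hu
      | norm_num

theorem appAux_lt : ∀ n M v, appAux n M v < 2 ^ 18
  | 0, _, _ => by simp [appAux]
  | n + 1, M, v => by
    rw [appAux, ← col_zero]
    exact Nat.xor_lt_two_pow (scal_lt (col_lt M 0)) (appAux_lt n _ _)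

theorem app_lt (M v : ℕ) : app M v < 2 ^ 18 := appAux_lt 9 M v

theorem tget_lt (T c : ℕ) : tget T c < 2 ^ 18 := col_lt T c

theorem tapp_lt (T : ℕ × ℕ × ℕ) (v : ℕ) : tapp T v < 2 ^ 18 :=
  Nat.xor_lt_two_pow (tget_lt _ _) (Nat.xor_lt_two_pow (tget_lt _ _) (tget_lt _ _))

theorem col_cons {x y : ℕ} (hx : x < 2 ^ 18) :
    col (x + Nat.shiftLeft y 18) 0 = x ∧ Nat.shiftRight (x + Nat.shiftLeft y 18) 18 = y := by
  have e : Nat.shiftLeft y 18 = y * 2 ^ 18 := Nat.shiftLeft_eq y 18
  constructor
  · rw [col_zero, show Nat.land (x + Nat.shiftLeft y 18) 262143 = (x + Nat.shiftLeft y 18) % 2 ^ 18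
      from Nat.and_two_pow_sub_one_eq_mod _ 18, e]
    omega
  · rw [show Nat.shiftRight (x + Nat.shiftLeft y 18) 18 = (x + Nat.shiftLeft y 18) / 2 ^ 18 from
      Nat.shiftRight_eq_div_pow _ 18, e]
    omega

theorem col_mmulAux : ∀ n M N j, j < n → col (mmulAux n M N) j = app M (col N j)
  | 0, _, _, _, h => absurd h (Nat.not_lt_zero _)
  | n + 1, M, N, j, h => by
    rw [mmulAux]
    obtain ⟨h0, h1⟩ := col_cons (y := mmulAux n M (Nat.shiftRight N 18)) (app_lt M (Nat.land N 262143))
    cases j with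
    | zero => rw [h0, col_zero]
    | succ j => rw [col_succ, h1, col_mmulAux n M _ j (by omega), ← col_succ]

theorem mmulAux_lt : ∀ n M N, mmulAux n M N < 2 ^ (18 * n)
  | 0, _, _ => by simp [mmulAux]
  | n + 1, M, N => by
    have h1 := app_lt M (Nat.land N 262143)
    have h2 := mmulAux_lt n M (Nat.shiftRight N 18)
    rw [mmulAux, show Nat.shiftLeft (mmulAux n M (Nat.shiftRight N 18)) 18 =
      mmulAux n M (Nat.shiftRight N 18) * 2 ^ 18 from Nat.shiftLeft_eq _ 18,
      show 18 * (n + 1) = 18 * n + 18 by ring, pow_add]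
    generalize app M (Nat.land N 262143) = x at h1 ⊢
    generalize mmulAux n M (Nat.shiftRight N 18) = y at h2 ⊢
    calc x + y * 2 ^ 18 < 2 ^ 18 + y * 2 ^ 18 := by omega
      _ = (y + 1) * 2 ^ 18 := by ring
      _ ≤ _ := Nat.mul_le_mul_right _ h2

theorem mmul_lt (M N : ℕ) : mmul M N < 2 ^ 162 := mmulAux_lt 9 M N

theorem col_tmulAux : ∀ n T N j, j < n → col (tmulAux n T N) j = tapp T (col N j)
  | 0, _, _, _, h => absurd h (Nat.not_lt_zero _)
  | n + 1, T, N, j, h => by
    rw [tmulAux]
    obtain ⟨h0, h1⟩ := col_cons (y := tmulAux n T (Nat.shiftRight N 18)) (tapp_lt T (Nat.land N 262143))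
    cases j with
    | zero => rw [h0, col_zero]
    | succ j => rw [col_succ, h1, col_tmulAux n T _ j (by omega), ← col_succ]

/-! ### Meaning in a field -/

/-- The place of an index. -/
def idx (z : F9) : ℕ := 3 * z.1.val + z.2.val

theorem idx_lt (z : F9) : idx z < 9 := by
  have : ∀ z : F9, idx z < 9 := by decide
  exact this z

section

variable {F : Type*} [Field F] (ω : F)

/-- A bit as a field element. -/
def bitVal (b : Bool) : F := bif b then 1 else 0

/-- Coordinate `i` of a packed vector. -/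
def coord (v i : ℕ) : F := bitVal (v.testBit (2 * i)) + ω * bitVal (v.testBit (2 * i + 1))

/-- The vector of a code. -/
def dec (v : ℕ) : F9 → F := fun z => coord ω v (idx z)

/-- The matrix of a code. -/
def mat (M : ℕ) : Matrix F9 F9 F := Matrix.of fun z w => dec ω (col M (idx w)) z

/-- The hypotheses on the field. -/
structure Good : Prop where
  two : (2 : F) = 0
  root : ω ^ 2 + ω + 1 = 0

theorem good_of_card [Fintype F] (hF : Fintype.card F = 4) (hω : ω ^ 2 + ω + 1 = 0) : Good ω := by
  refine ⟨?_, hω⟩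
  have h := FiniteField.cast_card_eq_zero F
  rw [hF] at h
  have h4 : (2 : F) * 2 = 0 := by rw [← h]; norm_num
  exact mul_self_eq_zero.mp h4

variable {ω} (hg : Good ω)
include hg

theorem ne_zero : ω ≠ 0 := by
  intro h
  have := hg.root
  simp [h] at this

theorem ne_one : ω ≠ 1 := by
  intro h
  have h1 := hg.root
  rw [h] at h1
  have : (1 : F) = 0 := by linear_combination h1 - hg.two
  exact one_ne_zero this

theorem sq_eq : ω ^ 2 = ω + 1 := by linear_combination hg.root - (ω + 1) * hg.two

theorem bitVal_xor (a b : Bool) : bitVal (F := F) (a ^^ b) = bitVal a + bitVal b := by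
  cases a <;> cases b <;> simp [bitVal]
  linear_combination -hg.two

theorem coord_xor (u v i : ℕ) : coord ω (Nat.xor u v) i = coord ω u i + coord ω v i := by
  rw [show Nat.xor u v = u ^^^ v from rfl]
  simp only [coord, Nat.testBit_xor, bitVal_xor hg]
  ring

theorem dec_xor (u v : ℕ) : dec ω (Nat.xor u v) = dec ω u + dec ω v :=
  funext fun _ => coord_xor hg u v _

theorem coord_mulW (v : ℕ) {i : ℕ} (hi : i < 81) : coord ω (mulW v) i = ω * coord ω v i := by
  have e1 : (mulW v).testBit (2 * i) = v.testBit (2 * i + 1) := by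
    rw [testBit_mulW]; simp; omega
  have e2 : (mulW v).testBit (2 * i + 1) = (v.testBit (2 * i) ^^ v.testBit (2 * i + 1)) := by
    rw [testBit_mulW]; simp [show 2 * i + 1 < 162 by omega]
  simp only [coord, e1, e2, bitVal_xor hg]
  linear_combination (-(bitVal (F := F) (v.testBit (2 * i + 1)))) * sq_eq hg

theorem dec_mulW (v : ℕ) : dec ω (mulW v) = ω • dec ω v :=
  funext fun z => coord_mulW hg v (lt_trans (idx_lt z) (by norm_num))

theorem mat_mulW (M : ℕ) : mat ω (mulW M) = ω • mat ω M := by
  ext z w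
  simp only [mat, Matrix.of_apply, Matrix.smul_apply, col_mulW M (idx_lt w), dec_mulW hg,
    Pi.smul_apply]

omit hg in
theorem coord_zero (i : ℕ) : coord ω 0 i = 0 := by simp [coord, bitVal]

theorem coord_scal {c : ℕ} (hc : c < 4) (u : ℕ) {i : ℕ} (hi : i < 81) :
    coord ω (scal c u) i = (bitVal (c.testBit 0) + ω * bitVal (c.testBit 1)) * coord ω u i := by
  interval_cases c
  · rw [show scal 0 u = 0 from rfl, coord_zero]; simp [bitVal]
  · rw [show scal 1 u = u from rfl]; simp [bitVal, Nat.testBit]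
  · rw [show scal 2 u = mulW u from rfl, coord_mulW hg u hi]; simp [bitVal, Nat.testBit]
  · rw [show scal 3 u = mulW (mulW u) from rfl, coord_mulW hg _ hi, coord_mulW hg u hi]
    simp [bitVal, Nat.testBit]
    linear_combination coord ω u i * sq_eq hg

theorem coord_appAux : ∀ n M v {i : ℕ}, i < 81 → coord ω (appAux n M v) i =
    ∑ j ∈ Finset.range n, coord ω v j * coord ω (col M j) i
  | 0, _, _, _, _ => by simp [appAux, coord_zero]
  | n + 1, M, v, i, hi => by
    rw [appAux, coord_xor hg, coord_appAux n _ _ hi, Finset.sum_range_succ', add_comm]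
    congr 1
    · refine Finset.sum_congr rfl fun j _ => ?_
      rw [col_succ, show Nat.shiftRight v 2 = v >>> 2 from rfl]
      congr 1
      simp only [coord, Nat.testBit_shiftRight]
      ring_nf
    · have hc : Nat.land v 3 < 4 := by
        rw [show Nat.land v 3 = v % 2 ^ 2 from Nat.and_two_pow_sub_one_eq_mod v 2]
        exact Nat.mod_lt _ (by norm_num)
      rw [coord_scal hg hc _ hi, ← col_zero,
        show Nat.land v 3 = v % 2 ^ 2 from Nat.and_two_pow_sub_one_eq_mod v 2]
      simp only [coord, Nat.testBit_mod_two_pow, Nat.mul_zero, zero_add, show (0 : ℕ) < 2 by norm_num,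
        show (1 : ℕ) < 2 by norm_num, decide_true, Bool.true_and]

omit hg in
theorem sum_idx (f : ℕ → F) : ∑ z : F9, f (idx z) = ∑ j ∈ Finset.range 9, f j := by
  refine Finset.sum_bij (fun z _ => idx z) (fun z _ => Finset.mem_range.mpr (idx_lt z)) ?_ ?_
    (fun _ _ => rfl)
  · have : ∀ a b : F9, idx a = idx b → a = b := by decide
    exact fun a _ b _ h => this a b h
  · have : ∀ j < 9, ∃ z : F9, idx z = j := by decide
    intro j hj
    obtain ⟨z, hz⟩ := this j (Finset.mem_range.mp hj)
    exact ⟨z, Finset.mem_univ z, hz⟩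

theorem dec_app (M v : ℕ) : dec ω (app M v) = mat ω M *ᵥ dec ω v := by
  funext z
  rw [dec, app, coord_appAux hg 9 M v (lt_trans (idx_lt z) (by norm_num))]
  rw [← sum_idx (fun j => coord ω v j * coord ω (col M j) (idx z))]
  simp only [Matrix.mulVec, dotProduct, mat, Matrix.of_apply, dec]
  exact Finset.sum_congr rfl fun w _ => mul_comm _ _

theorem mat_mmul (M N : ℕ) : mat ω (mmul M N) = mat ω M * mat ω N := by
  ext z w
  have := congrFun (dec_app hg M (col N (idx w))) z
  simp only [mat, Matrix.of_apply, mmul, col_mmulAux 9 M N _ (idx_lt w), this, Matrix.mulVec,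
    dotProduct, Matrix.mul_apply]

theorem bits_inj {a b a' b' : Bool} (h : bitVal (F := F) a + ω * bitVal b = bitVal a' + ω * bitVal b') :
    a = a' ∧ b = b' := by
  have h0 := ne_zero hg
  have h1 := ne_one hg
  have hroot := hg.root
  have htwo := hg.two
  have h2 : (1 : F) + ω ≠ 0 := by
    intro e
    apply one_ne_zero (α := F)
    linear_combination hroot - ω * e
  cases a <;> cases b <;> cases a' <;> cases b' <;> simp only [bitVal, cond_true, cond_false,
    mul_one, mul_zero, add_zero, zero_add] at h <;>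
    first
      | exact ⟨rfl, rfl⟩
      | exact absurd h h0
      | exact absurd h.symm h0
      | exact absurd h h1
      | exact absurd h.symm h1
      | exact absurd h h2
      | exact absurd h.symm h2
      | exact absurd h one_ne_zero
      | exact absurd h.symm one_ne_zero
      | exact absurd (by linear_combination h) h0
      | exact absurd (by linear_combination -h) h0
      | exact absurd (by linear_combination h) (one_ne_zero (α := F))
      | exact absurd (by linear_combination -h) (one_ne_zero (α := F))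

theorem dec_inj {u v : ℕ} (hu : u < 2 ^ 18) (hv : v < 2 ^ 18) (h : dec ω u = dec ω v) : u = v := by
  apply Nat.eq_of_testBit_eq
  intro n
  rcases Nat.lt_or_ge n 18 with hn | hn
  · have : ∀ i < 9, ∃ z : F9, idx z = i := by decide
    obtain ⟨z, hz⟩ := this (n / 2) (by omega)
    have h' := bits_inj hg (congrFun h z)
    rw [hz] at h'
    rcases Nat.mod_two_eq_zero_or_one n with e | e
    · rw [show n = 2 * (n / 2) by omega]; exact h'.1
    · rw [show n = 2 * (n / 2) + 1 by omega]; exact h'.2
  · rw [Nat.testBit_lt_two_pow (lt_of_lt_of_le hu (Nat.pow_le_pow_right (by norm_num) hn)),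
      Nat.testBit_lt_two_pow (lt_of_lt_of_le hv (Nat.pow_le_pow_right (by norm_num) hn))]

theorem mat_inj {M N : ℕ} (hM : M < 2 ^ 162) (hN : N < 2 ^ 162) (h : mat ω M = mat ω N) : M = N := by
  apply Nat.eq_of_testBit_eq
  intro n
  rcases Nat.lt_or_ge n 162 with hn | hn
  · have : ∀ i < 9, ∃ z : F9, idx z = i := by decide
    obtain ⟨w, hw⟩ := this (n / 18) (by omega)
    have hc : col M (n / 18) = col N (n / 18) := by
      rw [← hw]
      exact dec_inj hg (col_lt _ _) (col_lt _ _) (funext fun z => congrFun (congrFun h z) w)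
    have := congrArg (fun x => x.testBit (n % 18)) hc
    simp only [testBit_col, Nat.mod_lt n (show 18 > 0 by norm_num), decide_true, Bool.true_and,
      Nat.div_add_mod n 18] at this
    exact this
  · rw [Nat.testBit_lt_two_pow (lt_of_lt_of_le hM (Nat.pow_le_pow_right (by norm_num) hn)),
      Nat.testBit_lt_two_pow (lt_of_lt_of_le hN (Nat.pow_le_pow_right (by norm_num) hn))]

theorem dec_tapp {T : ℕ × ℕ × ℕ} {M : ℕ} (hT : chkTab T M = true) (v : ℕ) (hv : v < 2 ^ 18) :
    dec ω (tapp T v) = mat ω M *ᵥ dec ω v := by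
  have hc : ∀ c < 64, tget T.1 c = app M c ∧ tget T.2.1 c = app M (Nat.shiftLeft c 6) ∧
      tget T.2.2 c = app M (Nat.shiftLeft c 12) := by
    intro c hc
    have h := Enum.allRange_spec 8 0 64 hT c (Nat.zero_le _) (by omega)
    simp only [Bool.and_eq_true] at h
    exact ⟨Nat.eq_of_beq_eq_true h.1.1, Nat.eq_of_beq_eq_true h.1.2, Nat.eq_of_beq_eq_true h.2⟩
  have hm : ∀ x, Nat.land x 63 = x % 2 ^ 6 := fun x => Nat.and_two_pow_sub_one_eq_mod x 6
  have hl : ∀ x, Nat.land x 63 < 64 := fun x => by rw [hm]; exact Nat.mod_lt _ (by norm_num)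
  have hsplit : Nat.xor (Nat.land v 63) (Nat.xor (Nat.shiftLeft (Nat.land (Nat.shiftRight v 6) 63) 6)
      (Nat.shiftLeft (Nat.land (Nat.shiftRight v 12) 63) 12)) = v := by
    apply Nat.eq_of_testBit_eq
    intro n
    simp only [hm]
    show ((v % 2 ^ 6) ^^^ ((((v >>> 6) % 2 ^ 6) <<< 6) ^^^ (((v >>> 12) % 2 ^ 6) <<< 12))).testBit n = _
    simp only [Nat.testBit_xor, Nat.testBit_mod_two_pow, Nat.testBit_shiftLeft, Nat.testBit_shiftRight]
    rcases Nat.lt_or_ge n 6 with h1 | h1
    · simp [h1, show ¬ 6 ≤ n by omega, show ¬ 12 ≤ n by omega]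
    rcases Nat.lt_or_ge n 12 with h2 | h2
    · simp [h1, show ¬ n < 6 by omega, show ¬ 12 ≤ n by omega, show n - 6 < 6 by omega,
        show 6 + (n - 6) = n by omega]
    rcases Nat.lt_or_ge n 18 with h3 | h3
    · simp [show ¬ n < 6 by omega, h2, h1, show ¬ n - 6 < 6 by omega, show n - 12 < 6 by omega,
        show 12 + (n - 12) = n by omega]
    · simp [show ¬ n < 6 by omega, show ¬ n - 6 < 6 by omega, show ¬ n - 12 < 6 by omega,
        Nat.testBit_lt_two_pow (lt_of_lt_of_le hv (Nat.pow_le_pow_right (by norm_num) h3))]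
  conv_rhs => rw [← hsplit]
  rw [tapp, dec_xor hg, dec_xor hg, (hc _ (hl _)).1, (hc _ (hl _)).2.1, (hc _ (hl _)).2.2,
    dec_app hg, dec_app hg, dec_app hg, dec_xor hg, dec_xor hg, Matrix.mulVec_add, Matrix.mulVec_add]

theorem mat_tmul {T : ℕ × ℕ × ℕ} {M : ℕ} (hT : chkTab T M = true) (N : ℕ) :
    mat ω (tmul T N) = mat ω M * mat ω N := by
  ext z w
  have := congrFun (dec_tapp hg hT (col N (idx w)) (col_lt _ _)) z
  simp only [mat, Matrix.of_apply, tmul, col_tmulAux 9 T N _ (idx_lt w), this, Matrix.mulVec,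
    dotProduct, Matrix.mul_apply]

omit hg in
theorem mat_idCode : mat ω idCode = 1 := by
  have key : ∀ z w : F9, (col idCode (idx w)).testBit (2 * idx z) = decide (z = w) ∧
      (col idCode (idx w)).testBit (2 * idx z + 1) = false := by decide +kernel
  ext z w
  obtain ⟨k1, k2⟩ := key z w
  simp only [mat, Matrix.of_apply, dec, coord, k1, k2, Matrix.one_apply]
  by_cases h : z = w <;> simp [h, bitVal]

theorem peq_spec {V : Type*} [AddCommGroup V] [Module F V] {f : ℕ → V}
    (hf : ∀ x, f (mulW x) = ω • f x) {u v : ℕ} (h : peq u v = true) :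
    ∃ c : F, c ≠ 0 ∧ f u = c • f v := by
  simp only [peq, Bool.or_eq_true] at h
  rcases h with (h | h) | h <;> rw [Nat.eq_of_beq_eq_true h]
  · exact ⟨1, one_ne_zero, (one_smul F _).symm⟩
  · exact ⟨ω, ne_zero hg, hf v⟩
  · exact ⟨ω * ω, mul_ne_zero (ne_zero hg) (ne_zero hg), by rw [hf, hf, smul_smul]⟩

omit hg in
theorem nonzero_cases [Fintype F] (hF : Fintype.card F = 4) (hg : Good ω) {c : F} (hc : c ≠ 0) :
    c = 1 ∨ c = ω ∨ c = ω * ω := by
  classical
  have h3 : ω * ω = ω + 1 := by rw [← sq]; exact sq_eq hg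
  have n1 : ω + 1 ≠ 0 := h3 ▸ mul_ne_zero (ne_zero hg) (ne_zero hg)
  have n2 : ω + 1 ≠ 1 := fun e => ne_zero hg (by linear_combination e)
  have n3 : ω + 1 ≠ ω := fun e => one_ne_zero (α := F) (by linear_combination e)
  have hu : ({0, 1, ω, ω + 1} : Finset F) = Finset.univ := by
    apply Finset.eq_univ_of_card
    rw [hF, Finset.card_insert_of_notMem, Finset.card_insert_of_notMem, Finset.card_insert_of_notMem,
      Finset.card_singleton]
    all_goals simp [n1.symm, n2.symm, n3.symm, (ne_zero hg).symm, (ne_one hg).symm, ne_zero hg]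
  have hm : c ∈ ({0, 1, ω, ω + 1} : Finset F) := hu ▸ Finset.mem_univ c
  simp only [Finset.mem_insert, Finset.mem_singleton] at hm
  rw [h3]
  exact hm.resolve_left hc

theorem isMin_unique [Fintype F] (hF : Fintype.card F = 4) {V : Type*} [AddCommGroup V] [Module F V]
    {f : ℕ → V} {S : ℕ → Prop} (hf : ∀ x, f (mulW x) = ω • f x) (hS : ∀ x, S x → S (mulW x))
    (hinj : ∀ x y, S x → S y → f x = f y → x = y)
    {u v : ℕ} (hu : S u) (hv : S v) (mu : isMin u = true) (mv : isMin v = true) {c : F} (hc : c ≠ 0)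
    (h : f u = c • f v) : u = v := by
  simp only [isMin, Bool.and_eq_true, Nat.blt, Nat.ble_eq] at mu mv
  have w3 : ∀ x, S x → mulW (mulW (mulW x)) = x := fun x hx =>
    hinj _ _ (hS _ (hS _ (hS _ hx))) hx (by
      rw [hf, hf, hf, smul_smul, smul_smul]
      convert one_smul F (f x) using 2
      linear_combination (ω - 1) * hg.root)
  rcases nonzero_cases hF hg hc with rfl | rfl | rfl
  · exact hinj _ _ hu hv (by rw [h, one_smul])
  · have e : u = mulW v := hinj _ _ hu (hS _ hv) (by rw [h, hf])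
    subst e
    rw [w3 v hv] at mu
    omega
  · have e : u = mulW (mulW v) := hinj _ _ hu (hS _ (hS _ hv)) (by rw [h, hf, hf, smul_smul])
    subst e
    rw [w3 v hv] at mu
    omega

end

end Cfsg.Agent.JankoThree
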