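import Cfsg.Agent.Lib.JankoThree.FusionData

/-!
Kernel checks for the 2-fusion system of the third Janko group.
-/

set_option autoImplicit false
set_option maxRecDepth 100000

namespace Cfsg.Agent.JankoThree.TwoFusion

open Enum (allRange)

/-- The code of a double coset product. -/
def triCode (t : ℕ × ℕ × ℕ) : ℕ :=
  mmul (Data.cert.hm t.1) (mmul (Data.cert.rep t.2.1) (Data.cert.hm t.2.2))

/-- A double coset product in range. -/
def triOk (t : ℕ × ℕ × ℕ) : Bool := Nat.blt t.1 2160 && Nat.blt t.2.1 28 && Nat.blt t.2.2 2160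

/-- Element of the Sylow subgroup. -/
def pc (i : ℕ) : ℕ := at0 pCodes i

/-- Code of a generator. -/
def gCode (g : ℕ) : ℕ := triCode ((pGens[g]?).getD (0, 0, 0))

/-- Image of an element under a generator. -/
def img (g i : ℕ) : ℕ := at0 ((pImg[g]?).getD []) i

/-- Parent and generator. -/
def upOf (i : ℕ) : ℕ × ℕ := (pUp[i]?).getD (0, 0)

/-- The code of the product of the two 2-elements. -/
def uCode : ℕ := mmul (triCode aTri) (triCode bTri)

/-- The powers of that code. -/
def uPow : ℕ → ℕ
  | 0 => idCode
  | n + 1 => mmul uCode (uPow n)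

/-- An orbit representative. -/
def orbOf (q : ℕ) : ℕ × ℕ × ℕ × ℕ := (orbReps[q]?).getD (0, 0, 0, 0)

/-- The line of an orbit representative. -/
def orbPt (q : ℕ) : ℕ := Data.cert.pt (orbOf q).1

/-- The code of the element moving the first line to an orbit representative. -/
def orbCode (q : ℕ) : ℕ := triCode (orbOf q).2

/-- The separating vectors accept an element. -/
def passes (q h : ℕ) : Bool :=
  ((orbVecs[q]?).getD []).all fun v =>
    peq (app (Data.cert.hm h) (app (pc zNum) v)) (app (Data.cert.hm (at0 orbW q)) (app (Data.cert.hm h) v))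

/-- A candidate is in a listed coset or is refuted by its witness. -/
def candOk (c : ℕ × ℕ × ℕ × ℕ × ℕ) : Bool :=
  let g := mmul (orbCode c.1) (Data.cert.hm c.2.1)
  bif Nat.beq c.2.2.1 0 then
    Nat.blt c.2.2.2.1 3 && Nat.blt c.2.2.2.2 128 && peq g (mmul (uPow c.2.2.2.1) (pc c.2.2.2.2))
  else Nat.blt c.2.2.2.1 3 &&
    allRange (fun p => !(peq (app g (app (gCode c.2.2.2.1) c.2.2.2.2)) (app (pc p) (app g c.2.2.2.2)))) 16 0 128

/-- A correct derivation from a list of known elements, ending at the generators. -/
def derives : List ℕ → List (Bool × ℕ × ℕ × ℕ) → Bool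
  | known, [] => pGenNum.all fun g => known.contains g
  | known, (m, a, b, c) :: rest =>
    Nat.blt c 128 && known.contains a &&
      (bif m then known.contains b && peq (mmul (pc a) (pc b)) (pc c)
        else triOk ((conjTri[b]?).getD (0, 0, 0)) &&
          peq (mmul (triCode ((conjTri[b]?).getD (0, 0, 0))) (pc a))
            (mmul (pc c) (triCode ((conjTri[b]?).getD (0, 0, 0))))) &&
      derives (c :: known) rest

theorem group_check :
    (allRange (fun g => triOk ((pGens[g]?).getD (0, 0, 0)) && Nat.blt (at0 pGenNum g) 128 &&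
      peq (gCode g) (pc (at0 pGenNum g)) &&
      allRange (fun i => Nat.blt (img g i) 128 && peq (mmul (gCode g) (pc i)) (pc (img g i))) 16 0 128) 8 0 3) = true ∧
    (Nat.beq pGens.length 3 && Nat.beq pGenNum.length 3 && Nat.beq (pc 0) idCode) = true ∧
    (allRange (fun i => Nat.beq i 0 || Nat.blt (upOf i).1 i && Nat.blt (upOf i).2 3 &&
      Nat.beq (img (upOf i).2 (upOf i).1) i) 16 0 128) = true ∧
    (allRange (fun i => allRange (fun j => Nat.beq i j || !(peq (pc i) (pc j))) 16 0 128) 16 0 128) = true := by
  decide +kernel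

theorem centre_check :
    (Nat.blt zH 2160 && Nat.blt zNum 128 && peq (Data.cert.hm zH) (pc zNum) && chkTab zTab (pc zNum)) = true ∧
    (allRange (fun i => Nat.beq i 0 || Nat.beq i zNum || Nat.blt (at0 pCenWit i) 3 &&
      !(peq (mmul (gCode (at0 pCenWit i)) (pc i)) (mmul (pc i) (gCode (at0 pCenWit i))))) 16 0 128) = true ∧
    (allRange (fun g => peq (mmul (gCode g) (pc zNum)) (mmul (pc zNum) (gCode g))) 8 0 3) = true := by
  decide +kernel

theorem core_check :
    (qGens.all fun a => qElts.contains a) = true ∧
    (qElts.contains 0 && qElts.all fun a => Nat.blt a 128) = true ∧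
    (allRange (fun i => qElts.contains i || (let w := at0 qGens (at0 qWit i)
      Nat.blt (at0 qWit i) qGens.length && !(peq (mmul (pc w) (pc i)) (mmul (pc i) (pc w))))) 16 0 128) = true ∧
    (qElts.all fun a => qElts.any (fun c => peq (mmul (triCode aTri) (pc a)) (mmul (pc c) (triCode aTri))) &&
      qElts.any (fun c => peq (mmul (triCode bTri) (pc a)) (mmul (pc c) (triCode bTri))) &&
      allRange (fun g => qElts.any (fun c => peq (mmul (gCode g) (pc a)) (mmul (pc c) (gCode g)))) 8 0 3) = true := by
  decide +kernel

theorem two_check :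
    (triOk aTri && triOk bTri &&
      peq (mmul (mmul (mmul (triCode aTri) (triCode aTri)) (mmul (triCode aTri) (triCode aTri)))
        (mmul (mmul (triCode aTri) (triCode aTri)) (mmul (triCode aTri) (triCode aTri)))) idCode &&
      peq (mmul (mmul (mmul (triCode bTri) (triCode bTri)) (mmul (triCode bTri) (triCode bTri)))
        (mmul (mmul (triCode bTri) (triCode bTri)) (mmul (triCode bTri) (triCode bTri)))) idCode &&
      allRange (fun g => pCodes.any (fun p => peq (mmul uCode (gCode g)) (mmul p uCode))) 8 0 3) = true := by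
  decide +kernel

theorem fix_check :
    allRange (fun i => !(peq (tapp zTab (Data.cert.pt i)) (Data.cert.pt i)) ||
      fixLines.any (fun e => Nat.beq e.1 i)) 32 0 23256 = true ∧
    (fixLines.all fun e => Nat.blt e.2.1 128 && Nat.blt e.2.2 7 &&
      peq (app (pc e.2.1) (orbPt e.2.2)) (Data.cert.pt e.1)) = true ∧
    allRange (fun q => triOk (orbOf q).2 && Nat.blt (orbOf q).1 23256 && Nat.blt (at0 orbW q) 2160 &&
      peq (app (orbCode q) 1) (orbPt q) &&
      peq (mmul (pc zNum) (orbCode q)) (mmul (orbCode q) (Data.cert.hm (at0 orbW q)))) 8 0 7 = true := by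
  decide +kernel

theorem cand_complete :
    allRange (fun q => allRange (fun h => !(passes q h) ||
      cands.any (fun c => Nat.beq c.1 q && Nat.beq c.2.1 h)) 32 0 2160) 8 0 7 = true := by
  decide +kernel

theorem cand_check : cands.all candOk = true := by decide +kernel

theorem close_check : derives [zNum] closeData = true := by decide +kernel

end Cfsg.Agent.JankoThree.TwoFusion
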