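import Cfsg.Agent.Lib.JankoThree.Simple

/-!
Elements of the third Janko group described by packed matrices up to scalars.
-/

set_option autoImplicit false

namespace Cfsg.Agent.JankoThree.TwoFusion

open Matrix Cfsg.Spor

universe u

variable {F : Type u} [Field F] [Fintype F] {ω : F} (hy : Hyp F ω)

variable (ω) in
/-- Some lift of `x` is represented by `M`. -/
def RQ (x : J3 F ω) (M : ℕ) : Prop :=
  ∃ g : threeJ3 F ω, (QuotientGroup.mk g : J3 F ω) = x ∧ Rep ω (g : GL F9 F) M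

variable (ω) in
/-- Some lift of `x` maps the line of `u` to the line of `v`. -/
def LQ (x : J3 F ω) (u v : ℕ) : Prop :=
  ∃ g : threeJ3 F ω, (QuotientGroup.mk g : J3 F ω) = x ∧ Maps ω (g : GL F9 F) u v

include hy

theorem lift_eq {g h : threeJ3 F ω} (e : (QuotientGroup.mk g : J3 F ω) = QuotientGroup.mk h) :
    ∃ z ∈ Zs F, (h : GL F9 F) = z * g := by
  have hz := (mem_center_iff hy _).1 (QuotientGroup.eq.1 e)
  refine ⟨_, hz, ?_⟩
  rw [Zs_comm hz]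
  simp [← mul_assoc]

theorem RQ.lift {x : J3 F ω} {M : ℕ} (h : RQ ω x M) {g : threeJ3 F ω}
    (e : (QuotientGroup.mk g : J3 F ω) = x) : Rep ω (g : GL F9 F) M := by
  obtain ⟨g', e', hr⟩ := h
  obtain ⟨z, hz, he⟩ := lift_eq hy (e'.trans e.symm)
  exact he ▸ hr.zs_mul hz

theorem LQ.lift {x : J3 F ω} {u v : ℕ} (h : LQ ω x u v) {g : threeJ3 F ω}
    (e : (QuotientGroup.mk g : J3 F ω) = x) : Maps ω (g : GL F9 F) u v := by
  obtain ⟨g', e', hr⟩ := h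
  obtain ⟨z, hz, he⟩ := lift_eq hy (e'.trans e.symm)
  exact he ▸ hr.comp (maps_zs hz v)

theorem rq_one : RQ ω (1 : J3 F ω) idCode := ⟨1, rfl, rep_one hy.good⟩

theorem RQ.mul {x y : J3 F ω} {M N : ℕ} (hx : RQ ω x M) (hy' : RQ ω y N) :
    RQ ω (x * y) (mmul M N) := by
  obtain ⟨g, rfl, hg⟩ := hx
  obtain ⟨h, rfl, hh⟩ := hy'
  exact ⟨g * h, rfl, hg.mul hy.good hh⟩

theorem RQ.congr {x : J3 F ω} {M N : ℕ} (hx : RQ ω x M) (e : peq M N = true) : RQ ω x N := by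
  obtain ⟨g, rfl, hg⟩ := hx
  exact ⟨g, rfl, hg.congr hy.good e⟩

theorem RQ.congr' {x : J3 F ω} {M N : ℕ} (hx : RQ ω x N) (e : peq M N = true) : RQ ω x M := by
  obtain ⟨g, rfl, hg⟩ := hx
  exact ⟨g, rfl, hg.congr' hy.good e⟩

theorem RQ.inj {x y : J3 F ω} {M : ℕ} (hx : RQ ω x M) (hy' : RQ ω y M) : x = y := by
  obtain ⟨g, rfl, hg⟩ := hx
  obtain ⟨h, rfl, hh⟩ := hy'
  obtain ⟨z, hz, e⟩ := hg.unique hh
  refine QuotientGroup.eq.2 ((mem_center_iff hy _).2 ?_)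
  rw [Subgroup.coe_mul, InvMemClass.coe_inv, e, Zs_comm hz, inv_mul_cancel_left]
  exact hz

theorem RQ.eq {x y : J3 F ω} {M N : ℕ} (hx : RQ ω x M) (hy' : RQ ω y N) (e : peq M N = true) : x = y :=
  RQ.inj hy (RQ.congr hy hx e) hy'

theorem peq_of_smul {V : Type*} [AddCommGroup V] [Module F V] {f : ℕ → V} {S : ℕ → Prop}
    (hf : ∀ x, f (mulW x) = ω • f x) (hS : ∀ x, S x → S (mulW x))
    (hinj : ∀ x y, S x → S y → f x = f y → x = y) {u v : ℕ} (hu : S u) (hv : S v) {c : F} (hc : c ≠ 0)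
    (h : f u = c • f v) : peq u v = true := by
  simp only [peq, Bool.or_eq_true, Nat.beq_eq]
  rcases nonzero_cases hy.card hy.good hc with rfl | rfl | rfl
  · exact Or.inl (Or.inl (hinj _ _ hu hv (by rw [h, one_smul])))
  · exact Or.inl (Or.inr (hinj _ _ hu (hS _ hv) (by rw [h, hf])))
  · exact Or.inr (hinj _ _ hu (hS _ (hS _ hv)) (by rw [h, hf, hf, smul_smul]))

theorem RQ.peq {x : J3 F ω} {M N : ℕ} (hx : RQ ω x M) (hx' : RQ ω x N) (hM : M < 2 ^ 162)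
    (hN : N < 2 ^ 162) : JankoThree.peq M N = true := by
  obtain ⟨g, e, ⟨a, ha, ea⟩⟩ := hx
  obtain ⟨b, hb, eb⟩ := RQ.lift hy hx' e
  refine peq_of_smul hy (f := mat ω) (S := fun x => x < 2 ^ 162) (mat_mulW hy.good)
    (fun x _ => mulW_lt x) (fun x y hx hy' => mat_inj hy.good hx hy') hM hN
    (mul_ne_zero (inv_ne_zero ha) hb) ?_
  rw [← smul_smul, ← eb, ea, smul_smul, inv_mul_cancel₀ ha, one_smul]

theorem RQ.maps {x : J3 F ω} {M : ℕ} (hx : RQ ω x M) (u : ℕ) : LQ ω x u (app M u) := by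
  obtain ⟨g, rfl, hg⟩ := hx
  exact ⟨g, rfl, hg.maps hy.good (by simp [JankoThree.peq])⟩

theorem RQ.maps' {x : J3 F ω} {M u v : ℕ} (hx : RQ ω x M) (e : JankoThree.peq (app M u) v = true) :
    LQ ω x u v := by
  obtain ⟨g, rfl, hg⟩ := hx
  exact ⟨g, rfl, hg.maps hy.good e⟩

theorem LQ.mul {x y : J3 F ω} {u v w : ℕ} (hy' : LQ ω y u v) (hx : LQ ω x v w) : LQ ω (x * y) u w := by
  obtain ⟨g, rfl, hg⟩ := hx
  obtain ⟨h, rfl, hh⟩ := hy'
  exact ⟨g * h, rfl, hh.comp hg⟩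

theorem LQ.inv {x : J3 F ω} {u v : ℕ} (hx : LQ ω x u v) : LQ ω x⁻¹ v u := by
  obtain ⟨g, rfl, hg⟩ := hx
  exact ⟨g⁻¹, rfl, hg.symm⟩

theorem LQ.peq {x : J3 F ω} {u v w : ℕ} (h1 : LQ ω x u v) (h2 : LQ ω x u w) (hv : v < 2 ^ 18)
    (hw : w < 2 ^ 18) : JankoThree.peq v w = true := by
  obtain ⟨g, e, ⟨a, ha, ea⟩⟩ := h1
  obtain ⟨b, hb, eb⟩ := LQ.lift hy h2 e
  refine peq_of_smul hy (f := dec ω) (S := fun x => x < 2 ^ 18) (dec_mulW hy.good)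
    (fun x hx => mulW_lt18 hx) (fun x y hx hy' => dec_inj hy.good hx hy') hv hw
    (mul_ne_zero (inv_ne_zero ha) hb) ?_
  rw [← smul_smul, ← eb, ea, smul_smul, inv_mul_cancel₀ ha, one_smul]

end Cfsg.Agent.JankoThree.TwoFusion
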