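import Cfsg.Agent.Lib.JankoThree.FusionModel
import Cfsg.Agent.Lib.JankoThree.FusionCheck
import Cfsg.Agent.Lib.Fusion.SimpleGroupTransport

/-!
The 2-fusion system of the third Janko group is simple.
-/

set_option autoImplicit false

namespace Cfsg.Agent.JankoThree.TwoFusion

open Matrix Cfsg.Spor Cfsg.Agent.Fusion
open Enum (allRange allRange_spec)
open Cfsg.FusionSystem (centralizerIn)

universe u

variable {F : Type u} [Field F] [Fintype F] {ω : F} (hy : Hyp F ω)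

theorem pc_lt {i : ℕ} (hi : i < 128) : pc i < 2 ^ 162 := by
  have h : allRange (fun i => Nat.blt (pc i) (2 ^ 162)) 16 0 128 = true := by decide +kernel
  simpa [Nat.blt] using allRange_spec 16 0 128 h i (Nat.zero_le _) (by omega)

theorem triOk_spec {t : ℕ × ℕ × ℕ} (h : triOk t = true) : t.1 < 2160 ∧ t.2.1 < 28 ∧ t.2.2 < 2160 := by
  simp only [triOk, Bool.and_eq_true, Nat.blt_eq] at h
  exact ⟨h.1.1, h.1.2, h.2⟩

/-- The quotient map. -/
noncomputable def toJ (g : threeJ3 F ω) : J3 F ω := QuotientGroup.mk g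

/-- An element of the stabiliser. -/
noncomputable def hQ (i : ℕ) : J3 F ω := toJ ⟨hel hy i, stabH_le hy (hel_mem hy i)⟩

/-- A double coset product. -/
noncomputable def triQ (t : ℕ × ℕ × ℕ) : J3 F ω :=
  toJ ⟨hel hy t.1 * (dEl hy t.2.1 * hel hy t.2.2), mul_mem (stabH_le hy (hel_mem hy _))
    (mul_mem (dEl_mem_J hy) (stabH_le hy (hel_mem hy _)))⟩

include hy

theorem rq_hQ {i : ℕ} (hi : i < 2160) : RQ ω (hQ hy i) (Data.cert.hm i) := ⟨_, rfl, hel_rep hy hi⟩

theorem rq_tri {t : ℕ × ℕ × ℕ} (h : triOk t = true) : RQ ω (triQ hy t) (triCode t) := by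
  obtain ⟨h1, h2, h3⟩ := triOk_spec h
  exact ⟨_, rfl, (hel_rep hy h1).mul hy.good ((dEl_rep hy h2).mul hy.good (hel_rep hy h3))⟩

omit hy in
/-- A generator of the Sylow subgroup. -/
noncomputable def gQ (hy : Hyp F ω) (g : ℕ) : J3 F ω := triQ hy ((pGens[g]?).getD (0, 0, 0))

theorem gen_spec {g : ℕ} (hg : g < 3) :
    triOk ((pGens[g]?).getD (0, 0, 0)) = true ∧ RQ ω (gQ hy g) (gCode g) ∧ at0 pGenNum g < 128 ∧
      RQ ω (gQ hy g) (pc (at0 pGenNum g)) ∧
      ∀ i < 128, img g i < 128 ∧ peq (mmul (gCode g) (pc i)) (pc (img g i)) = true := by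
  have h := allRange_spec 8 0 3 group_check.1 g (Nat.zero_le _) (by omega)
  simp only [Bool.and_eq_true, Nat.blt_eq] at h
  obtain ⟨⟨⟨h1, h2⟩, h3⟩, h4⟩ := h
  refine ⟨h1, rq_tri hy h1, h2, RQ.congr hy (rq_tri hy h1) h3, fun i hi => ?_⟩
  have := allRange_spec 16 0 128 h4 i (Nat.zero_le _) (by omega)
  simp only [Bool.and_eq_true, Nat.blt_eq] at this
  exact this

theorem pc_zero : pc 0 = idCode := by
  have h := group_check.2.1
  simp only [Bool.and_eq_true] at h
  exact Nat.eq_of_beq_eq_true h.2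

omit hy in
/-- The Sylow subgroup. -/
noncomputable def syl (hy : Hyp F ω) : Subgroup (J3 F ω) :=
  Subgroup.closure {x | ∃ g < 3, x = gQ hy g}

theorem gQ_mem {g : ℕ} (hg : g < 3) : gQ hy g ∈ syl hy := Subgroup.subset_closure ⟨g, hg, rfl⟩

theorem finite_J3 : Finite (J3 F ω) := Nat.finite_of_card_ne_zero (by rw [card_J3 hy]; norm_num)

theorem exists_elt {i : ℕ} (hi : i < 128) : ∃ x ∈ syl hy, RQ ω x (pc i) := by
  induction i using Nat.strong_induction_on with
  | _ i ih =>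
    have h := allRange_spec 16 0 128 group_check.2.2.1 i (Nat.zero_le _) (by omega)
    simp only [Bool.or_eq_true, Bool.and_eq_true, Nat.blt_eq] at h
    rcases h with h | ⟨⟨h1, h2⟩, h3⟩
    · rw [Nat.eq_of_beq_eq_true h, pc_zero hy]
      exact ⟨1, one_mem _, rq_one hy⟩
    · obtain ⟨x, hx, hr⟩ := ih _ h1 (by omega)
      obtain ⟨-, hgr, -, -, hi'⟩ := gen_spec hy h2
      have := RQ.congr hy (RQ.mul hy hgr hr) (hi' _ (by omega)).2
      rw [Nat.eq_of_beq_eq_true h3] at this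
      exact ⟨_, mul_mem (gQ_mem hy h2) hx, this⟩

theorem mem_syl {x : J3 F ω} : x ∈ syl hy ↔ ∃ i < 128, RQ ω x (pc i) := by
  haveI := finite_J3 hy
  constructor
  · intro hx
    refine closure_mem_of_mul_mem (U := {x | ∃ i < 128, RQ ω x (pc i)})
      ⟨0, by norm_num, (pc_zero hy).symm ▸ rq_one hy⟩ ?_ hx
    rintro s ⟨g, hg, rfl⟩ y ⟨i, hi, hr⟩
    obtain ⟨-, hgr, -, -, hi'⟩ := gen_spec hy hg
    exact ⟨img g i, (hi' i hi).1, RQ.congr hy (RQ.mul hy hgr hr) (hi' i hi).2⟩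
  · rintro ⟨i, hi, hr⟩
    obtain ⟨y, hy', hr'⟩ := exists_elt hy hi
    exact RQ.inj hy hr' hr ▸ hy'

omit hy in
/-- An element of the Sylow subgroup. -/
noncomputable def pQ (hy : Hyp F ω) (i : ℕ) : J3 F ω :=
  if h : i < 128 then (exists_elt hy h).choose else 1

theorem pQ_mem (i : ℕ) : pQ hy i ∈ syl hy := by
  rw [pQ]; split_ifs with h
  · exact (exists_elt hy h).choose_spec.1
  · exact one_mem _

theorem rq_pQ {i : ℕ} (hi : i < 128) : RQ ω (pQ hy i) (pc i) := by
  rw [pQ, dif_pos hi]; exact (exists_elt hy hi).choose_spec.2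

theorem card_syl : Nat.card (syl hy) = 2 ^ 7 := by
  let f : Fin 128 → syl hy := fun i => ⟨pQ hy i, pQ_mem hy i⟩
  have hb : Function.Bijective f := by
    refine ⟨fun i j h => ?_, fun x => ?_⟩
    · by_contra hne
      have h' := allRange_spec 16 0 128
        (allRange_spec 16 0 128 group_check.2.2.2 i (Nat.zero_le _) (by omega)) j (Nat.zero_le _) (by omega)
      simp only [Bool.or_eq_true, Bool.not_eq_true'] at h'
      rcases h' with h' | h'
      · exact hne (Fin.ext (Nat.eq_of_beq_eq_true h'))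
      · have e : pQ hy i = pQ hy j := congrArg Subtype.val h
        rw [RQ.peq hy (rq_pQ hy i.2) (e ▸ rq_pQ hy j.2) (pc_lt i.2) (pc_lt j.2)] at h'
        exact Bool.noConfusion h'
    · obtain ⟨i, hi, hr⟩ := (mem_syl hy).1 x.2
      exact ⟨⟨i, hi⟩, Subtype.ext (RQ.inj hy (rq_pQ hy hi) hr)⟩
  rw [← Nat.card_congr (Equiv.ofBijective f hb), Nat.card_fin]
  norm_num

omit hy in
/-- The central involution. -/
noncomputable def zQ (hy : Hyp F ω) : J3 F ω := pQ hy zNum

theorem z_spec : zH < 2160 ∧ zNum < 128 ∧ peq (Data.cert.hm zH) (pc zNum) = true ∧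
    chkTab zTab (pc zNum) = true := by
  have h := centre_check.1
  simp only [Bool.and_eq_true, Nat.blt_eq] at h
  exact ⟨h.1.1.1, h.1.1.2, h.1.2, h.2⟩

theorem gen_comm {g : ℕ} (hg : g < 3) : gQ hy g * zQ hy = zQ hy * gQ hy g := by
  have h := allRange_spec 8 0 3 centre_check.2.2 g (Nat.zero_le _) (by omega)
  have hz := rq_pQ hy (z_spec hy).2.1
  exact RQ.eq hy (RQ.mul hy (gen_spec hy hg).2.1 hz) (RQ.mul hy hz (gen_spec hy hg).2.1) h

theorem z_central : ∀ y ∈ syl hy, y * zQ hy = zQ hy * y := fun y hy' => by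
  have : syl hy ≤ Subgroup.centralizer {zQ hy} := (Subgroup.closure_le _).2 fun x hx => by
    obtain ⟨g, hg, rfl⟩ := hx
    exact Subgroup.mem_centralizer_iff.2 fun w hw => by
      rw [Set.mem_singleton_iff.1 hw]; exact (gen_comm hy hg).symm
  exact (Subgroup.mem_centralizer_iff.1 (this hy') _ rfl).symm

theorem eq_one_or_z {x : J3 F ω} (hx : x ∈ syl hy) (hc : ∀ y ∈ syl hy, y * x = x * y) :
    x = 1 ∨ x = zQ hy := by
  obtain ⟨i, hi, hr⟩ := (mem_syl hy).1 hx
  have h := allRange_spec 16 0 128 centre_check.2.1 i (Nat.zero_le _) (by omega)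
  simp only [Bool.or_eq_true, Bool.and_eq_true, Nat.blt_eq, Bool.not_eq_true'] at h
  rcases h with (h | h) | ⟨hw, h⟩
  · rw [Nat.eq_of_beq_eq_true h, pc_zero hy] at hr
    exact Or.inl (RQ.inj hy hr (rq_one hy))
  · rw [Nat.eq_of_beq_eq_true h] at hr
    exact Or.inr (RQ.inj hy hr (rq_pQ hy (z_spec hy).2.1))
  · exfalso
    have hg := (gen_spec hy hw).2.1
    have e : RQ ω (gQ hy (at0 pCenWit i) * x) (mmul (pc i) (gCode (at0 pCenWit i))) := by
      rw [hc _ (gQ_mem hy hw)]; exact RQ.mul hy hr hg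
    rw [RQ.peq hy (RQ.mul hy hg hr) e (mmul_lt _ _) (mmul_lt _ _)] at h
    exact Bool.noConfusion h

theorem closed_derives {T : Subgroup (J3 F ω)}
    (hcl : ∀ g : J3 F ω, ∀ x ∈ T, g * x * g⁻¹ ∈ syl hy → g * x * g⁻¹ ∈ T) :
    ∀ (steps : List (Bool × ℕ × ℕ × ℕ)) (known : List ℕ), derives known steps = true →
      (∀ a ∈ known, a < 128 ∧ pQ hy a ∈ T) → syl hy ≤ T := by
  intro steps
  induction steps with
  | nil =>
    intro known h hk
    rw [derives, List.all_eq_true] at h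
    refine (Subgroup.closure_le _).2 fun x hx => ?_
    obtain ⟨g, hg, rfl⟩ := hx
    obtain ⟨-, -, hlt, hr, -⟩ := gen_spec hy hg
    have hlen : g < pGenNum.length := by
      have h := group_check.2.1
      simp only [Bool.and_eq_true] at h
      rw [Nat.eq_of_beq_eq_true h.1.2]; exact hg
    have hmem : at0 pGenNum g ∈ known := List.contains_iff_mem.1 (h _ (by
      rw [at0, List.getElem?_eq_getElem hlen]; exact List.getElem_mem _))
    exact RQ.inj hy (rq_pQ hy hlt) hr ▸ (hk _ hmem).2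
  | cons s rest ih =>
    intro known h hk
    obtain ⟨m, a, b, c⟩ := s
    simp only [derives, Bool.and_eq_true, Nat.blt_eq, List.contains_iff_mem] at h
    obtain ⟨⟨⟨hc, ha⟩, hstep⟩, hrest⟩ := h
    refine ih _ hrest fun x hx => ?_
    rcases List.mem_cons.1 hx with rfl | hx
    · refine ⟨hc, ?_⟩
      obtain ⟨ha1, ha2⟩ := hk a ha
      cases m
      · simp only [cond_false, Bool.and_eq_true] at hstep
        obtain ⟨ht, he⟩ := hstep
        have hr := rq_tri hy ht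
        have e : triQ hy ((conjTri[b]?).getD (0, 0, 0)) * pQ hy a *
            (triQ hy ((conjTri[b]?).getD (0, 0, 0)))⁻¹ = pQ hy x :=
          mul_inv_eq_iff_eq_mul.2
            (RQ.eq hy (RQ.mul hy hr (rq_pQ hy ha1)) (RQ.mul hy (rq_pQ hy hc) hr) he)
        exact e ▸ hcl _ _ ha2 (e.symm ▸ pQ_mem hy x)
      · simp only [cond_true, Bool.and_eq_true, List.contains_iff_mem] at hstep
        obtain ⟨hb, he⟩ := hstep
        obtain ⟨hb1, hb2⟩ := hk b hb
        exact RQ.eq hy (RQ.mul hy (rq_pQ hy ha1) (rq_pQ hy hb1)) (rq_pQ hy hc) he ▸ mul_mem ha2 hb2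
    · exact hk x hx

theorem noClosed {T : Subgroup (J3 F ω)} (hT : T ≤ syl hy) (hne : T ≠ ⊥)
    (hcl : ∀ g : J3 F ω, ∀ x ∈ T, g * x * g⁻¹ ∈ syl hy → g * x * g⁻¹ ∈ T) : syl hy ≤ T := by
  haveI : Fact (Nat.Prime 2) := ⟨Nat.prime_two⟩
  haveI := finite_J3 hy
  have hP : IsPGroup 2 (syl hy) := IsPGroup.of_card (card_syl hy)
  set K : Subgroup (syl hy) := T.subgroupOf (syl hy)
  haveI : K.Normal := ⟨fun x hx g => hcl g.1 x.1 hx (g * x * g⁻¹).2⟩
  have hKne : K ≠ ⊥ := fun h => hne (by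
    rw [Subgroup.subgroupOf_eq_bot] at h
    exact h.eq_bot_of_le hT)
  have hQ : IsPGroup 2 (ConjAct (syl hy)) := hP.of_equiv (ConjAct.toConjAct (G := syl hy))
  have hone : (1 : K) ∈ MulAction.fixedPoints (ConjAct (syl hy)) K := fun c =>
    Subtype.ext (by rw [ConjAct.Subgroup.val_conj_smul, Subgroup.coe_one, smul_one])
  have hdvd : 2 ∣ Nat.card K := by
    obtain ⟨n, hn⟩ := (hP.to_subgroup K).exists_card_eq
    rcases n with _ | n
    · exact absurd (Subgroup.card_eq_one.mp (by rw [hn, pow_zero])) hKne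
    · exact hn ▸ dvd_pow_self 2 (Nat.succ_ne_zero n)
  obtain ⟨b, hb, hb1⟩ := hQ.exists_fixed_point_of_prime_dvd_card_of_fixed_point K hdvd hone
  have hcomm : ∀ y ∈ syl hy, y * (b.1.1 : J3 F ω) = b.1.1 * y := fun y hy' => by
    have h1 := congrArg Subtype.val (hb (ConjAct.toConjAct (⟨y, hy'⟩ : syl hy)))
    rw [ConjAct.Subgroup.val_conj_smul, ConjAct.smul_def, ConjAct.ofConjAct_toConjAct] at h1
    exact mul_inv_eq_iff_eq_mul.1 (congrArg Subtype.val h1)
  rcases eq_one_or_z hy b.1.2 hcomm with h | h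
  · exact absurd (Subtype.ext (Subtype.ext h.symm)) hb1
  refine closed_derives hy hcl closeData [zNum] close_check fun a ha => ?_
  rw [List.mem_singleton] at ha
  subst ha
  refine ⟨(z_spec hy).2.1, ?_⟩
  show zQ hy ∈ T
  rw [← h]
  exact (b.2 : b.1.1 ∈ T)

theorem qElts_lt {a : ℕ} (ha : a ∈ qElts) : a < 128 := by
  have h := core_check.2.1
  simp only [Bool.and_eq_true, List.all_eq_true, Nat.blt_eq] at h
  exact h.2 a ha

theorem qGens_mem {a : ℕ} (ha : a ∈ qGens) : a ∈ qElts :=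
  List.contains_iff_mem.1 (List.all_eq_true.1 core_check.1 a ha)

omit hy in
/-- The elements listed for the normal subgroup of order 32. -/
noncomputable def coreSet (hy : Hyp F ω) : Subgroup (J3 F ω) :=
  Subgroup.closure {x | ∃ a ∈ qElts, x = pQ hy a}

theorem coreSet_le : coreSet hy ≤ syl hy := (Subgroup.closure_le _).2 fun x hx => by
  obtain ⟨a, -, rfl⟩ := hx
  exact pQ_mem hy a

theorem core_centric : centralizerIn (syl hy) (coreSet hy) ≤ coreSet hy := fun x hx => by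
  obtain ⟨hxS, hc⟩ := mem_centralizerIn.1 hx
  obtain ⟨i, hi, hr⟩ := (mem_syl hy).1 hxS
  have h := allRange_spec 16 0 128 core_check.2.2.1 i (Nat.zero_le _) (by omega)
  simp only [Bool.or_eq_true, Bool.and_eq_true, List.contains_iff_mem, Nat.blt_eq,
    Bool.not_eq_true'] at h
  rcases h with h | ⟨hlen, h⟩
  · exact RQ.inj hy (rq_pQ hy hi) hr ▸ Subgroup.subset_closure ⟨i, h, rfl⟩
  · exfalso
    have hm : at0 qGens (at0 qWit i) ∈ qElts := qGens_mem hy (by
      rw [at0, List.getElem?_eq_getElem hlen]; exact List.getElem_mem _)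
    have hw := rq_pQ hy (qElts_lt hy hm)
    have e : RQ ω (pQ hy (at0 qGens (at0 qWit i)) * x) (mmul (pc i) (pc (at0 qGens (at0 qWit i)))) := by
      rw [hc _ (Subgroup.subset_closure ⟨_, hm, rfl⟩)]; exact RQ.mul hy hr hw
    rw [RQ.peq hy (RQ.mul hy hw hr) e (mmul_lt _ _) (mmul_lt _ _)] at h
    exact Bool.noConfusion h

omit hy in
/-- The product of the two 2-elements. -/
noncomputable def uQ (hy : Hyp F ω) : J3 F ω := triQ hy aTri * triQ hy bTri

theorem two_spec : triOk aTri = true ∧ triOk bTri = true ∧ triQ hy aTri ^ 2 ^ 3 = 1 ∧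
    triQ hy bTri ^ 2 ^ 3 = 1 ∧ uQ hy ∈ Subgroup.normalizer (syl hy : Set (J3 F ω)) := by
  haveI := finite_J3 hy
  have h := two_check
  simp only [Bool.and_eq_true] at h
  obtain ⟨⟨⟨⟨ha, hb⟩, ha8⟩, hb8⟩, hu⟩ := h
  have pow8 : ∀ {x : J3 F ω} {M : ℕ}, RQ ω x M →
      peq (mmul (mmul (mmul M M) (mmul M M)) (mmul (mmul M M) (mmul M M))) idCode = true → x ^ 2 ^ 3 = 1 := by
    intro x M hx he
    have h2 := RQ.mul hy hx hx
    have h4 := RQ.mul hy h2 h2
    have h8 := RQ.eq hy (RQ.mul hy h4 h4) (rq_one hy) he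
    rw [show x ^ 2 ^ 3 = x * x * (x * x) * (x * x * (x * x)) by
      norm_num [pow_succ, mul_assoc]]
    exact h8
  refine ⟨ha, hb, pow8 (rq_tri hy ha) ha8, pow8 (rq_tri hy hb) hb8, mem_normalizer_of_forall fun y hy' => ?_⟩
  have hle : syl hy ≤ (syl hy).comap (MulAut.conj (uQ hy)).toMonoidHom := (Subgroup.closure_le _).2 fun x hx => by
    obtain ⟨g, hg, rfl⟩ := hx
    obtain ⟨p, hp, he⟩ := List.any_eq_true.1 (allRange_spec 8 0 3 hu g (Nat.zero_le _) (by omega))
    obtain ⟨i, hi, rfl⟩ := List.getElem_of_mem hp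
    have hlen : pCodes.length = 128 := rfl
    have hpc : pc i = pCodes[i] := by rw [pc, at0, List.getElem?_eq_getElem hi]; rfl
    rw [← hpc] at he
    have hu' : RQ ω (uQ hy) uCode := RQ.mul hy (rq_tri hy ha) (rq_tri hy hb)
    show uQ hy * gQ hy g * (uQ hy)⁻¹ ∈ syl hy
    rw [mul_inv_eq_iff_eq_mul.2 (RQ.eq hy (RQ.mul hy hu' (gen_spec hy hg).2.1)
      (RQ.mul hy (rq_pQ hy (hlen ▸ hi)) hu') he)]
    exact pQ_mem hy i
  exact hle hy'

theorem normalizes_core {x : J3 F ω} {M : ℕ} (hx : RQ ω x M)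
    (h : ∀ a ∈ qElts, qElts.any (fun c => peq (mmul M (pc a)) (mmul (pc c) M)) = true) :
    x ∈ Subgroup.normalizer (coreSet hy : Set (J3 F ω)) := by
  haveI := finite_J3 hy
  refine mem_normalizer_of_forall fun y hy' => ?_
  have hle : coreSet hy ≤ (coreSet hy).comap (MulAut.conj x).toMonoidHom :=
    (Subgroup.closure_le _).2 fun z hz => by
      obtain ⟨a, ha, rfl⟩ := hz
      obtain ⟨c, hc, he⟩ := List.any_eq_true.1 (h a ha)
      show x * pQ hy a * x⁻¹ ∈ coreSet hy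
      rw [mul_inv_eq_iff_eq_mul.2 (RQ.eq hy (RQ.mul hy hx (rq_pQ hy (qElts_lt hy ha)))
        (RQ.mul hy (rq_pQ hy (qElts_lt hy hc)) hx) he)]
      exact Subgroup.subset_closure ⟨c, hc, rfl⟩
  exact hle hy'

theorem fix_orbit {g : J3 F ω} (hg : g * zQ hy = zQ hy * g) :
    ∃ p < 128, ∃ q < 7, ∃ h < 2160, g = pQ hy p * (triQ hy (orbOf q).2 * hQ hy h) := by
  obtain ⟨hzH, hzN, hze, htab⟩ := z_spec hy
  obtain ⟨g', rfl⟩ := QuotientGroup.mk_surjective g
  obtain ⟨i, hi, hm⟩ := orbit_mem hy g'.2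
  have hgL : LQ ω (QuotientGroup.mk g' : J3 F ω) 1 (Data.cert.pt i) := ⟨g', rfl, hm⟩
  have hz := rq_pQ hy hzN
  have hz1 : LQ ω (zQ hy) 1 1 := by
    have : hQ hy zH = zQ hy := RQ.eq hy (rq_hQ hy hzH) hz hze
    rw [← this]; exact ⟨_, rfl, stabH_fix hy (hel_mem hy zH)⟩
  obtain ⟨z', hz'e, hz'r⟩ := hz
  have hzt : LQ ω (zQ hy) (Data.cert.pt i) (tapp zTab (Data.cert.pt i)) :=
    ⟨z', hz'e, hz'r.maps_tab hy.good htab (pt_lt i) (by simp [JankoThree.peq])⟩
  have hfix : peq (tapp zTab (Data.cert.pt i)) (Data.cert.pt i) = true := by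
    have h1 := LQ.mul hy hgL hzt
    have h2 := LQ.mul hy hz1 hgL
    rw [← hg] at h1
    exact LQ.peq hy h1 h2 (tapp_lt _ _) (pt_lt i)
  have h := allRange_spec 32 0 23256 fix_check.1 i (Nat.zero_le _) (by omega)
  rw [hfix, Bool.not_true, Bool.false_or] at h
  obtain ⟨e, he, hei⟩ := List.any_eq_true.1 h
  have h' := List.all_eq_true.1 fix_check.2.1 e he
  simp only [Bool.and_eq_true, Nat.blt_eq] at h'
  obtain ⟨⟨hp, hq⟩, hap⟩ := h'
  rw [Nat.eq_of_beq_eq_true hei] at hap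
  have ho := allRange_spec 8 0 7 fix_check.2.2 e.2.2 (Nat.zero_le _) (by omega)
  simp only [Bool.and_eq_true, Nat.blt_eq] at ho
  obtain ⟨⟨⟨⟨hot, -⟩, -⟩, hod⟩, -⟩ := ho
  have hpq : LQ ω (pQ hy e.2.1) (orbPt e.2.2) (Data.cert.pt i) := RQ.maps' hy (rq_pQ hy hp) hap
  have hd : LQ ω (triQ hy (orbOf e.2.2).2) 1 (orbPt e.2.2) := RQ.maps' hy (rq_tri hy hot) hod
  have hk : LQ ω ((pQ hy e.2.1 * triQ hy (orbOf e.2.2).2)⁻¹ * QuotientGroup.mk g') 1 1 :=
    LQ.mul hy hgL (LQ.inv hy (LQ.mul hy hd hpq))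
  obtain ⟨k, hke, hkm⟩ := hk
  obtain ⟨h, hh, hr⟩ := stabH_rep hy (mem_stabH_of_fix hy k.2 hkm)
  have hkq : (QuotientGroup.mk k : J3 F ω) = hQ hy h := RQ.inj hy ⟨k, rfl, hr⟩ (rq_hQ hy hh)
  refine ⟨_, hp, _, hq, h, hh, ?_⟩
  rw [← hkq, hke]
  group

theorem normalizer_le_gen :
    Subgroup.normalizer (syl hy : Set (J3 F ω)) ≤ Subgroup.closure (localGen 2 (syl hy)) := by
  haveI := finite_J3 hy
  obtain ⟨ha, hb, ha8, hb8, huN⟩ := two_spec hy
  obtain ⟨hzH, hzN, -, -⟩ := z_spec hy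
  have hS : syl hy ≤ Subgroup.closure (localGen 2 (syl hy)) := fun x hx => Subgroup.subset_closure (Or.inl hx)
  have hu : uQ hy ∈ Subgroup.closure (localGen 2 (syl hy)) := by
    have hn := fun a h => List.all_eq_true.1 core_check.2.2.2 a h
    simp only [Bool.and_eq_true] at hn
    have haN := normalizes_core hy (rq_tri hy ha) fun a h => (hn a h).1.1
    have hbN := normalizes_core hy (rq_tri hy hb) fun a h => (hn a h).1.2
    have hsN : syl hy ≤ Subgroup.normalizer (coreSet hy : Set (J3 F ω)) := by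
      refine (Subgroup.closure_le _).2 fun x hx => ?_
      obtain ⟨g, hg, rfl⟩ := hx
      exact normalizes_core hy (gen_spec hy hg).2.1
        fun a h => allRange_spec 8 0 3 (hn a h).2 g (Nat.zero_le _) (by omega)
    refine Subgroup.subset_closure (Or.inr ⟨huN, coreSet hy, coreSet_le hy, core_centric hy, hsN, ?_⟩)
    exact mul_mem (Subgroup.subset_closure ⟨haN, 3, ha8⟩) (Subgroup.subset_closure ⟨hbN, 3, hb8⟩)
  intro g hg
  have hgz : g * zQ hy = zQ hy * g := by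
    refine mul_inv_eq_iff_eq_mul.1 ((eq_one_or_z hy ((Subgroup.mem_normalizer_iff.1 hg _).1 (pQ_mem hy _))
      fun y hy' => ?_).resolve_left fun h => ?_)
    · have hy'' : g⁻¹ * y * g ∈ syl hy := by
        have := (Subgroup.mem_normalizer_iff.1 (inv_mem hg) y).1 hy'
        rwa [inv_inv] at this
      calc y * (g * zQ hy * g⁻¹) = g * ((g⁻¹ * y * g) * zQ hy) * g⁻¹ := by group
        _ = g * (zQ hy * (g⁻¹ * y * g)) * g⁻¹ := by rw [z_central hy _ hy'']
        _ = g * zQ hy * g⁻¹ * y := by group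
    · have hz : zQ hy = 1 := conj_eq_one_iff.1 h
      have hne : peq (pc zNum) idCode = false := by decide +kernel
      have h1 : RQ ω (zQ hy) idCode := hz.symm ▸ rq_one hy
      rw [RQ.peq hy (rq_pQ hy hzN) h1 (pc_lt hzN) (by decide +kernel)] at hne
      exact Bool.noConfusion hne
  obtain ⟨p, hp, q, hq, h, hh, rfl⟩ := fix_orbit hy hgz
  have ho := allRange_spec 8 0 7 fix_check.2.2 q (Nat.zero_le _) (by omega)
  simp only [Bool.and_eq_true, Nat.blt_eq] at ho
  obtain ⟨⟨⟨⟨hot, -⟩, how⟩, -⟩, hoc⟩ := ho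
  have hd := rq_tri hy hot
  set d := triQ hy (orbOf q).2
  have hdh : d * hQ hy h ∈ Subgroup.normalizer (syl hy : Set (J3 F ω)) := by
    have := mul_mem (inv_mem (Subgroup.le_normalizer (pQ_mem hy p))) hg
    rwa [inv_mul_cancel_left] at this
  have hw : zQ hy * d = d * hQ hy (at0 orbW q) :=
    RQ.eq hy (RQ.mul hy (rq_pQ hy hzN) hd) (RQ.mul hy hd (rq_hQ hy how)) hoc
  have hzc : hQ hy h * zQ hy = hQ hy (at0 orbW q) * hQ hy h := by
    have h1 : pQ hy p * (d * hQ hy h) * zQ hy = pQ hy p * (zQ hy * (d * hQ hy h)) := by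
      rw [hgz, ← mul_assoc (zQ hy), ← z_central hy _ (pQ_mem hy p), mul_assoc]
    rw [mul_assoc, mul_right_inj, ← mul_assoc (zQ hy), hw, mul_assoc, mul_assoc, mul_right_inj] at h1
    exact h1
  have hpass : passes q h = true := List.all_eq_true.2 fun v _ => by
    refine LQ.peq hy (x := hQ hy h * zQ hy) (u := v) ?_ ?_ (app_lt _ _) (app_lt _ _)
    · exact LQ.mul hy (RQ.maps hy (rq_pQ hy hzN) v) (RQ.maps hy (rq_hQ hy hh) _)
    · rw [hzc]
      exact LQ.mul hy (RQ.maps hy (rq_hQ hy hh) v) (RQ.maps hy (rq_hQ hy how) _)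
  have hc := allRange_spec 32 0 2160 (allRange_spec 8 0 7 cand_complete q (Nat.zero_le _) (by omega)) h
    (Nat.zero_le _) (by omega)
  rw [hpass, Bool.not_true, Bool.false_or] at hc
  obtain ⟨c, hcm, hceq⟩ := List.any_eq_true.1 hc
  simp only [Bool.and_eq_true] at hceq
  have hok := List.all_eq_true.1 cand_check c hcm
  simp only [candOk, Nat.eq_of_beq_eq_true hceq.1, Nat.eq_of_beq_eq_true hceq.2] at hok
  have hr : RQ ω (d * hQ hy h) (mmul (orbCode q) (Data.cert.hm h)) := RQ.mul hy hd (rq_hQ hy hh)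
  refine mul_mem (hS (pQ_mem hy p)) ?_
  cases hk : Nat.beq c.2.2.1 0 with
  | true =>
    rw [hk] at hok
    simp only [cond_true, Bool.and_eq_true, Nat.blt_eq] at hok
    obtain ⟨⟨-, hp'⟩, he⟩ := hok
    have hpow : ∀ n, RQ ω (uQ hy ^ n) (uPow n) := by
      intro n
      induction n with
      | zero => rw [pow_zero]; exact rq_one hy
      | succ n ih => rw [pow_succ']; exact RQ.mul hy (RQ.mul hy (rq_tri hy ha) (rq_tri hy hb)) ih
    rw [RQ.eq hy hr (RQ.mul hy (hpow _) (rq_pQ hy hp')) he]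
    exact mul_mem (pow_mem hu _) (hS (pQ_mem hy _))
  | false =>
    rw [hk] at hok
    simp only [cond_false, Bool.and_eq_true, Nat.blt_eq] at hok
    obtain ⟨hj, hall⟩ := hok
    exfalso
    obtain ⟨i, hi, hir⟩ := (mem_syl hy).1 ((Subgroup.mem_normalizer_iff.1 hdh _).1 (gQ_mem hy hj))
    have hne := allRange_spec 16 0 128 hall i (Nat.zero_le _) (by omega)
    rw [Bool.not_eq_true'] at hne
    have e : d * hQ hy h * gQ hy c.2.2.2.1 = d * hQ hy h * gQ hy c.2.2.2.1 * (d * hQ hy h)⁻¹ * (d * hQ hy h) := by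
      rw [inv_mul_cancel_right]
    rw [LQ.peq hy (LQ.mul hy (RQ.maps hy (gen_spec hy hj).2.1 _) (RQ.maps hy hr _))
      (e ▸ LQ.mul hy (RQ.maps hy hr _) (RQ.maps hy hir _)) (app_lt _ _) (app_lt _ _)] at hne
    exact Bool.noConfusion hne

/-- Every isomorphic copy of the third Janko group has a simple 2-fusion system. -/
theorem isSimple {G : Type*} [Group G] [Finite G] (e : J3 F ω ≃* G) (S : Sylow 2 G) :
    (Cfsg.groupFusionSystem (S : Subgroup G)).IsSimple 2 := by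
  haveI : Fact (Nat.Prime 2) := ⟨Nat.prime_two⟩
  haveI := finite_J3 hy
  let P : Sylow 2 (J3 F ω) := Sylow.ofCard (syl hy) (by
    rw [card_syl hy, card_J3 hy, show (50232960 : ℕ) = 2 ^ 7 * 392445 by norm_num,
      Nat.factorization_mul (by norm_num) (by norm_num), Nat.factorization_pow,
      Finsupp.add_apply, Finsupp.smul_apply, Nat.Prime.factorization_self Nat.prime_two,
      Nat.factorization_eq_zero_of_not_dvd (by norm_num)]
    rfl)
  have hP : (P : Subgroup (J3 F ω)) = syl hy := Sylow.coe_ofCard _ _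
  refine isSimple_gfs_of_equiv e P S ?_ ?_ ?_
  · intro h
    have := card_syl hy
    rw [hP] at h
    rw [h, Subgroup.card_bot] at this
    norm_num at this
  · rw [hP]
    exact fun T hT hne hcl => noClosed hy hT hne hcl
  · rw [hP]
    exact normalizer_le_gen hy

end Cfsg.Agent.JankoThree.TwoFusion
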