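import Cfsg.Agent.Lib.JankoThree.Basic
import Cfsg.Agent.Lib.JankoThree.Data
import Cfsg.Agent.Lib.JankoThree.CheckBase

/-!
# The defining generators as codes
-/

set_option autoImplicit false

namespace Cfsg.Agent.JankoThree

open Matrix Cfsg.Spor

universe u

/-- The code of a power of `ω`. -/
def powCode (e : ZMod 3) : ℕ := if e = 0 then 1 else if e = 1 then 2 else 3

/-- Entry of a packed matrix. -/
def entry (M : ℕ) (w z : F9) : ℕ :=
  Nat.land (Nat.shiftRight (col M (idx z)) (2 * idx w)) 3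

/-- Code of an entry of `D`. -/
def lamCode (Z z : F9) : ℕ :=
  if z = 0 then 1
  else if F9.div Z z = F9.I - F9.one then 2
  else if F9.div Z z = -F9.I - F9.one then 3
  else 1

theorem entryA : ∀ Z w z : F9, entry (Data.cert.gen (idx Z)) w z =
    if w = z then powCode (Z.1 * z.1 + Z.2 * z.2) else 0 := by
  decide +kernel

theorem entryE : ∀ Z w z : F9, entry (Data.cert.gen (9 + idx Z)) w z =
    if w = z then powCode ((Z.1 - z.1) ^ 2 + (Z.2 - z.2) ^ 2) else 0 := by
  decide +kernel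

theorem entryD : ∀ Z w z : F9, entry (Data.cert.gen (18 + idx Z)) w z =
    if w = z + Z then lamCode Z z else 0 := by
  decide +kernel

theorem entryB : ∀ Z : F9, Z ≠ 0 → ∀ w z : F9, entry (Data.cert.gen (26 + idx Z)) w z =
    if w = F9.mul Z z then 1 else 0 := by
  decide +kernel

theorem entryC : ∀ Z : F9, Z ≠ 0 → ∀ w z : F9, entry (Data.cert.gen (34 + idx Z)) w z =
    if z = 0 then (if w = 0 then 1 else 0)
    else if w = -F9.div Z z ∨ w = F9.mul F9.I (F9.div Z z) ∨ w = -F9.mul F9.I (F9.div Z z) then 1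
    else 0 := by
  decide +kernel

theorem gen_index : ∀ i : ℕ, i < 43 → (∃ Z : F9, i = idx Z ∨ i = 9 + idx Z ∨ i = 18 + idx Z ∨
    (Z ≠ 0 ∧ (i = 26 + idx Z ∨ i = 34 + idx Z))) := by
  decide +kernel

variable {F : Type u} [Field F] (ω : F)

/-- The value of an entry code. -/
def val2 (c : ℕ) : F := bitVal (c.testBit 0) + ω * bitVal (c.testBit 1)

theorem mat_apply (M : ℕ) (w z : F9) : mat ω M w z = val2 ω (entry M w z) := by
  have e : entry M w z = (col M (idx z) >>> (2 * idx w)) % 2 ^ 2 :=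
    Nat.and_two_pow_sub_one_eq_mod _ 2
  rw [e]
  simp only [mat, Matrix.of_apply, dec, coord, val2, Nat.testBit_mod_two_pow, Nat.testBit_shiftRight]
  simp

variable {ω}

theorem val2_zero : val2 ω 0 = 0 := by simp [val2, bitVal]

theorem val2_one : val2 ω 1 = 1 := by simp [val2, bitVal, Nat.testBit]

theorem val2_pow (hg : Good ω) (e : ZMod 3) : val2 ω (powCode e) = omegaPow F ω e := by
  have hval : ∀ x : ZMod 3, x = 0 ∨ x = 1 ∨ x = 2 := by decide
  have v2 : ((2 : ZMod 3).val) = 2 := rfl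
  have v1 : ((1 : ZMod 3).val) = 1 := rfl
  rcases hval e with rfl | rfl | rfl
  · simp [powCode, omegaPow, val2_one]
  · rw [omegaPow, v1, show powCode 1 = 2 from rfl]
    simp [val2, bitVal, Nat.testBit]
  · rw [omegaPow, v2, show powCode 2 = 3 from rfl, sq_eq hg]
    simp [val2, bitVal, Nat.testBit, add_comm]

theorem mat_A (hg : Good ω) (Z : F9) : mat ω (Data.cert.gen (idx Z)) = j3A F ω Z := by
  ext w z
  rw [mat_apply, entryA, j3A, Matrix.diagonal_apply]
  split_ifs with h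
  · subst h; exact val2_pow hg _
  · exact val2_zero

theorem mat_E (hg : Good ω) (Z : F9) : mat ω (Data.cert.gen (9 + idx Z)) = j3E F ω Z := by
  ext w z
  rw [mat_apply, entryE, j3E, Matrix.diagonal_apply]
  split_ifs with h
  · subst h; exact val2_pow hg _
  · exact val2_zero

theorem mat_D (hg : Good ω) (Z : F9) : mat ω (Data.cert.gen (18 + idx Z)) = j3D F ω Z := by
  ext w z
  rw [mat_apply, entryD]
  simp only [j3D, Matrix.of_apply, lamCode, j3Lam]
  split_ifs <;> first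
    | exact val2_zero
    | exact val2_one
    | (simp [val2, bitVal, Nat.testBit]; done)
    | (rw [sq_eq hg]; simp [val2, bitVal, Nat.testBit, add_comm])

theorem mat_B (Z : F9) (hZ : Z ≠ 0) : mat ω (Data.cert.gen (26 + idx Z)) = j3B F Z := by
  ext w z
  rw [mat_apply, entryB Z hZ]
  simp only [j3B, Matrix.of_apply]
  split_ifs
  · exact val2_one
  · exact val2_zero

theorem mat_C (Z : F9) (hZ : Z ≠ 0) : mat ω (Data.cert.gen (34 + idx Z)) = j3C F Z := by
  ext w z
  rw [mat_apply, entryC Z hZ]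
  simp only [j3C, Matrix.of_apply]
  split_ifs <;> first
    | exact val2_one
    | exact val2_zero

theorem gen_mem (hg : Good ω) {i : ℕ} (hi : i < 43) : mat ω (Data.cert.gen i) ∈ j3Gens F ω := by
  obtain ⟨Z, h | h | h | ⟨hZ, h | h⟩⟩ := gen_index i hi <;> subst h
  · exact Or.inl (Or.inl (Or.inl (Or.inl ⟨Z, (mat_A hg Z).symm⟩)))
  · exact Or.inl (Or.inl (Or.inl (Or.inr ⟨Z, (mat_E hg Z).symm⟩)))
  · exact Or.inl (Or.inl (Or.inr ⟨Z, (mat_D hg Z).symm⟩))
  · exact Or.inl (Or.inr ⟨Z, hZ, mat_B Z hZ⟩)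
  · exact Or.inr ⟨Z, hZ, mat_C Z hZ⟩

theorem gens_are_codes (hg : Good ω) {M : Matrix F9 F9 F} (hM : M ∈ j3Gens F ω) :
    ∃ i < 43, M = mat ω (Data.cert.gen i) := by
  have hb : ∀ Z : F9, idx Z < 9 := idx_lt
  rcases hM with (((⟨Z, rfl⟩ | ⟨Z, rfl⟩) | ⟨Z, rfl⟩) | ⟨Z, hZ, rfl⟩) | ⟨Z, hZ, rfl⟩
  · exact ⟨_, by have := hb Z; omega, (mat_A hg Z).symm⟩
  · exact ⟨_, by have := hb Z; omega, (mat_E hg Z).symm⟩
  · exact ⟨_, by have := hb Z; omega, (mat_D hg Z).symm⟩
  · exact ⟨26 + idx Z, by have := hb Z; omega, (mat_B Z hZ).symm⟩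
  · exact ⟨34 + idx Z, by have := hb Z; omega, (mat_C Z hZ).symm⟩

theorem exists_gen_unit (hg : Good ω) {i : ℕ} (hi : i < 43) :
    ∃ g ∈ threeJ3 F ω, (g : Matrix F9 F9 F) = mat ω (Data.cert.gen i) := by
  have h := Nat.eq_of_beq_eq_true (Enum.allRange_spec 16 0 43 Data.gensOk i (Nat.zero_le _) (by omega))
  have e : mat ω (Data.cert.gen i) * mat ω (at0 Data.cert.gensInv i) = 1 := by
    rw [← mat_mmul hg, h, mat_idCode]
  refine ⟨⟨mat ω (Data.cert.gen i), mat ω (at0 Data.cert.gensInv i), e, mul_eq_one_comm.mp e⟩, ?_, rfl⟩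
  exact Subgroup.subset_closure (gen_mem hg hi)

end Cfsg.Agent.JankoThree
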