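import Cfsg.Agent.Lib.JankoThree.Simple

/-!
# Elements of J₃ given by codes, and listed subgroups
-/

set_option autoImplicit false
set_option linter.unusedSectionVars false

namespace Cfsg.Agent.JankoThree

open Matrix Cfsg.Spor

universe u

variable {F : Type u} [Field F] [Fintype F] {ω : F}

/-- The code of a product `hel a * dEl k * hel b`. -/
def cd (p : ℕ × ℕ × ℕ) : ℕ :=
  mmul (Data.cert.hm p.1) (mmul (Data.cert.rep p.2.1) (Data.cert.hm p.2.2))

/-- The numbers of a product are in range. -/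
def tripOk (p : ℕ × ℕ × ℕ) : Bool := Nat.blt p.1 2160 && Nat.blt p.2.1 28 && Nat.blt p.2.2 2160

/-- An element of J₃ has the matrix of a code up to a scalar. -/
def R (x : J3 F ω) (M : ℕ) : Prop := ∃ g : threeJ3 F ω, (g : J3 F ω) = x ∧ Rep ω (g : GL F9 F) M

theorem peq_of_smul {V : Type*} [AddCommGroup V] [Module F V] {f : ℕ → V} {S : ℕ → Prop}
    (hy : Hyp F ω) (hf : ∀ x, f (mulW x) = ω • f x) (hS : ∀ x, S x → S (mulW x))
    (hinj : ∀ x y, S x → S y → f x = f y → x = y) {u v : ℕ} (hu : S u) (hv : S v) {c : F} (hc : c ≠ 0)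
    (h : f u = c • f v) : peq u v = true := by
  have hb : ∀ a : ℕ, Nat.beq a a = true := fun a => Nat.beq_refl a
  simp only [peq, Bool.or_eq_true]
  rcases nonzero_cases hy.card hy.good hc with rfl | rfl | rfl
  · left; left
    rw [one_smul] at h
    rw [hinj _ _ hu hv h]; exact hb _
  · left; right
    rw [hinj u (mulW v) hu (hS _ hv) (by rw [h, hf])]; exact hb _
  · right
    rw [hinj u (mulW (mulW v)) hu (hS _ (hS _ hv)) (by rw [h, hf, hf, smul_smul])]; exact hb _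

variable (hy : Hyp F ω)
include hy

theorem finite_threeJ3 : Finite (threeJ3 F ω) :=
  Nat.finite_of_card_ne_zero (by rw [card_threeJ3 hy]; norm_num)

theorem finite_J3 : Finite (J3 F ω) :=
  Nat.finite_of_card_ne_zero (by rw [card_J3 hy]; norm_num)

theorem lift_unique {g g' : threeJ3 F ω} (h : (g : J3 F ω) = (g' : J3 F ω)) :
    ∃ z ∈ Zs F, (g' : GL F9 F) = z * g := by
  have h1 := (mem_center_iff hy _).mp (QuotientGroup.eq.1 h)
  refine ⟨((g⁻¹ * g' : threeJ3 F ω) : GL F9 F), h1, ?_⟩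
  rw [Zs_comm h1 _]
  simp

theorem R.mul {x y : J3 F ω} {M N : ℕ} (h1 : R x M) (h2 : R y N) : R (x * y) (mmul M N) := by
  obtain ⟨g, rfl, hg⟩ := h1
  obtain ⟨g', rfl, hg'⟩ := h2
  exact ⟨g * g', rfl, hg.mul hy.good hg'⟩

theorem R.congr {x : J3 F ω} {M N : ℕ} (h : R x M) (e : peq M N = true) : R x N := by
  obtain ⟨g, rfl, hg⟩ := h
  exact ⟨g, rfl, hg.congr hy.good e⟩

theorem R.unique {x y : J3 F ω} {M : ℕ} (h1 : R x M) (h2 : R y M) : x = y := by
  obtain ⟨g, rfl, hg⟩ := h1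
  obtain ⟨g', rfl, hg'⟩ := h2
  obtain ⟨z, hz, e⟩ := hg.unique hg'
  refine QuotientGroup.eq.2 ((mem_center_iff hy _).mpr ?_)
  have : ((g⁻¹ * g' : threeJ3 F ω) : GL F9 F) = z := by
    rw [Subgroup.coe_mul, Subgroup.coe_inv, e, Zs_comm hz, inv_mul_cancel_left]
  rwa [this]

theorem R.eq {x y : J3 F ω} {M N : ℕ} (h1 : R x M) (h2 : R y N) (e : peq M N = true) : x = y :=
  (h1.congr hy e).unique hy h2

theorem R.code_unique {x : J3 F ω} {M N : ℕ} (h1 : R x M) (h2 : R x N) (hM : M < 2 ^ 162) (hN : N < 2 ^ 162)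
    (mM : isMin M = true) (mN : isMin N = true) : M = N := by
  obtain ⟨g, rfl, hg⟩ := h1
  obtain ⟨g', e, hg'⟩ := h2
  obtain ⟨z, hz, e'⟩ := lift_unique hy e.symm
  exact (e' ▸ hg.zs_mul hz).code_unique hy.good hy.card hg' hM hN mM mN

theorem R.peq {x y : J3 F ω} {M N : ℕ} (h1 : R x M) (h2 : R y N) (hM : M < 2 ^ 162) (hN : N < 2 ^ 162)
    (e : x = y) : JankoThree.peq M N = true := by
  obtain ⟨g, rfl, hg⟩ := h1
  obtain ⟨g', rfl, hg'⟩ := h2
  obtain ⟨z, hz, e'⟩ := lift_unique hy e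
  obtain ⟨a, ha, ea⟩ := hg.zs_mul hz
  obtain ⟨b, hb, eb⟩ := hg'
  rw [← e', eb] at ea
  refine peq_of_smul hy (mat_mulW hy.good) (fun x _ => mulW_lt x) (fun x y hx hy' => mat_inj hy.good hx hy')
    hM hN (mul_ne_zero (inv_ne_zero ha) hb) ?_
  rw [← smul_smul, ea, smul_smul, inv_mul_cancel₀ ha, one_smul]

theorem R_one : R (1 : J3 F ω) idCode := ⟨1, rfl, rep_one hy.good⟩

theorem exists_el {p : ℕ × ℕ × ℕ} (h : tripOk p = true) : ∃ x : J3 F ω, R x (cd p) := by
  simp only [tripOk, Bool.and_eq_true, Nat.blt, Nat.ble_eq] at h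
  obtain ⟨⟨h1, h2⟩, h3⟩ := h
  exact ⟨((⟨hel hy p.1, stabH_le hy (hel_mem hy _)⟩ *
    (⟨dEl hy p.2.1, dEl_mem_J hy⟩ * ⟨hel hy p.2.2, stabH_le hy (hel_mem hy _)⟩) : threeJ3 F ω) : J3 F ω),
    _, rfl, (hel_rep hy (by omega)).mul hy.good
      ((dEl_rep hy (by omega)).mul hy.good (hel_rep hy (by omega)))⟩

omit hy in
/-- The element of a product. -/
noncomputable def el (hy : Hyp F ω) (p : ℕ × ℕ × ℕ) : J3 F ω :=
  if h : tripOk p = true then (exists_el hy h).choose else 1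

theorem el_R {p : ℕ × ℕ × ℕ} (h : tripOk p = true) : R (el hy p) (cd p) := by
  rw [el, dif_pos h]
  exact (exists_el hy h).choose_spec

omit hy

/-- A listed subgroup: codes, generators, left multiplication, predecessors. -/
structure Lst where
  /-- the number of elements -/
  n : ℕ
  /-- the codes -/
  codes : List ℕ
  /-- the generators -/
  gens : List (ℕ × ℕ × ℕ)
  /-- left multiplication by the generators -/
  step : List (List ℕ)
  /-- predecessor and generator -/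
  par : List (ℕ × ℕ)

namespace Lst

variable (L : Lst)

/-- Code `i`. -/
def code (i : ℕ) : ℕ := at0 L.codes i

/-- Generator `j`. -/
def tri (j : ℕ) : ℕ × ℕ × ℕ := (L.gens[j]?).getD (0, 0, 0)

/-- Left multiplication. -/
def nxt (i j : ℕ) : ℕ := at0 ((L.step[i]?).getD []) j

/-- The checker. -/
def ok : Bool :=
  Nat.blt 0 L.n && Nat.beq (L.code 0) idCode &&
  Enum.allRange (fun j => tripOk (L.tri j)) 8 0 L.gens.length &&
  Enum.allRange (fun i => isMin (L.code i) && Nat.blt (L.code i) (2 ^ 162) &&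
    Enum.allRange (fun l => !Nat.beq (L.code l) (L.code i)) 16 0 i &&
    Enum.allRange (fun j => Nat.blt (L.nxt i j) L.n &&
      peq (mmul (cd (L.tri j)) (L.code i)) (L.code (L.nxt i j))) 8 0 L.gens.length &&
    (Nat.beq i 0 ||
      (let p := (L.par[i]?).getD (0, 0)
       Nat.blt p.1 i && Nat.blt p.2 L.gens.length && Nat.beq (L.nxt p.1 p.2) i))) 16 0 L.n

/-- The generated subgroup. -/
def grp (hy : Hyp F ω) : Subgroup (J3 F ω) := Subgroup.closure {x | ∃ j < L.gens.length, x = el hy (L.tri j)}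

variable {L} (hok : L.ok = true)
include hok

theorem ok_zero : 0 < L.n ∧ L.code 0 = idCode := by
  simp only [ok, Bool.and_eq_true, Nat.blt, Nat.ble_eq] at hok
  exact ⟨by omega, Nat.eq_of_beq_eq_true hok.1.1.2⟩

theorem ok_gen {j : ℕ} (hj : j < L.gens.length) : tripOk (L.tri j) = true := by
  simp only [ok, Bool.and_eq_true] at hok
  exact Enum.allRange_spec 8 0 _ hok.1.2 j (Nat.zero_le _) (by omega)

theorem ok_elem {i : ℕ} (hi : i < L.n) : isMin (L.code i) = true ∧ L.code i < 2 ^ 162 ∧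
    (∀ l < i, L.code l ≠ L.code i) ∧
    (∀ j < L.gens.length, L.nxt i j < L.n ∧
      peq (mmul (cd (L.tri j)) (L.code i)) (L.code (L.nxt i j)) = true) ∧
    (i ≠ 0 → ∃ p j, p < i ∧ j < L.gens.length ∧ L.nxt p j = i) := by
  simp only [ok, Bool.and_eq_true] at hok
  have h := Enum.allRange_spec 16 0 _ hok.2 i (Nat.zero_le _) (by omega)
  simp only [Bool.and_eq_true, Bool.or_eq_true, Nat.blt, Nat.ble_eq] at h
  obtain ⟨⟨⟨⟨h1, h2⟩, h3⟩, h4⟩, h5⟩ := h
  refine ⟨h1, by omega, fun l hl e => ?_, fun j hj => ?_, fun h0 => ?_⟩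
  · have := Enum.allRange_spec 16 0 _ h3 l (Nat.zero_le _) (by omega)
    rw [e, Nat.beq_refl] at this
    simp at this
  · have := Enum.allRange_spec 8 0 _ h4 j (Nat.zero_le _) (by omega)
    simp only [Bool.and_eq_true, Nat.ble_eq] at this
    exact ⟨by omega, this.2⟩
  · rcases h5 with h5 | h5
    · exact absurd (Nat.eq_of_beq_eq_true h5) h0
    · exact ⟨_, _, by omega, by omega, Nat.eq_of_beq_eq_true h5.2⟩

include hy

theorem gen_R {j : ℕ} (hj : j < L.gens.length) : R (el hy (L.tri j)) (cd (L.tri j)) := el_R hy (ok_gen hok hj)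

theorem gen_mem {j : ℕ} (hj : j < L.gens.length) : el hy (L.tri j) ∈ L.grp hy :=
  Subgroup.subset_closure ⟨j, hj, rfl⟩

theorem exists_elem {i : ℕ} (hi : i < L.n) : ∃ x ∈ L.grp hy, R x (L.code i) := by
  induction i using Nat.strong_induction_on with
  | _ i ih =>
    by_cases h0 : i = 0
    · subst h0; exact ⟨1, one_mem _, by rw [(ok_zero hok).2]; exact R_one hy⟩
    obtain ⟨p, j, hp, hj, e⟩ := (ok_elem hok hi).2.2.2.2 h0
    obtain ⟨y, hym, hyR⟩ := ih p hp (hp.trans hi)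
    obtain ⟨-, h2⟩ := (ok_elem hok (hp.trans hi)).2.2.2.1 j hj
    rw [e] at h2
    exact ⟨_, mul_mem (gen_mem hy hok hj) hym, ((gen_R hy hok hj).mul hy hyR).congr hy h2⟩

theorem mem_iff {x : J3 F ω} : x ∈ L.grp hy ↔ ∃ i < L.n, R x (L.code i) := by
  constructor
  · intro hx
    haveI := finite_J3 hy
    refine closure_mem_of_mul_mem (U := {x | ∃ i < L.n, R x (L.code i)}) ?_ ?_ hx
    · exact ⟨0, (ok_zero hok).1, by rw [(ok_zero hok).2]; exact R_one hy⟩
    · rintro s ⟨j, hj, rfl⟩ y ⟨i, hi, hiR⟩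
      obtain ⟨h1, h2⟩ := (ok_elem hok hi).2.2.2.1 j hj
      exact ⟨_, h1, ((gen_R hy hok hj).mul hy hiR).congr hy h2⟩
  · rintro ⟨i, hi, hx⟩
    obtain ⟨y, hym, hyR⟩ := exists_elem hy hok hi
    rwa [hx.unique hy hyR]

theorem index_unique {x : J3 F ω} {i l : ℕ} (hi : i < L.n) (hl : l < L.n) (h1 : R x (L.code i))
    (h2 : R x (L.code l)) : i = l := by
  obtain ⟨a1, a2, a3, -, -⟩ := ok_elem hok hi
  obtain ⟨b1, b2, b3, -, -⟩ := ok_elem hok hl
  have e := h1.code_unique hy h2 a2 b2 a1 b1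
  rcases Nat.lt_trichotomy i l with h | h | h
  · exact absurd e (b3 i h)
  · exact h
  · exact absurd e.symm (a3 l h)

omit hy in
/-- The number of an element. -/
noncomputable def idx (x : L.grp hy) : Fin L.n :=
  ⟨((mem_iff hy hok).mp x.2).choose, ((mem_iff hy hok).mp x.2).choose_spec.1⟩

theorem idx_spec (x : L.grp hy) : R (x : J3 F ω) (L.code (idx hy hok x)) :=
  ((mem_iff hy hok).mp x.2).choose_spec.2

theorem idx_bijective : Function.Bijective (idx hy hok) := by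
  refine ⟨fun x y e => ?_, fun i => ?_⟩
  · have h := idx_spec hy hok y
    rw [← e] at h
    exact Subtype.ext ((idx_spec hy hok x).unique hy h)
  · obtain ⟨x, hx, hR⟩ := exists_elem hy hok i.isLt
    exact ⟨⟨x, hx⟩, Fin.ext (index_unique hy hok (idx hy hok ⟨x, hx⟩).isLt i.isLt (idx_spec hy hok ⟨x, hx⟩) hR)⟩

theorem card_grp : Nat.card (L.grp hy) = L.n := by
  rw [Nat.card_congr (Equiv.ofBijective _ (idx_bijective hy hok)), Nat.card_fin]

end Lst

end Cfsg.Agent.JankoThree
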