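import Cfsg.Agent.Lib.JankoThree.InvBasic
import Cfsg.Agent.Lib.JankoThree.InvData

/-!
# Kernel checks for the centraliser of an involution of J₃
-/

set_option autoImplicit false
set_option maxRecDepth 20000

namespace Cfsg.Agent.JankoThree

open Enum (allRange)

/-- Count a predicate on `lo, …, lo + len - 1` by halving. -/
def countRange (p : ℕ → Bool) : ℕ → ℕ → ℕ → ℕ
  | 0, _, _ => 0
  | fuel + 1, lo, len =>
    bif Nat.beq len 0 then 0
    else bif Nat.beq len 1 then (bif p lo then 1 else 0)
    else countRange p fuel lo (len / 2) + countRange p fuel (lo + len / 2) (len - len / 2)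

theorem countRange_spec {p : ℕ → Bool} : ∀ (fuel lo len : ℕ), len ≤ 2 ^ fuel →
    countRange p (fuel + 1) lo len = ((Finset.Ico lo (lo + len)).filter fun i => p i = true).card := by
  intro fuel
  induction fuel with
  | zero =>
    intro lo len hlen
    have h : len = 0 ∨ len = 1 := by norm_num at hlen; omega
    rw [countRange]
    rcases h with rfl | rfl
    · simp
    · rw [Nat.Ico_succ_singleton, Finset.filter_singleton]
      cases h : p lo <;> simp [h, show Nat.beq 1 0 = false from rfl]
  | succ fuel ih =>
    intro lo len hlen
    rw [countRange]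
    by_cases h0 : len = 0
    · subst h0; simp
    by_cases h1 : len = 1
    · subst h1
      rw [Nat.Ico_succ_singleton, Finset.filter_singleton]
      cases h : p lo <;> simp [h, show Nat.beq 1 0 = false from rfl]
    have e0 : Nat.beq len 0 = false := by
      cases e : Nat.beq len 0 with
      | false => rfl
      | true => exact absurd (Nat.eq_of_beq_eq_true e) h0
    have e1 : Nat.beq len 1 = false := by
      cases e : Nat.beq len 1 with
      | false => rfl
      | true => exact absurd (Nat.eq_of_beq_eq_true e) h1
    rw [e0, e1]
    simp only [cond_false]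
    have hp : 2 ^ (fuel + 1) = 2 ^ fuel * 2 := pow_succ 2 fuel
    rw [ih lo (len / 2) (by omega), ih (lo + len / 2) (len - len / 2) (by omega),
      show lo + len / 2 + (len - len / 2) = lo + len by omega,
      ← Finset.card_union_of_disjoint, ← Finset.filter_union,
      Finset.Ico_union_Ico_eq_Ico (by omega) (by omega)]
    exact Finset.disjoint_filter_filter (Finset.Ico_disjoint_Ico_consecutive _ _ _)

/-- The first listed subgroup, the core. -/
def lQ : Lst := ⟨32, InvData.Qlist, InvData.Qgens, InvData.Qstep, InvData.Qpar⟩

/-- The second listed subgroup, the complement. -/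
def lA : Lst := ⟨60, InvData.Alist, InvData.Agens, InvData.Astep, InvData.Apar⟩

/-- The third listed subgroup, a Sylow subgroup. -/
def lS : Lst := ⟨128, InvData.Slist, InvData.Sgens, InvData.Sstep, InvData.Spar⟩

/-- The code of the involution. -/
def tC : ℕ := Data.cert.hm InvData.tH

/-- Multiplication in the first list. -/
def qm (i j : ℕ) : ℕ := at0 ((InvData.qMul[i]?).getD []) j

/-- Conjugation on the first list by a generator of the second. -/
def qc (j i : ℕ) : ℕ := at0 ((InvData.conjQ[j]?).getD []) i

/-- Conjugator of element `i` of the third list. -/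
def sK (i : ℕ) : ℕ × ℕ × ℕ := (InvData.sConj[i]?).getD (0, 0, 0)

/-- A permutation attached to element `i` of the second list. -/
def pA (i k : ℕ) : ℕ := at0 ((InvData.aPerm[i]?).getD []) k

/-- The permutation of generator `j`. -/
def pG (j k : ℕ) : ℕ := at0 ((InvData.aAct[j]?).getD []) k

/-- Element `i` of the stabiliser is an involution. -/
def invB (i : ℕ) : Bool :=
  !peq (Data.cert.hm i) idCode && peq (mmul (Data.cert.hm i) (Data.cert.hm i)) idCode

/-- The involution fixes line `i`. -/
def fixB (i : ℕ) : Bool := peq (tapp InvData.tTab (Data.cert.pt i)) (Data.cert.pt i)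

theorem lQ_ok : lQ.ok = true := by decide +kernel

theorem lA_ok : lA.ok = true := by decide +kernel

theorem lS_ok : lS.ok = true := by decide +kernel

theorem check_t : (Nat.blt InvData.tH 2160 && invB InvData.tH && chkTab InvData.tTab tC &&
    Nat.beq (lQ.code InvData.qT) tC && Nat.blt InvData.qT 32) = true := by
  decide +kernel

theorem count_inv : countRange invB 16 0 2160 = 153 := by decide +kernel

theorem count_fix : countRange fixB 20 0 23256 = 136 := by decide +kernel

theorem check_comm : (allRange (fun j => peq (mmul (cd (lQ.tri j)) tC) (mmul tC (cd (lQ.tri j)))) 8 0 lQ.gens.length &&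
    allRange (fun j => peq (mmul (cd (lA.tri j)) tC) (mmul tC (cd (lA.tri j)))) 8 0 lA.gens.length) = true := by
  decide +kernel

theorem check_disjoint : allRange (fun i => allRange (fun l => (Nat.beq i 0 && Nat.beq l 0) ||
    !Nat.beq (lA.code i) (lQ.code l)) 16 0 32) 16 0 60 = true := by decide +kernel

theorem check_mul : allRange (fun i => allRange (fun l => Nat.blt (qm i l) 32 &&
    peq (mmul (lQ.code i) (lQ.code l)) (lQ.code (qm i l))) 16 0 32) 16 0 32 = true := by decide +kernel

theorem check_conj : allRange (fun j => allRange (fun i => Nat.blt (qc j i) 32 &&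
    peq (mmul (cd (lA.tri j)) (lQ.code i)) (mmul (lQ.code (qc j i)) (cd (lA.tri j)))) 16 0 32) 8 0 lA.gens.length = true := by
  decide +kernel

/-- The commutator of two elements lies in `{1, t}`: `ab = ba` or `ab = bat`. -/
def commOk (i l : ℕ) : Bool := Nat.beq (qm i l) (qm l i) || Nat.beq (qm i l) (qm (qm l i) InvData.qT)

theorem check_extra : (allRange (fun i => allRange (commOk i) 16 0 32 &&
    (Nat.beq (qm i i) 0 || Nat.beq (qm i i) InvData.qT) &&
    (Nat.beq i 0 || Nat.beq i InvData.qT || !allRange (fun l => Nat.beq (qm i l) (qm l i)) 16 0 32)) 16 0 32) = true := by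
  decide +kernel

/-- The involutions of the first list. -/
def qInv : List ℕ := (List.range' 1 31).filter fun i => Nat.beq (qm i i) 0

theorem check_no_eight : (qInv.all fun a => qInv.all fun b => qInv.all fun c => qInv.all fun d =>
    !(Nat.blt a b && Nat.blt b c && Nat.blt c d &&
      Nat.beq (qm a b) (qm b a) && Nat.beq (qm a c) (qm c a) && Nat.beq (qm a d) (qm d a) &&
      Nat.beq (qm b c) (qm c b) && Nat.beq (qm b d) (qm d b) && Nat.beq (qm c d) (qm d c))) = true := by
  decide +kernel

theorem check_perm : allRange (fun i =>
    allRange (fun k => Nat.blt (pA i k) 5 && allRange (fun l => Nat.beq k l || !Nat.beq (pA i k) (pA i l)) 8 0 5) 8 0 5 &&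
    allRange (fun l => !allRange (fun k => Nat.beq (pA l k) (pA i k)) 8 0 5) 16 0 i &&
    allRange (fun j => allRange (fun k => Nat.beq (pA (lA.nxt i j) k) (pG j (pA i k))) 8 0 5) 8 0 lA.gens.length &&
    (!Nat.beq i 0 || allRange (fun k => Nat.beq (pA i k) k) 8 0 5)) 16 0 60 = true := by decide +kernel

theorem check_sylow : allRange (fun i => Nat.beq i 0 || !peq (mmul (lS.code i) (lS.code i)) idCode ||
    (tripOk (sK i) && peq (mmul (cd (sK i)) (lS.code i)) (mmul tC (cd (sK i))))) 16 0 128 = true := by decide +kernel

end Cfsg.Agent.JankoThree
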