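import Cfsg.Agent.Lib.JankoThree.InvChecks
import Cfsg.Agent.Lib.BigExtra.Criteria
import Cfsg.Prelude.Def_Transfer

/-!
# Involutions of J₃ and the centraliser of one of them
-/

set_option autoImplicit false
set_option linter.unusedSectionVars false
set_option linter.style.haveILetI false

namespace Cfsg.Agent.JankoThree

open Matrix Cfsg.Spor
open Enum (allRange allRange_spec)
open scoped commutatorElement

universe u

variable {F : Type u} [Field F] [Fintype F] {ω : F} (hy : Hyp F ω)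

theorem allRange_of {p : ℕ → Bool} : ∀ (fuel lo len : ℕ), len ≤ 2 ^ fuel →
    (∀ i, lo ≤ i → i < lo + len → p i = true) → allRange p (fuel + 1) lo len = true := by
  intro fuel
  induction fuel with
  | zero =>
    intro lo len hl hp
    have h : len = 0 ∨ len = 1 := by norm_num at hl; omega
    rw [allRange]
    rcases h with rfl | rfl
    · rfl
    · exact hp lo le_rfl (by omega)
  | succ fuel ih =>
    intro lo len hl hp
    rw [allRange]
    by_cases h0 : len = 0
    · subst h0; rfl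
    by_cases h1 : len = 1
    · subst h1; exact hp lo le_rfl (by omega)
    have e0 : Nat.beq len 0 = false := by
      cases e : Nat.beq len 0 with
      | false => rfl
      | true => exact absurd (Nat.eq_of_beq_eq_true e) h0
    have e1 : Nat.beq len 1 = false := by
      cases e : Nat.beq len 1 with
      | false => rfl
      | true => exact absurd (Nat.eq_of_beq_eq_true e) h1
    rw [e0, e1, cond_false, cond_false, Bool.and_eq_true]
    have : 2 ^ (fuel + 1) = 2 ^ fuel * 2 := pow_succ 2 fuel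
    exact ⟨ih lo _ (by omega) fun i h h' => hp i h (by omega),
      ih _ _ (by omega) fun i h h' => hp i (by omega) (by omega)⟩

theorem beq_ne {a b : ℕ} (h : Nat.beq a b = false) : a ≠ b := fun e => by
  rw [e, Nat.beq_refl] at h
  exact Bool.noConfusion h

theorem pt_zero : Data.cert.pt 0 = 1 := by
  have := (reps_spec (show 0 < 28 by norm_num)).2.1
  rwa [reps_zero.2.2.1, reps_zero.2.1] at this

/-- An element fixes a line. -/
def Fx (x : J3 F ω) (i : ℕ) : Prop :=
  ∃ g : threeJ3 F ω, (g : J3 F ω) = x ∧ Maps ω (g : GL F9 F) (Data.cert.pt i) (Data.cert.pt i)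

include hy

theorem fx_lift {x : J3 F ω} {i : ℕ} (h : Fx x i) {g : threeJ3 F ω} (hg : (g : J3 F ω) = x) :
    Maps ω (g : GL F9 F) (Data.cert.pt i) (Data.cert.pt i) := by
  obtain ⟨g', hg', h⟩ := h
  obtain ⟨z, hz, e⟩ := lift_unique hy (hg'.trans hg.symm)
  rw [e]
  exact h.comp (maps_zs hz _)

theorem move {k : GL F9 F} (hk : k ∈ threeJ3 F ω) {i : ℕ} (hi : i < 23256) :
    ∃ j < 23256, Maps ω k (Data.cert.pt i) (Data.cert.pt j) := by
  obtain ⟨d, hd, hdi⟩ := exists_orbit hy hi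
  obtain ⟨j, hj, hm⟩ := orbit_mem hy (mul_mem hk hd)
  refine ⟨j, hj, ?_⟩
  have := hdi.symm.comp hm
  rwa [mul_inv_cancel_right] at this

theorem move_unique {k : GL F9 F} {u : ℕ} {i j : ℕ} (hi : i < 23256) (hj : j < 23256)
    (h1 : Maps ω k u (Data.cert.pt i)) (h2 : Maps ω k u (Data.cert.pt j)) : i = j :=
  pt_injective hi hj (h1.unique hy.good hy.card h2 (pt_lt _) (pt_lt _) (pt_isMin hi) (pt_isMin hj))

theorem fx_conj {x y : J3 F ω} {k : threeJ3 F ω} (e : y = (k : J3 F ω) * x * (k : J3 F ω)⁻¹) {i j : ℕ}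
    (hm : Maps ω (k : GL F9 F) (Data.cert.pt i) (Data.cert.pt j)) (h : Fx x i) : Fx y j := by
  obtain ⟨g, rfl, hg⟩ := h
  exact ⟨k * g * k⁻¹, by rw [e]; rfl, (hm.symm.comp hg).comp hm |> fun q => by
    simpa [mul_assoc] using q⟩

omit hy in
/-- The number of lines fixed by an element. -/
noncomputable def nfix (x : J3 F ω) : ℕ := Nat.card {i : Fin 23256 // Fx x i}

theorem nfix_le {x : J3 F ω} (k : threeJ3 F ω) : nfix x ≤ nfix ((k : J3 F ω) * x * (k : J3 F ω)⁻¹) := by
  have h : ∀ i : Fin 23256, ∃ j : Fin 23256, Maps ω (k : GL F9 F) (Data.cert.pt i) (Data.cert.pt j) := fun i => by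
    obtain ⟨j, hj, h⟩ := move hy k.2 i.isLt
    exact ⟨⟨j, hj⟩, h⟩
  choose π hπ using h
  refine Nat.card_le_card_of_injective (fun i : {i : Fin 23256 // Fx x i} =>
    (⟨π i.1, fx_conj hy rfl (hπ i.1) i.2⟩ : {i : Fin 23256 // Fx ((k : J3 F ω) * x * (k : J3 F ω)⁻¹) i})) ?_
  intro i l e
  have e' : π i.1 = π l.1 := congrArg Subtype.val e
  have h1 := (hπ i.1).symm
  rw [e'] at h1
  exact Subtype.ext (Fin.ext (move_unique hy i.1.isLt l.1.isLt h1 (hπ l.1).symm))

theorem nfix_conj {x y : J3 F ω} (h : IsConj x y) : nfix x = nfix y := by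
  have key : ∀ {x y : J3 F ω}, IsConj x y → nfix x ≤ nfix y := by
    intro x y h
    obtain ⟨c, rfl⟩ := isConj_iff.mp h
    obtain ⟨k, rfl⟩ := QuotientGroup.mk_surjective c
    exact nfix_le hy k
  exact le_antisymm (key h) (key h.symm)

theorem hel_R {i : ℕ} (hi : i < 2160) :
    R ((⟨hel hy i, stabH_le hy (hel_mem hy i)⟩ : threeJ3 F ω) : J3 F ω) (Data.cert.hm i) :=
  ⟨_, rfl, hel_rep hy hi⟩

omit hy in
/-- The involution. -/
noncomputable def tE (hy : Hyp F ω) : J3 F ω :=
  ((⟨hel hy InvData.tH, stabH_le hy (hel_mem hy _)⟩ : threeJ3 F ω) : J3 F ω)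

theorem t_facts : InvData.tH < 2160 ∧ R (tE hy) tC ∧ chkTab InvData.tTab tC = true ∧
    lQ.code InvData.qT = tC ∧ InvData.qT < 32 ∧ invB InvData.tH = true := by
  have h := check_t
  simp only [Bool.and_eq_true, Nat.blt, Nat.ble_eq] at h
  obtain ⟨⟨⟨⟨h1, h2⟩, h3⟩, h4⟩, h5⟩ := h
  exact ⟨by omega, hel_R hy (by omega), h3, Nat.eq_of_beq_eq_true h4, by omega, h2⟩

theorem order_two_iff {x : J3 F ω} {i : ℕ} (hi : i < 2160) (hx : R x (Data.cert.hm i)) :
    orderOf x = 2 ↔ invB i = true := by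
  haveI := Fact.mk Nat.prime_two
  rw [invB, Bool.and_eq_true, Bool.not_eq_true']
  constructor
  · intro h
    refine ⟨?_, R.peq hy (hx.mul hy hx) (R_one hy) (mmul_lt _ _) (by decide) ?_⟩
    · cases e : JankoThree.peq (Data.cert.hm i) idCode with
      | false => rfl
      | true =>
        rw [hx.eq hy (R_one hy) e, orderOf_one] at h
        omega
    · rw [← sq, ← h, pow_orderOf_eq_one]
  · rintro ⟨h1, h2⟩
    refine orderOf_eq_prime (by rw [sq]; exact (hx.mul hy hx).eq hy (R_one hy) h2) fun e => ?_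
    rw [R.peq hy hx (R_one hy) (hm_lt i) (by decide) e] at h1
    exact Bool.noConfusion h1

theorem orderOf_t : orderOf (tE hy) = 2 :=
  (order_two_iff hy (t_facts hy).1 (t_facts hy).2.1).mpr (t_facts hy).2.2.2.2.2

/-! ### The Sylow subgroup -/

theorem card_S : Nat.card (lS.grp hy) = 128 := Lst.card_grp hy lS_ok

theorem all_conj {x : J3 F ω} (hx : orderOf x = 2) : IsConj (tE hy) x := by
  haveI := Fact.mk Nat.prime_two
  haveI := finite_J3 hy
  have hf : (Nat.card (J3 F ω)).factorization 2 = 7 := by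
    rw [card_J3 hy, show (50232960 : ℕ) = 2 ^ 7 * 392445 by norm_num, Nat.factorization_mul (by norm_num) (by norm_num),
      Finsupp.add_apply, Nat.Prime.factorization_pow (by norm_num), Finsupp.single_eq_same,
      Nat.factorization_eq_zero_of_not_dvd (by norm_num)]
  let S : Sylow 2 (J3 F ω) := Sylow.ofCard (lS.grp hy) (by rw [card_S hy, hf]; norm_num)
  have hp : IsPGroup 2 (Subgroup.zpowers x) := IsPGroup.of_card (n := 1) (by rw [Nat.card_zpowers, hx, pow_one])
  obtain ⟨T, hT⟩ := hp.exists_le_sylow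
  obtain ⟨g, hg⟩ := MulAction.exists_smul_eq (J3 F ω) T S
  set y := g * x * g⁻¹ with hy'
  have hyS : y ∈ lS.grp hy := by
    have h1 : y ∈ ((g • T : Sylow 2 (J3 F ω)) : Subgroup (J3 F ω)) := by
      rw [Sylow.coe_subgroup_smul, Subgroup.mem_pointwise_smul_iff_inv_smul_mem]
      have : (MulAut.conj g)⁻¹ • y = x := by simp [hy', MulAut.smul_def, mul_assoc]
      rw [this]
      exact hT (Subgroup.mem_zpowers x)
    rw [hg] at h1
    exact h1
  have hyo : orderOf y = 2 := by
    rw [hy', ← hx]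
    exact (MulAut.conj g).orderOf_eq x
  obtain ⟨i, hi, hR⟩ := (Lst.mem_iff hy lS_ok).mp hyS
  have h := allRange_spec 16 0 128 check_sylow i (Nat.zero_le _) (by simpa [lS] using hi)
  simp only [Bool.or_eq_true, Bool.and_eq_true, Bool.not_eq_true'] at h
  have hy2 : y * y = 1 := by rw [← sq, ← hyo, pow_orderOf_eq_one]
  rcases h with (h | h) | ⟨h1, h2⟩
  · exfalso
    rw [Nat.eq_of_beq_eq_true h, (Lst.ok_zero lS_ok).2] at hR
    rw [hR.unique hy (R_one hy), orderOf_one] at hyo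
    omega
  · rw [R.peq hy (hR.mul hy hR) (R_one hy) (mmul_lt _ _) (by decide) hy2] at h
    exact Bool.noConfusion h
  · have hK := el_R hy h1
    have e := (hK.mul hy hR).eq hy ((t_facts hy).2.1.mul hy hK) h2
    have c1 : IsConj y (tE hy) := isConj_iff.mpr ⟨el hy (sK i), by rw [e, mul_inv_cancel_right]⟩
    exact c1.symm.trans (isConj_iff.mpr ⟨g⁻¹, by rw [hy']; group⟩)

/-! ### The order of the centraliser -/

theorem card_inv_fixing {i : ℕ} (hi : i < 23256) :
    Nat.card {x : J3 F ω // orderOf x = 2 ∧ Fx x i} = 153 := by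
  haveI := finite_J3 hy
  obtain ⟨d, hd, hm⟩ := exists_orbit hy hi
  rw [← pt_zero] at hm
  have e : {x : J3 F ω // orderOf x = 2 ∧ Fx x 0} ≃ {x : J3 F ω // orderOf x = 2 ∧ Fx x i} :=
    (MulAut.conj ((⟨d, hd⟩ : threeJ3 F ω) : J3 F ω)).toEquiv.subtypeEquiv fun x => by
      refine and_congr ?_ ⟨fun h => fx_conj hy rfl hm h, fun h => ?_⟩
      · exact (congrArg (· = 2) ((MulAut.conj ((⟨d, hd⟩ : threeJ3 F ω) : J3 F ω)).orderOf_eq x)).to_iff.symm
      · refine fx_conj hy (k := ⟨d, hd⟩⁻¹) ?_ hm.symm h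
        show x = _ * (MulAut.conj ((⟨d, hd⟩ : threeJ3 F ω) : J3 F ω) x) * _
        rw [MulAut.conj_apply, QuotientGroup.mk_inv]
        group
  rw [← Nat.card_congr e]
  -- the elements of the stabiliser
  let ι := {a : Fin 2160 // invB a = true}
  have hfix : ∀ a : ℕ, Fx ((⟨hel hy a, stabH_le hy (hel_mem hy a)⟩ : threeJ3 F ω) : J3 F ω) 0 := fun a =>
    ⟨_, rfl, by rw [pt_zero]; exact stabH_fix hy (hel_mem hy a)⟩
  let f : ι → {x : J3 F ω // orderOf x = 2 ∧ Fx x 0} := fun a =>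
    ⟨_, (order_two_iff hy a.1.isLt (hel_R hy a.1.isLt)).mpr a.2, hfix a.1⟩
  have hf : Function.Bijective f := by
    refine ⟨fun a b e => ?_, fun x => ?_⟩
    · have e' : ((⟨hel hy a.1, stabH_le hy (hel_mem hy _)⟩ : threeJ3 F ω) : J3 F ω) =
          ((⟨hel hy b.1, stabH_le hy (hel_mem hy _)⟩ : threeJ3 F ω) : J3 F ω) := congrArg Subtype.val e
      obtain ⟨z, hz, ez⟩ := lift_unique hy e'
      have h1 := (hel_rep hy a.1.isLt).zs_mul hz
      have ez' : hel hy b.1 = z * hel hy a.1 := ez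
      rw [← ez'] at h1
      exact Subtype.ext (Fin.ext (hel_inj hy a.1.isLt b.1.isLt h1 (hel_rep hy b.1.isLt)))
    · obtain ⟨x, hx2, g, rfl, hg⟩ := x
      rw [pt_zero] at hg
      obtain ⟨a, ha, hr⟩ := stabH_rep hy (mem_stabH_of_fix hy g.2 hg)
      have hgR : R (g : J3 F ω) (Data.cert.hm a) := ⟨g, rfl, hr⟩
      exact ⟨⟨⟨a, ha⟩, (order_two_iff hy ha hgR).mp hx2⟩, Subtype.ext ((hel_R hy ha).unique hy hgR)⟩
  rw [← Nat.card_congr (Equiv.ofBijective f hf), Nat.card_eq_fintype_card, Fintype.card_subtype]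
  rw [← count_inv, countRange_spec 15 0 2160 (by norm_num)]
  refine Finset.card_bij (fun a _ => (a : ℕ)) (fun a ha => ?_) (fun a _ b _ e => Fin.ext e) fun b hb => ?_
  · rw [Finset.mem_filter] at ha
    rw [Finset.mem_filter, Finset.mem_Ico]
    exact ⟨⟨Nat.zero_le _, by omega⟩, ha.2⟩
  · rw [Finset.mem_filter, Finset.mem_Ico] at hb
    exact ⟨⟨b, by omega⟩, Finset.mem_filter.mpr ⟨Finset.mem_univ _, hb.2⟩, rfl⟩

theorem nfix_t : nfix (tE hy) = 136 := by
  have ht := (t_facts hy).2.1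
  obtain ⟨g, hg, hrep⟩ := ht
  have hT := (t_facts hy).2.2.1
  have key : ∀ i : Fin 23256, Fx (tE hy) i ↔ fixB i = true := by
    intro i
    constructor
    · intro h
      obtain ⟨a, ha, ea⟩ := fx_lift hy h hg
      obtain ⟨b, hb, eb⟩ := hrep
      rw [eb, Matrix.smul_mulVec, ← dec_tapp hy.good hT _ (pt_lt _)] at ea
      refine peq_of_smul (S := fun x => x < 2 ^ 18) hy (dec_mulW hy.good) (fun x hx => mulW_lt18 hx) (fun x y hx hy' => dec_inj hy.good hx hy')
        (tapp_lt _ _) (pt_lt _) (mul_ne_zero (inv_ne_zero hb) ha) ?_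
      rw [← smul_smul, ← ea, smul_smul, inv_mul_cancel₀ hb, one_smul]
    · exact fun h => ⟨g, hg, hrep.maps_tab hy.good hT (pt_lt _) h⟩
  rw [nfix, Nat.card_congr (Equiv.subtypeEquivRight key), Nat.card_eq_fintype_card, Fintype.card_subtype,
    ← count_fix, countRange_spec 19 0 23256 (by norm_num)]
  refine Finset.card_bij (fun a _ => (a : ℕ)) (fun a ha => ?_) (fun a _ b _ e => Fin.ext e) fun b hb => ?_
  · rw [Finset.mem_filter] at ha
    rw [Finset.mem_filter, Finset.mem_Ico]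
    exact ⟨⟨Nat.zero_le _, by omega⟩, ha.2⟩
  · rw [Finset.mem_filter, Finset.mem_Ico] at hb
    exact ⟨⟨b, by omega⟩, Finset.mem_filter.mpr ⟨Finset.mem_univ _, hb.2⟩, rfl⟩

theorem card_cent : Nat.card (Subgroup.centralizer ({tE hy} : Set (J3 F ω))) = 1920 := by
  classical
  haveI := finite_J3 hy
  letI : Fintype (J3 F ω) := Fintype.ofFinite _
  let I : Finset (J3 F ω) := Finset.univ.filter fun x => orderOf x = 2
  have h1 : ∀ x ∈ I, ((Finset.univ : Finset (Fin 23256)).filter fun i : Fin 23256 => Fx x i).card = 136 := fun x hx => by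
    rw [← Fintype.card_subtype, ← Nat.card_eq_fintype_card, ← nfix_t hy]
    exact (nfix_conj hy (all_conj hy (Finset.mem_filter.mp hx).2)).symm
  have h2 : ∀ i ∈ (Finset.univ : Finset (Fin 23256)), (I.filter fun x => Fx x i).card = 153 := fun i _ => by
    rw [Finset.filter_filter, ← Fintype.card_subtype, ← Nat.card_eq_fintype_card]
    exact card_inv_fixing hy i.isLt
  have hcount := Finset.sum_card_bipartiteAbove_eq_sum_card_bipartiteBelow
    (s := I) (t := (Finset.univ : Finset (Fin 23256))) (fun (x : J3 F ω) (i : Fin 23256) => Fx x (i : ℕ))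
  simp only [Finset.bipartiteAbove, Finset.bipartiteBelow] at hcount
  rw [Finset.sum_const_nat h1, Finset.sum_const_nat h2] at hcount
  simp only [Finset.card_univ, Fintype.card_fin] at hcount
  have horb : MulAction.orbit (ConjAct (J3 F ω)) (tE hy) = (I : Set (J3 F ω)) := by
    ext x
    simp only [I, Finset.coe_filter, Finset.mem_univ, true_and, Set.mem_ofPred_eq, MulAction.mem_orbit_iff]
    constructor
    · rintro ⟨c, rfl⟩
      rw [ConjAct.smul_def]
      exact ((MulAut.conj (ConjAct.ofConjAct c)).orderOf_eq _).trans (orderOf_t hy)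
    · intro h
      obtain ⟨c, hc⟩ := isConj_iff.mp (all_conj hy h)
      exact ⟨ConjAct.toConjAct c, by rw [ConjAct.smul_def]; simpa using hc⟩
  have hos := MulAction.index_stabilizer (ConjAct (J3 F ω)) (tE hy)
  rw [horb, Set.ncard_coe_finset] at hos
  have hG := (MulAction.stabilizer (ConjAct (J3 F ω)) (tE hy)).card_mul_index
  rw [hos, show Nat.card (ConjAct (J3 F ω)) = 50232960 from card_J3 hy] at hG
  have e : Nat.card (MulAction.stabilizer (ConjAct (J3 F ω)) (tE hy)) =
      Nat.card (Subgroup.centralizer ({tE hy} : Set (J3 F ω))) := by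
    rw [ConjAct.stabilizer_eq_centralizer]
    rfl
  rw [e] at hG
  have hI : I.card = 26163 := by omega
  rw [hI] at hG
  omega

/-! ### The structure -/

omit hy in
/-- The core, in the centraliser. -/
def qSub (hy : Hyp F ω) : Subgroup ↥(Subgroup.centralizer ({tE hy} : Set (J3 F ω))) :=
  (lQ.grp hy).subgroupOf _

omit hy in
/-- The complement, in the centraliser. -/
def aSub (hy : Hyp F ω) : Subgroup ↥(Subgroup.centralizer ({tE hy} : Set (J3 F ω))) :=
  (lA.grp hy).subgroupOf _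

theorem grp_le {L : Lst} (hok : L.ok = true)
    (h : allRange (fun j => peq (mmul (cd (L.tri j)) tC) (mmul tC (cd (L.tri j)))) 8 0 L.gens.length = true) :
    L.grp hy ≤ Subgroup.centralizer ({tE hy} : Set (J3 F ω)) := by
  rw [Lst.grp, Subgroup.closure_le]
  rintro x ⟨j, hj, rfl⟩
  have h' := allRange_spec 8 0 _ h j (Nat.zero_le _) (by omega)
  rw [SetLike.mem_coe, Subgroup.mem_centralizer_singleton_iff]
  exact ((Lst.gen_R hy hok hj).mul hy (t_facts hy).2.1).eq hy ((t_facts hy).2.1.mul hy (Lst.gen_R hy hok hj)) h'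

theorem q_le : lQ.grp hy ≤ Subgroup.centralizer ({tE hy} : Set (J3 F ω)) := by
  have h := check_comm
  rw [Bool.and_eq_true] at h
  exact grp_le hy lQ_ok h.1

theorem a_le : lA.grp hy ≤ Subgroup.centralizer ({tE hy} : Set (J3 F ω)) := by
  have h := check_comm
  rw [Bool.and_eq_true] at h
  exact grp_le hy lA_ok h.2

theorem card_qSub : Nat.card (qSub hy) = 32 := by
  rw [qSub, Nat.card_congr (Subgroup.subgroupOfEquivOfLe (q_le hy)).toEquiv, Lst.card_grp hy lQ_ok]
  rfl

theorem card_aSub : Nat.card (aSub hy) = 60 := by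
  rw [aSub, Nat.card_congr (Subgroup.subgroupOfEquivOfLe (a_le hy)).toEquiv, Lst.card_grp hy lA_ok]
  rfl

theorem compl : (qSub hy).IsComplement' (aSub hy) := by
  haveI := finite_J3 hy
  refine Subgroup.isComplement'_of_card_mul_and_disjoint (by rw [card_qSub hy, card_aSub hy, card_cent hy]) ?_
  rw [disjoint_iff, eq_bot_iff]
  rintro x ⟨hq, ha⟩
  obtain ⟨l, hl, hlR⟩ := (Lst.mem_iff hy lQ_ok).mp hq
  obtain ⟨i, hi, hiR⟩ := (Lst.mem_iff hy lA_ok).mp ha
  have e := hiR.code_unique hy hlR (Lst.ok_elem lA_ok hi).2.1 (Lst.ok_elem lQ_ok hl).2.1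
    (Lst.ok_elem lA_ok hi).1 (Lst.ok_elem lQ_ok hl).1
  have h := allRange_spec 16 0 32 (allRange_spec 16 0 60 check_disjoint i (Nat.zero_le _) (by simpa [lA] using hi))
    l (Nat.zero_le _) (by simpa [lQ] using hl)
  simp only [Bool.or_eq_true, Bool.and_eq_true, Bool.not_eq_true'] at h
  rcases h with h | h
  · rw [Nat.eq_of_beq_eq_true h.1, (Lst.ok_zero lA_ok).2] at hiR
    rw [Subgroup.mem_bot]
    exact Subtype.ext (hiR.unique hy (R_one hy))
  · exact absurd e (beq_ne h)

theorem q_normal : (qSub hy).Normal := by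
  haveI := finite_J3 hy
  have hA : aSub hy ≤ Subgroup.normalizer (qSub hy : Set ↥(Subgroup.centralizer ({tE hy} : Set (J3 F ω)))) := by
    have hgen : lA.grp hy ≤ Subgroup.normalizer (lQ.grp hy : Set (J3 F ω)) := by
      rw [Lst.grp, Subgroup.closure_le]
      rintro g ⟨j, hj, rfl⟩
      have hsub : ∀ x ∈ lQ.grp hy, el hy (lA.tri j) * x * (el hy (lA.tri j))⁻¹ ∈ lQ.grp hy := by
        intro x hx
        obtain ⟨i, hi, hR⟩ := (Lst.mem_iff hy lQ_ok).mp hx
        have h := allRange_spec 16 0 32 (allRange_spec 8 0 _ check_conj j (Nat.zero_le _) (by omega))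
          i (Nat.zero_le _) (by simpa [lQ] using hi)
        simp only [Bool.and_eq_true, Nat.blt, Nat.ble_eq] at h
        obtain ⟨y, hym, hyR⟩ := Lst.exists_elem hy lQ_ok (i := qc j i) (by show qc j i < 32; omega)
        have hg := Lst.gen_R hy lA_ok hj
        rw [(hg.mul hy hR).eq hy (hyR.mul hy hg) h.2, mul_inv_cancel_right]
        exact hym
      rw [SetLike.mem_coe, Subgroup.mem_normalizer_iff]
      intro x
      refine ⟨hsub x, fun hx => ?_⟩
      let c : ↥(lQ.grp hy) → ↥(lQ.grp hy) := fun y => ⟨_, hsub y y.2⟩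
      obtain ⟨y, hy'⟩ := Finite.surjective_of_injective (f := c) (fun a b e => Subtype.ext (by
        have := congrArg Subtype.val e; simpa [c] using this)) ⟨_, hx⟩
      have e : (y : J3 F ω) = x := by simpa [c] using congrArg Subtype.val hy'
      rw [← e]; exact y.2
    intro a ha
    rw [Subgroup.mem_normalizer_iff]
    intro x
    exact Subgroup.mem_normalizer_iff.mp (hgen ha) x
  refine Subgroup.normalizer_eq_top_iff.mp (eq_top_iff.mpr ?_)
  rw [← (compl hy).sup_eq_top, sup_le_iff]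
  exact ⟨Subgroup.le_normalizer, hA⟩

omit hy in
/-- The number of an element of the core. -/
noncomputable def qIdx (hy : Hyp F ω) (x : qSub hy) : ℕ :=
  ((Lst.mem_iff hy lQ_ok).mp x.2).choose

theorem qIdx_spec (x : qSub hy) : qIdx hy x < 32 ∧ R ((x : _) : J3 F ω) (lQ.code (qIdx hy x)) :=
  ((Lst.mem_iff hy lQ_ok).mp x.2).choose_spec

theorem qIdx_inj {x y : qSub hy} (e : qIdx hy x = qIdx hy y) : x = y := by
  have h := (qIdx_spec hy y).2
  rw [← e] at h
  exact Subtype.ext (Subtype.ext ((qIdx_spec hy x).2.unique hy h))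

theorem qIdx_mul (x y : qSub hy) : qIdx hy (x * y) = qm (qIdx hy x) (qIdx hy y) := by
  have h := allRange_spec 16 0 32 (allRange_spec 16 0 32 check_mul _ (Nat.zero_le _)
    (by simpa using (qIdx_spec hy x).1)) _ (Nat.zero_le _) (by simpa using (qIdx_spec hy y).1)
  simp only [Bool.and_eq_true, Nat.blt, Nat.ble_eq] at h
  exact Lst.index_unique hy lQ_ok (qIdx_spec hy _).1 (by show _ < 32; omega) (qIdx_spec hy _).2
    (((qIdx_spec hy x).2.mul hy (qIdx_spec hy y).2).congr hy h.2)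

theorem qIdx_one : qIdx hy 1 = 0 :=
  Lst.index_unique hy lQ_ok (qIdx_spec hy _).1 (Lst.ok_zero lQ_ok).1 (qIdx_spec hy _).2
    (by rw [(Lst.ok_zero lQ_ok).2]; exact R_one hy)

theorem qIdx_surj {i : ℕ} (hi : i < 32) : ∃ x : qSub hy, qIdx hy x = i := by
  obtain ⟨y, hym, hyR⟩ := Lst.exists_elem hy lQ_ok (i := i) hi
  refine ⟨⟨⟨y, q_le hy hym⟩, hym⟩, ?_⟩
  exact Lst.index_unique hy lQ_ok (qIdx_spec hy _).1 hi (qIdx_spec hy _).2 hyR

theorem extra_spec {i : ℕ} (hi : i < 32) :
    (∀ l < 32, qm i l = qm l i ∨ qm i l = qm (qm l i) InvData.qT) ∧ (qm i i = 0 ∨ qm i i = InvData.qT) ∧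
    (i ≠ 0 → i ≠ InvData.qT → ∃ l < 32, qm i l ≠ qm l i) := by
  have h := allRange_spec 16 0 32 check_extra i (Nat.zero_le _) (by omega)
  simp only [Bool.and_eq_true, Bool.or_eq_true, Bool.not_eq_true'] at h
  obtain ⟨⟨h1, h2⟩, h3⟩ := h
  refine ⟨fun l hl => ?_, h2.imp Nat.eq_of_beq_eq_true Nat.eq_of_beq_eq_true, fun h0 hT => ?_⟩
  · have := allRange_spec 16 0 32 h1 l (Nat.zero_le _) (by omega)
    simp only [commOk, Bool.or_eq_true] at this
    exact this.imp Nat.eq_of_beq_eq_true Nat.eq_of_beq_eq_true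
  · rcases h3 with (h3 | h3) | h3
    · exact absurd (Nat.eq_of_beq_eq_true h3) h0
    · exact absurd (Nat.eq_of_beq_eq_true h3) hT
    · by_contra hall
      push Not at hall
      have : allRange (fun l => Nat.beq (qm i l) (qm l i)) 16 0 32 = true := allRange_of 15 0 32 (by norm_num)
        fun l _ hl => by rw [hall l (by omega)]; exact Nat.beq_refl _
      rw [this] at h3
      exact Bool.noConfusion h3

theorem q_extraspecial : Cfsg.IsExtraspecial 2 ↥(qSub hy) := by
  haveI := Fact.mk Nat.prime_two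
  haveI := finite_J3 hy
  obtain ⟨z, hz⟩ := qIdx_surj hy (t_facts hy).2.2.2.2.1
  have hlt : ∀ x, qIdx hy x < 32 := fun x => (qIdx_spec hy x).1
  have hTne : InvData.qT ≠ 0 := by decide +kernel
  have hz1 : z ≠ 1 := fun e => hTne (by rw [← hz, e, qIdx_one hy])
  have hzz : z ^ 2 = 1 := by
    refine qIdx_inj hy ?_
    rw [sq, qIdx_mul, hz, qIdx_one]
    decide +kernel
  have hord : orderOf z = 2 := orderOf_eq_prime hzz hz1
  have hcomm : ∀ a b : qSub hy, a * b = b * a ∨ a * b = b * a * z := fun a b => by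
    rcases (extra_spec hy (hlt a)).1 _ (hlt b) with e | e
    · exact Or.inl (qIdx_inj hy (by rw [qIdx_mul, qIdx_mul, e]))
    · exact Or.inr (qIdx_inj hy (by rw [qIdx_mul, qIdx_mul, qIdx_mul, hz, e]))
  have hzc : ∀ a : qSub hy, a * z = z * a := fun a => by
    apply Subtype.ext; apply Subtype.ext
    have h1 := (qIdx_spec hy z).2
    rw [hz, (t_facts hy).2.2.2.1] at h1
    show ((a : _) : J3 F ω) * ((z : _) : J3 F ω) = ((z : _) : J3 F ω) * ((a : _) : J3 F ω)
    rw [h1.unique hy (t_facts hy).2.1]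
    exact Subgroup.mem_centralizer_singleton_iff.mp (a : ↥(Subgroup.centralizer ({tE hy} : Set (J3 F ω)))).2
  have hc : Subgroup.center (qSub hy) = Subgroup.zpowers z := by
    refine le_antisymm (fun a ha => ?_) (Subgroup.zpowers_le.mpr (Subgroup.mem_center_iff.mpr hzc))
    by_contra hna
    obtain ⟨l, hl, hne⟩ := (extra_spec hy (hlt a)).2.2
      (fun e => hna (by rw [qIdx_inj hy (e.trans (qIdx_one hy).symm)]; exact one_mem _))
      (fun e => hna (by rw [qIdx_inj hy (e.trans hz.symm)]; exact Subgroup.mem_zpowers z))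
    obtain ⟨b, rfl⟩ := qIdx_surj hy hl
    exact hne (by rw [← qIdx_mul, ← qIdx_mul, Subgroup.mem_center_iff.mp ha b])
  have hp : Invol.ExtraPairs.Pre 2 (qSub hy) z := by
    refine ⟨hord, hc, fun a b => ?_, fun a => ?_⟩
    · rcases hcomm a b with e | e
      · rw [show ⁅a, b⁆ = 1 by rw [commutatorElement_def, e]; group]
        exact one_mem _
      · rw [show ⁅a, b⁆ = z by rw [commutatorElement_def, e, mul_assoc (b * a), ← hzc, ← mul_assoc, mul_inv_cancel_right, hzc, mul_inv_cancel_right]]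
        exact Subgroup.mem_zpowers z
    · rcases (extra_spec hy (hlt a)).2.1 with e | e
      · rw [show a ^ 2 = 1 from qIdx_inj hy (by rw [sq, qIdx_mul, e, qIdx_one])]
        exact one_mem _
      · rw [show a ^ 2 = z from qIdx_inj hy (by rw [sq, qIdx_mul, e, hz])]
        exact Subgroup.mem_zpowers z
  exact hp.extraspecial (by rw [card_qSub hy]; norm_num)

theorem q_rank (E : Subgroup (qSub hy)) (hE : Cfsg.IsElementaryAbelian 2 E) : Nat.card E ≤ 2 ^ 2 := by
  classical
  haveI := finite_J3 hy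
  by_contra hlt
  letI : Fintype E := Fintype.ofFinite _
  let S : Finset ℕ := ((Finset.univ : Finset E).erase 1).image fun x => qIdx hy x.1
  have hcard : 4 ≤ S.card := by
    rw [Finset.card_image_of_injective _ (fun a b e => Subtype.ext (qIdx_inj hy e)),
      Finset.card_erase_of_mem (Finset.mem_univ _), Finset.card_univ, ← Nat.card_eq_fintype_card]
    omega
  have hS : ∀ a ∈ S, a ∈ qInv ∧ ∀ b ∈ S, qm a b = qm b a := by
    intro a ha
    obtain ⟨x, hx, rfl⟩ := Finset.mem_image.mp ha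
    have hx1 : x.1 ≠ 1 := fun e => Finset.ne_of_mem_erase hx (Subtype.ext e)
    refine ⟨?_, fun b hb => ?_⟩
    · rw [qInv, List.mem_filter, List.mem_range'_1]
      have := (qIdx_spec hy x.1).1
      have hne : qIdx hy x.1 ≠ 0 := fun e => hx1 (qIdx_inj hy (by rw [e, qIdx_one hy]))
      have hsq : qm (qIdx hy x.1) (qIdx hy x.1) = 0 := by
        rw [← qIdx_mul, ← sq, hE.2 _ x.2, qIdx_one]
      exact ⟨⟨by omega, by omega⟩, by rw [hsq]; rfl⟩
    · obtain ⟨y, -, rfl⟩ := Finset.mem_image.mp hb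
      have hxy : (x.1 : qSub hy) * y.1 = y.1 * x.1 := congrArg Subtype.val (hE.1.is_comm.comm x y)
      rw [← qIdx_mul, ← qIdx_mul, hxy]
  obtain ⟨T, hT, hTc⟩ := Finset.exists_subset_card_eq hcard
  let o := T.orderEmbOfFin hTc
  have hm : ∀ k, o k ∈ S := fun k => hT (Finset.orderEmbOfFin_mem T hTc k)
  have h := check_no_eight
  simp only [List.all_eq_true] at h
  have h' := h (o 0) (hS _ (hm 0)).1 (o 1) (hS _ (hm 1)).1 (o 2) (hS _ (hm 2)).1 (o 3) (hS _ (hm 3)).1
  have hlt01 : o 0 < o 1 := o.strictMono (by decide)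
  have hlt12 : o 1 < o 2 := o.strictMono (by decide)
  have hlt23 : o 2 < o 3 := o.strictMono (by decide)
  have hb : ∀ k l, Nat.beq (qm (o k) (o l)) (qm (o l) (o k)) = true := fun k l => by
    rw [(hS _ (hm k)).2 _ (hm l)]; exact Nat.beq_refl _
  have hble : ∀ {a b : ℕ}, a < b → Nat.blt a b = true := fun h => by
    simp only [Nat.blt, Nat.ble_eq]; omega
  rw [hble hlt01, hble hlt12, hble hlt23, hb 0 1, hb 0 2, hb 0 3, hb 1 2, hb 1 3, hb 2 3] at h'
  exact Bool.noConfusion h'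

theorem perm_spec {i : ℕ} (hi : i < 60) :
    (∀ k < 5, pA i k < 5) ∧ (∀ k < 5, ∀ l < 5, pA i k = pA i l → k = l) ∧
    (∀ l < i, ∃ k < 5, pA l k ≠ pA i k) ∧
    (∀ j < lA.gens.length, ∀ k < 5, pA (lA.nxt i j) k = pG j (pA i k)) ∧ (i = 0 → ∀ k < 5, pA i k = k) := by
  have h := allRange_spec 16 0 60 check_perm i (Nat.zero_le _) (by omega)
  simp only [Bool.and_eq_true] at h
  obtain ⟨⟨⟨h1, h2⟩, h3⟩, h4⟩ := h
  have h1' : ∀ k < 5, pA i k < 5 ∧ ∀ l < 5, k = l ∨ pA i k ≠ pA i l := fun k hk => by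
    have := allRange_spec 8 0 5 h1 k (Nat.zero_le _) (by omega)
    simp only [Bool.and_eq_true, Nat.blt, Nat.ble_eq] at this
    refine ⟨by omega, fun l hl => ?_⟩
    have := allRange_spec 8 0 5 this.2 l (Nat.zero_le _) (by omega)
    simp only [Bool.or_eq_true, Bool.not_eq_true'] at this
    exact this.imp Nat.eq_of_beq_eq_true beq_ne
  refine ⟨fun k hk => (h1' k hk).1, fun k hk l hl e => ((h1' k hk).2 l hl).resolve_right (fun n => n e),
    fun l hl => ?_, fun j hj k hk => ?_, fun h0 k hk => ?_⟩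
  · by_contra hall
    push Not at hall
    have := allRange_spec 16 0 _ h2 l (Nat.zero_le _) (by omega)
    rw [allRange_of 7 0 5 (by norm_num) fun k _ hk => by rw [hall k (by omega)]; exact Nat.beq_refl _] at this
    exact Bool.noConfusion this
  · exact Nat.eq_of_beq_eq_true (allRange_spec 8 0 5 (allRange_spec 8 0 _ h3 j (Nat.zero_le _) (by omega))
      k (Nat.zero_le _) (by omega))
  · subst h0
    simp only [Nat.beq_refl, Bool.not_true, Bool.false_or] at h4
    exact Nat.eq_of_beq_eq_true (allRange_spec 8 0 5 h4 k (Nat.zero_le _) (by omega))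

theorem a_equiv : Nonempty (↥(lA.grp hy) ≃* ↥(alternatingGroup (Fin 5))) := by
  classical
  haveI := finite_J3 hy
  let ix : lA.grp hy → ℕ := fun x => (Lst.idx hy lA_ok x : ℕ)
  have hix : ∀ x, ix x < 60 := fun x => (Lst.idx hy lA_ok x).isLt
  let P : lA.grp hy → Equiv.Perm (Fin 5) := fun x =>
    Equiv.ofBijective (fun k : Fin 5 => (⟨pA (ix x) k, (perm_spec hy (hix x)).1 k k.isLt⟩ : Fin 5))
      (Finite.injective_iff_bijective.mp fun k l e => Fin.ext
        ((perm_spec hy (hix x)).2.1 k k.isLt l l.isLt (congrArg Fin.val e)))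
  have hP : ∀ x (k : Fin 5), ((P x k : Fin 5) : ℕ) = pA (ix x) k := fun x k => rfl
  have hinj : Function.Injective P := fun x y e => by
    apply (Lst.idx_bijective hy lA_ok).1
    apply Fin.ext
    have key : ∀ x y : lA.grp hy, P x = P y → ¬ ix x < ix y := fun x y e hlt => by
      obtain ⟨k, hk, hne⟩ := (perm_spec hy (hix y)).2.2.1 _ hlt
      exact hne (by rw [← hP x ⟨k, hk⟩, ← hP y ⟨k, hk⟩, e])
    have h1 := key x y e
    have h2 := key y x e.symm
    show ix x = ix y
    omega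
  have hone : P 1 = 1 := by
    have h0 : ix 1 = 0 := Lst.index_unique hy lA_ok (hix 1) (Lst.ok_zero lA_ok).1 (Lst.idx_spec hy lA_ok 1)
      (by rw [(Lst.ok_zero lA_ok).2]; exact R_one hy)
    ext k
    rw [hP, h0]
    exact (perm_spec hy (i := 0) (by norm_num)).2.2.2.2 rfl k k.isLt
  have hstep : ∀ j (hj : j < lA.gens.length) (x : lA.grp hy),
      P (⟨_, Lst.gen_mem hy lA_ok hj⟩ * x) = P ⟨_, Lst.gen_mem hy lA_ok hj⟩ * P x := by
    intro j hj x
    have hnx : ∀ x : lA.grp hy, ix (⟨_, Lst.gen_mem hy lA_ok hj⟩ * x) = lA.nxt (ix x) j := fun x => by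
      obtain ⟨h1, h2⟩ := (Lst.ok_elem lA_ok (hix x)).2.2.2.1 j hj
      exact Lst.index_unique hy lA_ok (hix _) h1 (Lst.idx_spec hy lA_ok _)
        (((Lst.gen_R hy lA_ok hj).mul hy (Lst.idx_spec hy lA_ok x)).congr hy h2)
    have hg : ∀ k : Fin 5, ((P ⟨_, Lst.gen_mem hy lA_ok hj⟩ k : Fin 5) : ℕ) = pG j k := fun k => by
      have := hnx 1
      rw [mul_one] at this
      rw [hP, this, (perm_spec hy (hix 1)).2.2.2.1 j hj k k.isLt, ← hP, hone]
      rfl
    ext k
    rw [Equiv.Perm.mul_apply, hP, hnx, (perm_spec hy (hix x)).2.2.2.1 j hj k k.isLt, hg]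
    rfl
  have hmul : ∀ x y : lA.grp hy, P (x * y) = P x * P y := by
    intro x y
    have key : (x : J3 F ω) ∈ {g : J3 F ω | ∃ hg : g ∈ lA.grp hy, ∀ y, P (⟨g, hg⟩ * y) = P ⟨g, hg⟩ * P y} := by
      refine closure_mem_of_mul_mem ?_ ?_ x.2
      · exact ⟨one_mem _, fun y => by
          rw [show (⟨1, one_mem _⟩ : lA.grp hy) = 1 from rfl, one_mul, hone, one_mul]⟩
      · rintro s ⟨j, hj, rfl⟩ g ⟨hg, hgy⟩
        refine ⟨mul_mem (Lst.gen_mem hy lA_ok hj) hg, fun y => ?_⟩
        rw [show (⟨el hy (lA.tri j) * g, mul_mem (Lst.gen_mem hy lA_ok hj) hg⟩ : lA.grp hy) =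
          ⟨_, Lst.gen_mem hy lA_ok hj⟩ * ⟨g, hg⟩ from rfl, mul_assoc, hstep j hj, hgy, hstep j hj, mul_assoc]
    obtain ⟨hg, h⟩ := key
    exact h y
  let φ : lA.grp hy →* Equiv.Perm (Fin 5) := MonoidHom.mk' P hmul
  have hr : φ.range.index = 2 := by
    have h := φ.range.card_mul_index
    have hc : Nat.card φ.range = 60 :=
      (Nat.card_congr (MonoidHom.ofInjective (f := φ) hinj).toEquiv).symm.trans (Lst.card_grp hy lA_ok)
    rw [Nat.card_perm, Nat.card_fin, hc, show Nat.factorial 5 = 120 from rfl] at h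
    omega
  exact ⟨(MonoidHom.ofInjective (f := φ) hinj).trans
    (MulEquiv.subgroupCongr (Equiv.Perm.eq_alternatingGroup_of_index_eq_two hr))⟩

/-- Involutions are conjugate; the centraliser of one is `2^{1+4}:A₅`. -/
theorem inv_main : (∀ x y : J3 F ω, orderOf x = 2 → orderOf y = 2 → IsConj x y) ∧
    ∃ t : J3 F ω, orderOf t = 2 ∧ ∃ (Q : Subgroup ↥(Subgroup.centralizer ({t} : Set (J3 F ω)))) (_ : Q.Normal),
      Cfsg.IsExtraspecial 2 Q ∧ Nat.card Q = 32 ∧
      (∀ E : Subgroup Q, Cfsg.IsElementaryAbelian 2 E → Nat.card E ≤ 2 ^ 2) ∧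
      (∃ H : Subgroup ↥(Subgroup.centralizer ({t} : Set (J3 F ω))), Q.IsComplement' H) ∧
      Nonempty (↥(Subgroup.centralizer ({t} : Set (J3 F ω))) ⧸ Q ≃* ↥(alternatingGroup (Fin 5))) := by
  haveI := q_normal hy
  refine ⟨fun x y hx hx' => (all_conj hy hx).symm.trans (all_conj hy hx'), tE hy, orderOf_t hy, qSub hy, q_normal hy,
    q_extraspecial hy, card_qSub hy, q_rank hy, ⟨aSub hy, compl hy⟩, ?_⟩
  obtain ⟨e⟩ := a_equiv hy
  exact ⟨((compl hy).symm.QuotientMulEquiv.trans (Subgroup.subgroupOfEquivOfLe (a_le hy))).trans e⟩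

end Cfsg.Agent.JankoThree
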