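import Cfsg.Agent.Lib.JankoThree.Stab
import Cfsg.Agent.Lib.JankoThree.CheckIso

/-!
# The orbits of the triple cover of J₃ on lines
-/

set_option autoImplicit false

namespace Cfsg.Agent.JankoThree

open Matrix Cfsg.Spor
open Enum (allRange allRange_spec field)

universe u

/-- Every line code with leading coordinate one is a slot. -/
theorem exists_slot : ∀ (n j m : ℕ), j ≤ n → m < 4 ^ (n - j) →
    ∃ s, 3 * s + 1 < 4 ^ (n + 1) ∧ Cert.slotCode n s = 4 ^ j * (1 + 4 * m)
  | 0, j, m, hj, hm => by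
    obtain rfl : j = 0 := by omega
    obtain rfl : m = 0 := by simpa using hm
    exact ⟨0, by norm_num, rfl⟩
  | n + 1, 0, m, _, hm => by
    refine ⟨m, ?_, ?_⟩
    · have : 4 ^ (n + 1 + 1) = 4 * 4 ^ (n + 1) := by ring
      simp only [Nat.sub_zero] at hm
      omega
    · rw [Cert.slotCode, show Nat.blt m (4 ^ (n + 1)) = true from Nat.ble_eq.mpr (by simpa using hm)]
      simp
  | n + 1, j + 1, m, hj, hm => by
    obtain ⟨s, hs, he⟩ := exists_slot n j m (by omega) (by simpa using hm)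
    refine ⟨4 ^ (n + 1) + s, ?_, ?_⟩
    · have : 4 ^ (n + 1 + 1) = 4 * 4 ^ (n + 1) := by ring
      omega
    · have e : Nat.blt (4 ^ (n + 1) + s) (4 ^ (n + 1)) = false := by
        cases e : Nat.blt (4 ^ (n + 1) + s) (4 ^ (n + 1)) with
        | false => rfl
        | true => simp [Nat.blt] at e
      rw [Cert.slotCode, e, cond_false, Nat.add_sub_cancel_left, he]
      ring

theorem slotCode_lt : ∀ (n i : ℕ), 3 * i + 1 < 4 ^ (n + 1) → Cert.slotCode n i < 4 ^ (n + 1)
  | 0, i, h => by simp [Cert.slotCode]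
  | n + 1, i, h => by
    have e4 : 4 ^ (n + 1 + 1) = 4 * 4 ^ (n + 1) := by ring
    rw [Cert.slotCode]
    cases e : Nat.blt i (4 ^ (n + 1)) with
    | true =>
      have : i + 1 ≤ 4 ^ (n + 1) := Nat.ble_eq.mp e
      simp only [cond_true]
      omega
    | false =>
      have hle : 4 ^ (n + 1) ≤ i := by
        by_contra hne
        have : Nat.blt i (4 ^ (n + 1)) = true := Nat.ble_eq.mpr (by omega)
        rw [e] at this
        exact Bool.noConfusion this
      simp only [cond_false]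
      have := slotCode_lt n (i - 4 ^ (n + 1)) (by omega)
      omega

variable {F : Type u} [Field F] [Fintype F] {ω : F}

theorem exists_code (hy : Hyp F ω) (v : F9 → F) : ∃ c, c < 2 ^ 18 ∧ dec ω c = v := by
  let f : Fin (2 ^ 18) → (F9 → F) := fun c => dec ω c
  have hinj : Function.Injective f := fun a b h => Fin.ext (dec_inj hy.good a.2 b.2 h)
  have hb : Function.Bijective f := hinj.bijective_of_nat_card_le
    (by rw [Nat.card_fun, Nat.card_eq_fintype_card, hy.card, Nat.card_fin, Nat.card_eq_fintype_card]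
        decide)
  obtain ⟨c, hc⟩ := hb.2 v
  exact ⟨c, c.2, hc⟩

theorem sum_cubes (hy : Hyp F ω) (v : ℕ) :
    ∑ z, (dec ω v z) ^ 3 = bitVal (Cert.oddWeight 9 v) := by
  have hg := hy.good
  have key : ∀ n v, ∑ j ∈ Finset.range n, (coord ω v j) ^ 3 = bitVal (Cert.oddWeight n v) := by
    intro n
    induction n with
    | zero => intro v; simp [Cert.oddWeight, bitVal]
    | succ n ih =>
      intro v
      rw [Finset.sum_range_succ', Cert.oddWeight, bitVal_xor hg, ← ih, add_comm]
      congr 1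
      · have h3 : Nat.land v 3 = v % 2 ^ 2 := Nat.and_two_pow_sub_one_eq_mod v 2
        have hb : (!Nat.beq (Nat.land v 3) 0) = (v.testBit 0 || v.testBit 1) := by
          have k : ∀ r : Fin 4, (!Nat.beq r.1 0) = (r.1.testBit 0 || r.1.testBit 1) := by decide
          have := k ⟨v % 2 ^ 2, Nat.mod_lt _ (by norm_num)⟩
          rw [h3, this]
          simp only [Nat.testBit_mod_two_pow, show (0 : ℕ) < 2 by norm_num, show (1 : ℕ) < 2 by norm_num,
            decide_true, Bool.true_and]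
        rw [hb]
        have hroot := hg.root
        have htwo := hg.two
        simp only [coord, Nat.mul_zero, zero_add]
        cases v.testBit 0 <;> cases v.testBit 1 <;> simp [bitVal]
        · linear_combination (ω - 1) * hroot
        · linear_combination (ω + 2) * hroot - htwo
      · refine Finset.sum_congr rfl fun j _ => ?_
        congr 1
        simp only [coord, show Nat.shiftRight v 2 = v >>> 2 from rfl, Nat.testBit_shiftRight]
        ring_nf
  rw [← key, ← sum_idx (fun j => (coord ω v j) ^ 3)]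
  rfl

theorem exists_leading_one (hy : Hyp F ω) {v : F9 → F} (hv : v ≠ 0) :
    ∃ s < 87381, ∃ c : F, c ≠ 0 ∧ v = c • dec ω (Cert.slotCode 8 s) := by
  classical
  have hex : ∃ j, ∃ z : F9, idx z = j ∧ v z ≠ 0 := by
    by_contra h
    push_neg at h
    exact hv (funext fun z => h (idx z) z rfl)
  obtain ⟨z, hz, hvz⟩ := Nat.find_spec hex
  generalize hj : Nat.find hex = j at hz
  obtain ⟨u, hu, hud⟩ := exists_code hy ((v z)⁻¹ • v)
  have hlow : ∀ w : F9, idx w < j → dec ω u w = bitVal false + ω * bitVal false := by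
    intro w hw
    have h0 := Nat.find_min hex (hj ▸ hw)
    push_neg at h0
    rw [hud, Pi.smul_apply, h0 w rfl]
    simp [bitVal]
  have hone : dec ω u z = bitVal true + ω * bitVal false := by
    rw [hud, Pi.smul_apply, smul_eq_mul, inv_mul_cancel₀ hvz]
    simp [bitVal]
  have hj9 : j < 9 := hz ▸ idx_lt z
  have b1 := bits_inj hy.good hone
  rw [hz] at b1
  have hmod : u % 2 ^ (2 * j) = 0 := by
    apply Nat.eq_of_testBit_eq
    intro i
    rw [Nat.testBit_mod_two_pow, Nat.zero_testBit]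
    by_cases hi : i < 2 * j
    · have hsurj : ∀ k < 9, ∃ w : F9, idx w = k := by decide
      obtain ⟨w, hw⟩ := hsurj (i / 2) (by omega)
      have bw := bits_inj hy.good (hlow w (by omega))
      rw [hw] at bw
      rcases Nat.mod_two_eq_zero_or_one i with e | e
      · rw [show i = 2 * (i / 2) by omega, bw.1, Bool.and_false]
      · rw [show i = 2 * (i / 2) + 1 by omega, bw.2, Bool.and_false]
    · simp [hi]
  have hdig : u / 2 ^ (2 * j) % 4 = 1 := by
    apply Nat.eq_of_testBit_eq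
    intro i
    rw [show (4 : ℕ) = 2 ^ 2 from rfl, Nat.testBit_mod_two_pow, ← Nat.shiftRight_eq_div_pow,
      Nat.testBit_shiftRight]
    rcases i with _ | _ | i
    · simp [b1.1]
    · rw [show (2 * j + (0 + 1)) = 2 * j + 1 from rfl, b1.2]; rfl
    · simp [Nat.testBit_add_one]
  have hpow : 2 ^ (2 * j) = 4 ^ j := by rw [pow_mul]; norm_num
  rw [hpow] at hmod hdig
  have hm : u / 4 ^ j / 4 < 4 ^ (8 - j) := by
    rw [Nat.div_div_eq_div_mul, Nat.div_lt_iff_lt_mul (by positivity)]
    have e : 4 ^ (8 - j) * (4 ^ j * 4) = 2 ^ 18 := by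
      rw [← pow_succ, ← pow_add, show 8 - j + (j + 1) = 9 by omega]; norm_num
    rw [e]; exact hu
  obtain ⟨s, hs, hse⟩ := exists_slot 8 j (u / 4 ^ j / 4) (by omega) hm
  refine ⟨s, by norm_num at hs ⊢; omega, v z, hvz, ?_⟩
  have e1 : Cert.slotCode 8 s = u := by
    rw [hse, show 1 + 4 * (u / 4 ^ j / 4) = u / 4 ^ j by omega]
    exact Nat.mul_div_cancel' (Nat.dvd_of_mod_eq_zero hmod)
  rw [e1, hud, smul_smul, mul_inv_cancel₀ hvz, one_smul]

theorem iso_conn (hy : Hyp F ω) {s : ℕ} (hs : s < 87381)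
    (he : Cert.oddWeight 9 (Cert.slotCode 8 s) = false) :
    ∃ g ∈ threeJ3 F ω,
      Maps ω g (Cert.slotCode 8 Data.cert.isoRoot) (Cert.slotCode 8 s) := by
  have key : ∀ r, ∀ s < 87381, Cert.oddWeight 9 (Cert.slotCode 8 s) = false →
      field 25 (Data.cert.isoInfo.get (s / 256)) (s % 256) / 2 ^ 19 = r →
      ∃ g ∈ threeJ3 F ω,
        Maps ω g (Cert.slotCode 8 Data.cert.isoRoot) (Cert.slotCode 8 s) := by
    intro r
    induction r using Nat.strong_induction_on with
    | _ r ih =>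
      intro s hs he hr
      have h := allRange_spec 32 0 87381 Data.isoOk s (Nat.zero_le _) (by omega)
      simp only [Cert.isoOk, he, Bool.false_or, hr] at h
      cases e0 : Nat.beq r 0 with
      | true =>
        rw [e0] at h
        simp only [cond_true] at h
        exact ⟨1, one_mem _, by rw [Nat.eq_of_beq_eq_true h]; exact maps_one _⟩
      | false =>
        rw [e0] at h
        simp only [cond_false, Bool.and_eq_true, Bool.not_eq_true', Nat.blt, Nat.ble_eq] at h
        obtain ⟨⟨⟨⟨hp, hpe⟩, hlt⟩, hg⟩, hap⟩ := h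
        obtain ⟨x, hx, hxm⟩ := ih _ (Nat.lt_of_succ_le hlt) _ (Nat.lt_of_succ_le hp) hpe rfl
        generalize field 25 (Data.cert.isoInfo.get (s / 256)) (s % 256) = e at hp hg hap hxm
        have hp18 : Cert.slotCode 8 (e % 2 ^ 17) < 2 ^ 18 := by
          have := slotCode_lt 8 (e % 2 ^ 17) (by norm_num at hp ⊢; omega)
          simpa using this
        have hg' : e / 2 ^ 17 % 4 = 0 ∨ e / 2 ^ 17 % 4 = 1 ∨ e / 2 ^ 17 % 4 = 2 := by omega
        obtain ⟨y, hyJ, hyr⟩ : ∃ y ∈ threeJ3 F ω, Maps ω y (Cert.slotCode 8 (e % 2 ^ 17))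
            (Cert.slotCode 8 s) := by
          rcases hg' with hgg | hgg | hgg <;> rw [hgg] at hap
          · obtain ⟨h1, h2, -⟩ := hGen_spec (g := 0) (by norm_num)
            exact ⟨_, stabH_le hy (hel_mem hy _),
              (hel_rep hy h1).maps_tab hy.good h2 hp18 hap⟩
          · obtain ⟨h1, h2, -⟩ := hGen_spec (g := 1) (by norm_num)
            exact ⟨_, stabH_le hy (hel_mem hy _),
              (hel_rep hy h1).maps_tab hy.good h2 hp18 hap⟩
          · exact ⟨tU hy, genU_mem hy _, (tU_rep hy).maps_tab hy.good t_tab hp18 hap⟩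
        exact ⟨y * x, mul_mem hyJ hx, hxm.comp hyr⟩
  exact key _ s hs he rfl

theorem iso_orbit (hy : Hyp F ω) (v w : F9 → F) (hv : v ≠ 0) (hw : w ≠ 0)
    (hv3 : ∑ z, (v z) ^ 3 = 0) (hw3 : ∑ z, (w z) ^ 3 = 0) :
    ∃ g ∈ threeJ3 F ω, ∃ c : F, c ≠ 0 ∧ (g : Matrix F9 F9 F) *ᵥ v = c • w := by
  have key : ∀ v : F9 → F, v ≠ 0 → ∑ z, (v z) ^ 3 = 0 → ∃ g ∈ threeJ3 F ω, ∃ c : F, c ≠ 0 ∧
      (g : Matrix F9 F9 F) *ᵥ dec ω (Cert.slotCode 8 Data.cert.isoRoot) = c • v := by
    intro v hv hv3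
    obtain ⟨s, hs, c, hc, rfl⟩ := exists_leading_one hy hv
    have he : Cert.oddWeight 9 (Cert.slotCode 8 s) = false := by
      simp only [Pi.smul_apply, smul_eq_mul, mul_pow, ← Finset.mul_sum, sum_cubes hy] at hv3
      cases e : Cert.oddWeight 9 (Cert.slotCode 8 s) with
      | false => rfl
      | true => simp [e, bitVal, hc] at hv3
    obtain ⟨g, hg, d, hd, hm⟩ := iso_conn hy hs he
    exact ⟨g, hg, d * c⁻¹, mul_ne_zero hd (inv_ne_zero hc), by
      rw [hm, smul_smul, mul_assoc, inv_mul_cancel₀ hc, mul_one]⟩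
  obtain ⟨a, ha, c, hc, hca⟩ := key v hv hv3
  obtain ⟨b, hb, d, hd, hdb⟩ := key w hw hw3
  refine ⟨b * a⁻¹, mul_mem hb (inv_mem ha), c⁻¹ * d, mul_ne_zero (inv_ne_zero hc) hd, ?_⟩
  have h1 : ((a⁻¹ : GL F9 F) : Matrix F9 F9 F) *ᵥ v =
      c⁻¹ • dec ω (Cert.slotCode 8 Data.cert.isoRoot) := by
    have e := congrArg (fun x => ((a⁻¹ : GL F9 F) : Matrix F9 F9 F) *ᵥ x) hca
    simp only [Matrix.mulVec_mulVec, ← Units.val_mul, inv_mul_cancel, Units.val_one,
      Matrix.one_mulVec, Matrix.mulVec_smul] at e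
    rw [e, smul_smul, inv_mul_cancel₀ hc, one_smul]
  rw [Units.val_mul, ← Matrix.mulVec_mulVec, h1, Matrix.mulVec_smul, hdb, smul_smul]

theorem orbit_lines_ncard (hy : Hyp F ω) :
    {L : Submodule F (F9 → F) | ∃ g ∈ threeJ3 F ω,
      L = F ∙ ((g : Matrix F9 F9 F) *ᵥ (Pi.single (0 : F9) (1 : F) : F9 → F))}.ncard = 23256 := by
  let f : Fin 23256 → Submodule F (F9 → F) := fun i => F ∙ dec ω (Data.cert.pt i)
  have hset : {L : Submodule F (F9 → F) | ∃ g ∈ threeJ3 F ω,
      L = F ∙ ((g : Matrix F9 F9 F) *ᵥ (Pi.single (0 : F9) (1 : F) : F9 → F))} = Set.range f := by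
    ext L
    constructor
    · rintro ⟨g, hg, rfl⟩
      obtain ⟨i, hi, c, hc, e⟩ := orbit_mem hy hg
      refine ⟨⟨i, hi⟩, ?_⟩
      rw [← dec_one hy.good, e, Submodule.span_singleton_smul_eq hc.isUnit]
    · rintro ⟨i, rfl⟩
      obtain ⟨g, hg, c, hc, e⟩ := exists_orbit hy i.2
      refine ⟨g, hg, ?_⟩
      rw [← dec_one hy.good, e, Submodule.span_singleton_smul_eq hc.isUnit]
  have hinj : Function.Injective f := by
    intro i j h
    obtain ⟨z, hz⟩ := Submodule.span_singleton_eq_span_singleton.mp h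
    refine Fin.ext (pt_injective i.2 j.2 ?_)
    refine Maps.unique (g := (1 : GL F9 F)) hy.good hy.card (maps_one (ω := ω) (Data.cert.pt i)) ?_
      (pt_lt _) (pt_lt _) (pt_isMin i.2) (pt_isMin j.2)
    refine ⟨(z : F)⁻¹, inv_ne_zero z.ne_zero, ?_⟩
    rw [Units.val_one, Matrix.one_mulVec, ← hz, Units.smul_def, smul_smul,
      inv_mul_cancel₀ z.ne_zero, one_smul]
  rw [hset, ← Nat.card_coe_set_eq, Nat.card_range_of_injective hinj, Nat.card_fin]

end Cfsg.Agent.JankoThree
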