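import Cfsg.Agent.Lib.JankoThree.OutModel

/-! An outer automorphism of J₃ from conjugation in the field of coefficients and of indices. -/

set_option autoImplicit false

namespace Cfsg.Agent.JankoThree.OutAut

open Matrix Cfsg.Spor Cfsg.Agent.JankoThree.TwoFusion
open Enum (allRange allRange_spec)
open scoped commutatorElement

universe u

variable {F : Type u} [Field F] [Fintype F] {ω : F} (hy : Hyp F ω)

theorem pow_four (hy : Hyp F ω) (a : F) : (a ^ 2) ^ 2 = a := by
  rw [← pow_mul]
  have h := FiniteField.pow_card a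
  rw [hy.card] at h
  exact h

/-- The conjugation of the field. -/
def conjF (hy : Hyp F ω) : F ≃+* F where
  toFun a := a ^ 2
  invFun a := a ^ 2
  left_inv := pow_four hy
  right_inv := pow_four hy
  map_mul' a b := mul_pow a b 2
  map_add' a b := by linear_combination a * b * hy.good.two

/-- The conjugation of the indices. -/
def barE : F9 ≃ F9 where
  toFun := barF9
  invFun := barF9
  left_inv := by decide
  right_inv := by decide

/-- Conjugation of a matrix. -/
def sigM (hy : Hyp F ω) : Matrix F9 F9 F →* Matrix F9 F9 F where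
  toFun M := Matrix.of fun w z => conjF hy (M (barE w) (barE z))
  map_one' := by
    ext w z
    by_cases h : w = z <;> simp [Matrix.one_apply, h]
  map_mul' M N := by
    ext w z
    simp only [Matrix.of_apply, Matrix.mul_apply, map_sum, map_mul]
    exact (Equiv.sum_comp barE fun v => conjF hy (M (barE w) v) * conjF hy (N v (barE z))).symm

theorem sigM_sigM (hy : Hyp F ω) (M : Matrix F9 F9 F) : sigM hy (sigM hy M) = M := by
  ext w z
  show ((M (barF9 (barF9 w)) (barF9 (barF9 z))) ^ 2) ^ 2 = M w z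
  rw [pow_four hy, show barF9 (barF9 w) = w from barE.left_inv w,
    show barF9 (barF9 z) = z from barE.left_inv z]

/-- Conjugation on units. -/
noncomputable def sigU (hy : Hyp F ω) : GL F9 F →* GL F9 F := Units.map (sigM hy)

include hy

theorem conjF_val2 {c : ℕ} (hc : c < 4) : conjF hy (val2 ω c) = val2 ω (cjC c) := by
  have h2 := sq_eq hy.good
  have two := hy.good.two
  show val2 ω c ^ 2 = _
  interval_cases c
  · rw [show cjC 0 = 0 from rfl]; simp [val2, bitVal]
  · rw [show cjC 1 = 1 from rfl]; simp [val2, bitVal, Nat.testBit]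
  · rw [show cjC 2 = 3 from rfl]; simp [val2, bitVal, Nat.testBit, h2, add_comm]
  · rw [show cjC 3 = 2 from rfl]; simp [val2, bitVal, Nat.testBit]
    linear_combination h2 + (1 + ω) * two

theorem mat_cjGen (i : Fin 43) : mat ω (cjGen i) = sigM hy (mat ω (Data.cert.gen i)) := by
  ext w z
  show _ = conjF hy (mat ω (Data.cert.gen i) (barF9 w) (barF9 z))
  rw [mat_apply, mat_apply, cj_entry, conjF_val2 hy]
  rw [entry, show ∀ x, Nat.land x 3 = x % 2 ^ 2 from fun x => Nat.and_two_pow_sub_one_eq_mod x 2]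
  exact Nat.mod_lt _ (by norm_num)

theorem sigU_mem {g : GL F9 F} (hg : g ∈ threeJ3 F ω) : sigU hy g ∈ threeJ3 F ω := by
  have hle : threeJ3 F ω ≤ (threeJ3 F ω).comap (sigU hy) := by
    conv_lhs => rw [threeJ3]
    rw [Subgroup.closure_le]
    intro g hg
    obtain ⟨i, hi, rfl⟩ := gens_genU hy hg
    have h := allRange_spec 16 0 43 cj_check i (Nat.zero_le _) (by omega)
    simp only [cjOk, triB, Bool.and_eq_true, Nat.blt_eq] at h
    obtain ⟨⟨⟨ha, hk⟩, hb⟩, he⟩ := h
    have hr : Rep ω (sigU hy (genU hy i)) (cjGen i) := ⟨1, one_ne_zero, by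
      rw [one_smul, mat_cjGen hy ⟨i, hi⟩, ← genU_val hy hi]; rfl⟩
    obtain ⟨z, hz, e⟩ := ((hel_rep hy ha).mul hy.good
      ((dEl_rep hy hk).mul hy.good (hel_rep hy hb))).unique (hr.congr hy.good he)
    rw [SetLike.mem_coe, Subgroup.mem_comap, e]
    exact mul_mem (zs_le hy hz)
      (mul_mem (stabH_le hy (hel_mem hy _)) (mul_mem (dEl_mem_J hy) (stabH_le hy (hel_mem hy _))))
  exact hle hg

omit hy in
/-- The automorphism of the cover. -/
noncomputable def sigJ (hy : Hyp F ω) : threeJ3 F ω ≃* threeJ3 F ω where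
  toFun g := ⟨sigU hy g, sigU_mem hy g.2⟩
  invFun g := ⟨sigU hy g, sigU_mem hy g.2⟩
  left_inv g := Subtype.ext (Units.ext (sigM_sigM hy _))
  right_inv g := Subtype.ext (Units.ext (sigM_sigM hy _))
  map_mul' g h := Subtype.ext (map_mul (sigU hy) _ _)

theorem sigJ_center :
    (Subgroup.center (threeJ3 F ω)).map (sigJ hy).toMonoidHom = Subgroup.center (threeJ3 F ω) := by
  ext g
  rw [Subgroup.mem_map_equiv, Subgroup.mem_center_iff, Subgroup.mem_center_iff]
  constructor
  · intro h k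
    simpa using congrArg (sigJ hy) (h ((sigJ hy).symm k))
  · intro h k
    apply (sigJ hy).injective
    simpa using h (sigJ hy k)

omit hy in
/-- The automorphism of J₃. -/
noncomputable def sigQ (hy : Hyp F ω) : MulAut (J3 F ω) :=
  QuotientGroup.congr _ _ (sigJ hy) (sigJ_center hy)

theorem exists_omega_commutator :
    ∃ a b : threeJ3 F ω, ((⁅a, b⁆ : threeJ3 F ω) : GL F9 F).val = ω • (1 : Matrix F9 F9 F) := by
  have key : ∀ a b, a < 43 → b < 43 →
      mmul (Data.cert.gen a) (Data.cert.gen b) = mulW (mmul (Data.cert.gen b) (Data.cert.gen a)) →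
      ∃ a b : threeJ3 F ω, ((⁅a, b⁆ : threeJ3 F ω) : GL F9 F).val = ω • (1 : Matrix F9 F9 F) := by
    intro a b ha hb e
    refine ⟨⟨genU hy a, genU_mem hy a⟩, ⟨genU hy b, genU_mem hy b⟩, ?_⟩
    have e1 : ((genU hy a * genU hy b : GL F9 F) : Matrix F9 F9 F) =
        ω • ((genU hy b * genU hy a : GL F9 F) : Matrix F9 F9 F) := by
      rw [Units.val_mul, Units.val_mul, genU_val hy ha, genU_val hy hb, ← mat_mmul hy.good, e,
        mat_mulW hy.good, mat_mmul hy.good]
    show ((genU hy a * genU hy b * (genU hy a)⁻¹ * (genU hy b)⁻¹ : GL F9 F) : Matrix F9 F9 F) = _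
    rw [show genU hy a * genU hy b * (genU hy a)⁻¹ * (genU hy b)⁻¹ =
      (genU hy a * genU hy b) * (genU hy b * genU hy a)⁻¹ by group,
      Units.val_mul, e1, Matrix.smul_mul, ← Units.val_mul, mul_inv_cancel, Units.val_one]
  have h := Data.scalarOk
  simp only [Bool.or_eq_true] at h
  rcases h with h | h
  · exact key 3 21 (by norm_num) (by norm_num) (Nat.eq_of_beq_eq_true h)
  · exact key 21 3 (by norm_num) (by norm_num) (Nat.eq_of_beq_eq_true h)

theorem sigQ_outer (q : J3 F ω) : sigQ hy ≠ MulAut.conj q := by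
  intro heq
  obtain ⟨g, rfl⟩ := QuotientGroup.mk_surjective q
  have hu : ∀ u : threeJ3 F ω, ∃ c ∈ Subgroup.center (threeJ3 F ω),
      sigJ hy u = g * u * g⁻¹ * c := by
    intro u
    have h : (QuotientGroup.mk (g * u * g⁻¹) : J3 F ω) = QuotientGroup.mk (sigJ hy u) :=
      (DFunLike.congr_fun heq (QuotientGroup.mk u)).symm
    exact ⟨_, QuotientGroup.eq.1 h, (mul_inv_cancel_left _ _).symm⟩
  obtain ⟨a, b, hab⟩ := exists_omega_commutator hy
  obtain ⟨c, hc, ea⟩ := hu a
  obtain ⟨d, hd, eb⟩ := hu b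
  have hzc : (⁅a, b⁆ : threeJ3 F ω) ∈ Subgroup.center (threeJ3 F ω) :=
    (mem_center_iff hy _).2 (mem_Zs.2 ⟨ω, ne_zero hy.good, hab⟩)
  have hfix : sigJ hy ⁅a, b⁆ = ⁅a, b⁆ := by
    have hcc : ∀ x, x * c = c * x := Subgroup.mem_center_iff.1 hc
    have hdd : ∀ x, x * d = d * x := Subgroup.mem_center_iff.1 hd
    have key : ∀ x y : threeJ3 F ω, ⁅x * c, y * d⁆ = ⁅x, y⁆ := by
      intro x y
      calc ⁅x * c, y * d⁆ = x * (c * y) * d * c⁻¹ * x⁻¹ * d⁻¹ * y⁻¹ := by
            rw [commutatorElement_def]; group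
        _ = x * y * (c * d) * c⁻¹ * x⁻¹ * d⁻¹ * y⁻¹ := by rw [← hcc y]; group
        _ = x * y * (d * x⁻¹) * d⁻¹ * y⁻¹ := by rw [hdd c]; group
        _ = ⁅x, y⁆ := by rw [← hdd, commutatorElement_def]; group
    rw [map_commutatorElement, ea, eb, key]
    calc ⁅g * a * g⁻¹, g * b * g⁻¹⁆ = g * ⁅a, b⁆ * g⁻¹ := by
          rw [commutatorElement_def, commutatorElement_def]; group
      _ = ⁅a, b⁆ := by rw [Subgroup.mem_center_iff.1 hzc g, mul_inv_cancel_right]
  have h := congrFun (congrFun (congrArg (fun u : threeJ3 F ω => (u : GL F9 F).val) hfix) 0) 0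
  change conjF hy (((⁅a, b⁆ : threeJ3 F ω) : GL F9 F).val (barE 0) (barE 0)) = _ at h
  rw [hab] at h
  simp only [Matrix.smul_apply, Matrix.one_apply_eq, smul_eq_mul, mul_one] at h
  have h' : ω * (ω - 1) = 0 := by
    have : ω ^ 2 = ω := h
    linear_combination this
  rcases mul_eq_zero.1 h' with e | e
  · exact ne_zero hy.good e
  · exact ne_one hy.good (sub_eq_zero.1 e)

end Cfsg.Agent.JankoThree.OutAut
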