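import Cfsg.Agent.Lib.JankoThree.OutUpper
import Cfsg.Agent.Lib.JankoThree.OutLower
import Cfsg.Prelude.Def_KGroupFacts

/-! The outer automorphism group of J₃ has order two. -/

set_option autoImplicit false

namespace Cfsg.Agent.JankoThree.OutAut

open Matrix Cfsg.Spor

universe u

variable {F : Type u} [Field F] [Fintype F] {ω : F} (hy : Hyp F ω)

include hy

theorem card_out : Nat.card (Cfsg.Out (J3 F ω)) = 2 := by
  obtain ⟨hfin, hle⟩ := card_mulAut_le hy
  haveI : Finite (J3 F ω) := Nat.finite_of_card_ne_zero (by rw [card_J3 hy]; norm_num)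
  haveI := isSimpleGroup_J3 hy
  have hZ : Subgroup.center (J3 F ω) = ⊥ := by
    refine (IsSimpleGroup.eq_bot_or_eq_top_of_normal _ inferInstance).resolve_right fun h => ?_
    have htop : St hy 0 = ⊤ := by
      rw [eq_top_iff]
      intro q _
      refine (mem_St_zero_iff hy).2 (Or.inl (mul_inv_eq_of_eq_mul ?_))
      exact Subgroup.mem_center_iff.1 (h ▸ Subgroup.mem_top (aQ hy) : aQ hy ∈ Subgroup.center _) q
    have hc := card_St_zero hy
    rw [htop, Subgroup.card_top, card_J3 hy] at hc
    norm_num at hc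
  have hker : (MulAut.conj : J3 F ω →* MulAut (J3 F ω)).ker = ⊥ := by
    rw [eq_bot_iff, ← hZ]
    intro q hq
    rw [MonoidHom.mem_ker] at hq
    refine Subgroup.mem_center_iff.2 fun p => ?_
    have := DFunLike.congr_fun hq p
    simp only [MulAut.conj_apply, MulAut.one_apply] at this
    exact (mul_inv_eq_iff_eq_mul.1 this).symm
  have hcard : Nat.card (Cfsg.Inn (J3 F ω)) = 50232960 := by
    show Nat.card (MulAut.conj : J3 F ω →* MulAut (J3 F ω)).range = _
    rw [← Nat.card_congr (MonoidHom.ofInjective ((MonoidHom.ker_eq_bot_iff _).1 hker)).toEquiv,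
      card_J3 hy]
  have hne : (Cfsg.Inn (J3 F ω)) ≠ ⊤ := fun h => by
    have : sigQ hy ∈ Cfsg.Inn (J3 F ω) := h ▸ Subgroup.mem_top _
    obtain ⟨q, hq⟩ := this
    exact sigQ_outer hy q hq.symm
  have h2 := Subgroup.one_lt_index_of_ne_top hne
  have hmul := Subgroup.card_mul_index (Cfsg.Inn (J3 F ω))
  rw [hcard] at hmul
  show (Cfsg.Inn (J3 F ω)).index = 2
  omega

end Cfsg.Agent.JankoThree.OutAut
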