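import Cfsg.Agent.Lib.JankoThree.Gens
import Cfsg.Agent.Lib.JankoThree.OutData
import Cfsg.Agent.Lib.StemCert.JankoThreeData

/-! Checkers for the automorphisms of J₃. -/

set_option autoImplicit false

namespace Cfsg.Agent.JankoThree.OutAut

open Cfsg.Spor
open Enum (Tree field allRange)

/-- The element of order three. -/
def aC : ℕ := Data.cert.hm 1407

/-- Its square. -/
def aaC : ℕ := mmul aC aC

/-- The product of a double coset triple. -/
def triC (t : ℕ × ℕ × ℕ) : ℕ :=
  mmul (Data.cert.hm t.1) (mmul (Data.cert.rep t.2.1) (Data.cert.hm t.2.2))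

/-- Bounds of a triple. -/
def triB (t : ℕ × ℕ × ℕ) : Bool := Nat.blt t.1 2160 && Nat.blt t.2.1 28 && Nat.blt t.2.2 2160

/-- Powers. -/
def powC (M : ℕ) : ℕ → ℕ
  | 0 => idCode
  | n + 1 => mmul M (powC M n)

/-- A word in the two elements, given by bits. -/
def bitsC : ℕ → ℕ → ℕ
  | 0, _ => idCode
  | n + 1, v => mmul (bif Nat.beq (Nat.land v 1) 0 then xCode else aC) (bitsC n (Nat.shiftRight v 1))

/-- The normaliser element. -/
def yC : ℕ := triC yDec

/-- Elementary facts. -/
def baseOk : Bool :=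
  triB xDec && peq xCode (triC xDec) && chkTab xTab xCode && chkTab aTab aC &&
    peq (powC xCode 19) idCode && !peq xCode idCode && Nat.blt xCode (2 ^ 162) &&
    triB yDec && peq (mmul yC xCode) (mmul (powC xCode 4) yC) &&
    peq (powC (mmul xCode aC) 6) idCode && !peq (powC (mmul xCode aaC) 6) idCode

/-- The generators as words. -/
def wordsOk : Bool :=
  peq (bitsC word0.1 word0.2) (Data.cert.hm (at0 Data.cert.hGen 0)) &&
    peq (bitsC word1.1 word1.2) (Data.cert.hm (at0 Data.cert.hGen 1)) &&
    peq (bitsC word2.1 word2.2) Data.cert.tCode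

/-- The code of a coset representative. -/
def repC (a k : ℕ) : ℕ := mmul (Data.cert.hm a) (Data.cert.rep k)

/-- The element of order three fixes only the listed lines. -/
def fixOk (i : ℕ) : Bool :=
  Nat.beq i 0 || !peq (tapp aTab (Data.cert.pt i)) (Data.cert.pt i) ||
    fixList.any fun q => Nat.beq q.1 i && Nat.blt q.2.1 2160 && Nat.blt q.2.2 28 &&
      (let g := repC q.2.1 q.2.2
       peq (app g 1) (Data.cert.pt i) && !peq (mmul g aC) (mmul aC g) &&
         !peq (mmul g aC) (mmul aaC g))

/-- The stabiliser of the first line normalises the subgroup of order three. -/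
def normOk (i : ℕ) : Bool :=
  peq (mmul (Data.cert.hm i) aC) (mmul aC (Data.cert.hm i)) ||
    peq (mmul (Data.cert.hm i) aC) (mmul aaC (Data.cert.hm i))

/-- The line in a place of an orbit of the element of order 19. -/
def atF (n : ℕ) : ℕ := field 15 (atTree.get (n / 256)) (n % 256)

/-- The place of a line. -/
def posF (i : ℕ) : ℕ := field 15 (posTree.get (i / 256)) (i % 256)

/-- The orbits. -/
def orbOk (n : ℕ) : Bool :=
  Nat.blt (atF n) 23256 && Nat.blt (posF n) 23256 && Nat.beq (atF (posF n)) n &&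
    (Nat.beq (n % 19) 18 || peq (tapp xTab (Data.cert.pt (atF n))) (Data.cert.pt (atF (n + 1))))

/-- Data on an orbit. -/
def sgF (o : ℕ) : ℕ := field 60 (sgTree.get (o / 64)) (o % 64)

/-- A line is in a suborbit. -/
def inBlock (k s : ℕ) : Bool :=
  Nat.blt k 28 && Nat.ble (Data.cert.start k) s && Nat.blt s (Data.cert.start k + Data.cert.size k)

/-- The invariants of the orbit `o`. -/
def sigOk (o : ℕ) : Bool :=
  let e := sgF o
  let a := e % 2 ^ 12
  let k := e / 2 ^ 12 % 2 ^ 5
  let s₁ := e / 2 ^ 17 % 2 ^ 15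
  let k₁ := e / 2 ^ 32 % 2 ^ 5
  let s₂ := e / 2 ^ 37 % 2 ^ 15
  let k₂ := e / 2 ^ 52 % 2 ^ 5
  let g := repC a k
  let same := Nat.beq (Data.cert.size k₁) 1080 && Nat.beq (Data.cert.size k₂) 80
  Nat.blt a 2160 && Nat.blt k 28 && peq (app g 1) (Data.cert.pt (atF (o * 19))) &&
    inBlock k₁ s₁ && peq (app g (Data.cert.pt s₁)) (Data.cert.pt (atF (o * 19 + 1))) &&
    inBlock k₂ s₂ && peq (app g (Data.cert.pt s₂)) (Data.cert.pt (atF (o * 19 + 2))) &&
    (bif Nat.beq o 0 then Nat.beq (atF 0) 0 && same else !same)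

/-- A form of the Sylow 3-subgroup. -/
def formC (e : ℕ) : ℕ := at0 StemCert.JankoThree.forms3 e

/-- A generator of the Sylow 3-subgroup. -/
def g3C (g : ℕ) : ℕ := (StemCert.JankoThree.gens3.getD g (idCode, 0, 0, 0)).1

/-- The table of left multiplication. -/
def imgF (g e : ℕ) : ℕ := field 8 imgData (243 * g + e)

/-- Closure under left multiplication. -/
def imgOk (g : ℕ) : Bool :=
  allRange (fun e => Nat.blt (imgF g e) 243 && peq (mmul (g3C g) (formC e)) (formC (imgF g e))) 16 0 243

/-- Fusion of the elements of order three. -/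
def ordOk (e : ℕ) : Bool :=
  let m := formC e
  peq m idCode || !peq (powC m 3) idCode ||
    ordThree.any fun q => Nat.beq q.1 e && triB q.2.1 &&
      (let g := triC q.2.1
       bif Nat.beq q.2.2.1 0 then peq (mmul g m) (mmul aC g)
       else bif Nat.beq q.2.2.1 1 then peq (mmul g m) (mmul aaC g)
       else Nat.blt q.2.2.2 243 && peq (mmul g m) (mmul (formC q.2.2.2) g) &&
         allRange (fun i => peq (mmul (g3C i) (formC q.2.2.2)) (mmul (formC q.2.2.2) (g3C i))) 8 0 5)

/-- Conjugation in the field, on codes. -/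
def cjC (c : ℕ) : ℕ := bif Nat.beq c 2 then 3 else bif Nat.beq c 3 then 2 else c

/-- Conjugation in the index field. -/
def barF9 (z : F9) : F9 := (z.1, -z.2)

/-- The conjugate of a generator. -/
def cjGen (i : ℕ) : ℕ := (conjImage.getD i (0, 0, 0, 0)).1

/-- The conjugate generators are in the group. -/
def cjOk (i : ℕ) : Bool :=
  let q := conjImage.getD i (0, 0, 0, 0)
  triB q.2 && peq q.1 (triC q.2)

end Cfsg.Agent.JankoThree.OutAut
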