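import Cfsg.Agent.Lib.JankoThree.OutCert

/-! Kernel checks for the automorphisms of J₃: small data. -/

set_option autoImplicit false
set_option maxRecDepth 20000

namespace Cfsg.Agent.JankoThree.OutAut

open Cfsg.Spor
open Enum (allRange)

theorem base_check : baseOk = true := by decide +kernel
theorem words_check : wordsOk = true := by decide +kernel
theorem img_check : allRange imgOk 8 0 5 = true := by decide +kernel
theorem ord_check : allRange ordOk 16 0 243 = true := by decide +kernel
theorem norm_check : allRange normOk 16 0 2160 = true := by decide +kernel
theorem sig_check : allRange sigOk 16 0 1224 = true := by decide +kernel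
theorem cj_check : allRange cjOk 16 0 43 = true := by decide +kernel

theorem cj_entry : ∀ i : Fin 43, ∀ w z : F9,
    entry (cjGen i) w z = cjC (entry (Data.cert.gen i) (barF9 w) (barF9 z)) := by
  decide +kernel

end Cfsg.Agent.JankoThree.OutAut
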