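import Cfsg.Agent.Lib.JankoThree.OutCert

/-! Kernel checks for the automorphisms of J₃: the lines. -/

set_option autoImplicit false
set_option maxRecDepth 20000

namespace Cfsg.Agent.JankoThree.OutAut

open Enum (allRange)

theorem fix_check : allRange fixOk 32 0 23256 = true := by decide +kernel
theorem orb_check : allRange orbOk 32 0 23256 = true := by decide +kernel

end Cfsg.Agent.JankoThree.OutAut
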