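import Cfsg.Agent.Lib.JankoThree.Stab

/-!
# The triple cover of J₃: centre and simplicity of the quotient
-/

set_option autoImplicit false

namespace Cfsg.Agent.JankoThree

open Matrix Cfsg.Spor
open Enum (allRange allRange_spec field)

universe u

variable {F : Type u} [Field F] [Fintype F] {ω : F} (hy : Hyp F ω)

include hy

theorem t_mem_of_dEl {M : Subgroup (GL F9 F)} (hM : stabH F ω ≤ M) {k : ℕ} (hk : k < 28) (h0 : k ≠ 0)
    (hd : dEl hy k ∈ M) : tU hy ∈ M := by
  induction k using Nat.strong_induction_on with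
  | _ k ih =>
    have go : ∀ (l : List (ℕ × ℕ × ℕ × ℕ × ℕ × ℕ)) (have_ : List ℕ),
        Data.cert.primGo k l have_ = true → (∀ x ∈ have_, x < 28 ∧ dEl hy x ∈ M) →
        ∃ x < 28, dEl hy x ∈ M ∧ (x = 1 ∨ (0 < x ∧ x < k)) := by
      intro l
      induction l with
      | nil =>
        intro have_ h hh
        simp only [Cert.primGo, List.any_eq_true, Bool.or_eq_true, Bool.and_eq_true, Nat.blt,
          Nat.ble_eq] at h
        obtain ⟨x, hx, h | ⟨h1, h2⟩⟩ := h
        · exact ⟨x, (hh x hx).1, (hh x hx).2, Or.inl (Nat.eq_of_beq_eq_true h)⟩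
        · exact ⟨x, (hh x hx).1, (hh x hx).2, Or.inr ⟨by omega, by omega⟩⟩
      | cons p l ihl =>
        obtain ⟨i, h, i', a, j, b⟩ := p
        intro have_ hc hh
        simp only [Cert.primGo, List.any_eq_true, Bool.and_eq_true, Nat.blt, Nat.ble_eq] at hc
        obtain ⟨⟨⟨⟨⟨⟨⟨⟨x, hx, hxi⟩, ⟨x', hx', hxi'⟩⟩, hh'⟩, ha⟩, hb⟩, hj⟩, he⟩, hrest⟩ := hc
        obtain rfl := Nat.eq_of_beq_eq_true hxi
        obtain rfl := Nat.eq_of_beq_eq_true hxi'
        refine ihl (j :: have_) hrest fun y hy' => ?_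
        rcases List.mem_cons.mp hy' with rfl | hy'
        · refine ⟨by omega, ?_⟩
          obtain ⟨z, hz, e⟩ :=
            ((hel_rep hy ha).mul hy.good ((dEl_rep hy hj).mul hy.good (hel_rep hy hb))).unique
              (((dEl_rep hy (hh _ hx).1).mul hy.good
                ((hel_rep hy hh').mul hy.good (dEl_rep hy (hh _ hx').1))).congr hy.good he)
          have hin := mul_mem (hh _ hx).2 (mul_mem (hM (hel_mem hy h)) (hh _ hx').2)
          rw [e] at hin
          have h1 := mul_mem (inv_mem (hM (hel_mem hy a))) (mul_mem (inv_mem (hM (zs_le_stabH hz))) hin)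
          have h2 := mul_mem h1 (inv_mem (hM (hel_mem hy b)))
          convert h2 using 1
          group
        · exact hh y hy'
    have hp := allRange_spec 16 0 28 Data.primOk k (Nat.zero_le _) (by omega)
    simp only [Cert.primOk, Bool.or_eq_true] at hp
    rcases hp with hp | hp
    · exact absurd (Nat.eq_of_beq_eq_true hp) h0
    obtain ⟨x, hx, hxd, rfl | ⟨hx0, hxk⟩⟩ := go _ _ hp (by
      intro x hx
      rw [List.mem_singleton] at hx
      exact hx ▸ ⟨hk, hd⟩)
    · obtain ⟨z, hz, e⟩ := (dEl_rep hy (show 1 < 28 by norm_num)).unique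
        ((tU_rep hy).congr hy.good Data.rep_one_t)
      rw [e]
      exact mul_mem (hM (zs_le_stabH hz)) hxd
    · exact ih x hxk hx (by omega) hxd

theorem eq_top_of_dEl {M : Subgroup (GL F9 F)} (hM : stabH F ω ≤ M) {k : ℕ} (hk : k < 28) (h0 : k ≠ 0)
    (hd : dEl hy k ∈ M) : threeJ3 F ω ≤ M := by
  rw [← genP_eq hy, genP, Subgroup.closure_le]
  rintro g (hg | hg)
  · exact hM hg
  · rw [Set.mem_singleton_iff.mp hg]; exact t_mem_of_dEl hy hM hk h0 hd

theorem zs_of_fix_all {g : GL F9 F} (h : ∀ i < 23256, Maps ω g (Data.cert.pt i) (Data.cert.pt i)) :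
    g ∈ Zs F := by
  have hf := Data.faithOk
  simp only [Cert.faithOk, Bool.and_eq_true, Nat.blt, Nat.ble_eq] at hf
  obtain ⟨⟨hb, hfull⟩, hnz⟩ := hf
  have hcol : ∀ z : F9, ∃ c : F, c ≠ 0 ∧
      (g : Matrix F9 F9 F) *ᵥ (Pi.single z (1 : F)) = c • (Pi.single z (1 : F) : F9 → F) := by
    intro z
    have hz := allRange_spec 8 0 9 hb (idx z) (Nat.zero_le _) (by have := idx_lt z; omega)
    simp only [Bool.and_eq_true, Nat.blt, Nat.ble_eq] at hz
    obtain ⟨a, ha, ea⟩ := peq_spec hy.good (dec_mulW hy.good) hz.2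
    have hdec : dec ω (Nat.shiftLeft 1 (2 * idx z)) = (Pi.single z (1 : F) : F9 → F) := by
      have key : ∀ z w : F9, (Nat.shiftLeft 1 (2 * idx z)).testBit (2 * idx w) = decide (w = z) ∧
          (Nat.shiftLeft 1 (2 * idx z)).testBit (2 * idx w + 1) = false := by decide +kernel
      funext w
      obtain ⟨k1, k2⟩ := key z w
      simp only [dec, coord, k1, k2, Pi.single_apply]
      by_cases e : w = z <;> simp [e, bitVal]
    rw [hdec] at ea
    obtain ⟨c, hc, ec⟩ := h _ (show at0 Data.cert.basisPts (idx z) < 23256 by omega)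
    rw [ea, Matrix.mulVec_smul, smul_smul, mul_comm c a, ← smul_smul] at ec
    refine ⟨c, hc, ?_⟩
    exact smul_right_injective _ ha ec
  choose c hc hce using hcol
  obtain ⟨d, -, ed⟩ := h Data.cert.fullPt (by omega)
  have hval : ∀ z : F9, dec ω (Data.cert.pt Data.cert.fullPt) z ≠ 0 := by
    intro z hzero
    have key : ∀ n v, Cert.allNonzero n v = true → ∀ i < n,
        v.testBit (2 * i) = true ∨ v.testBit (2 * i + 1) = true := by
      intro n
      induction n with
      | zero => intro v _ i hi; omega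
      | succ n ih =>
        intro v hv i hi
        simp only [Cert.allNonzero, Bool.and_eq_true, Bool.not_eq_true'] at hv
        cases i with
        | zero =>
          by_contra hne
          simp only [Nat.mul_zero, zero_add, not_or, Bool.not_eq_true] at hne
          have h3 : Nat.land v 3 = 0 := by
            rw [show Nat.land v 3 = v % 2 ^ 2 from Nat.and_two_pow_sub_one_eq_mod v 2]
            apply Nat.eq_of_testBit_eq
            intro j
            rw [Nat.testBit_mod_two_pow, Nat.zero_testBit]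
            rcases j with _ | _ | j
            · simp [hne.1]
            · simp [hne.2]
            · simp
          rw [h3] at hv
          simp at hv
        | succ i =>
          have := ih _ hv.2 i (by omega)
          simp only [show Nat.shiftRight v 2 = v >>> 2 from rfl, Nat.testBit_shiftRight] at this
          rw [show 2 * (i + 1) = 2 + 2 * i by ring, show 2 + 2 * i + 1 = 2 + (2 * i + 1) by ring]
          exact this
    have hbits := key 9 _ hnz (idx z) (idx_lt z)
    have h0 : bitVal (F := F) ((Data.cert.pt Data.cert.fullPt).testBit (2 * idx z)) +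
        ω * bitVal ((Data.cert.pt Data.cert.fullPt).testBit (2 * idx z + 1)) =
        bitVal false + ω * bitVal false := by
      rw [show bitVal false + ω * bitVal false = (0 : F) by simp [bitVal]]
      exact hzero
    obtain ⟨e1, e2⟩ := bits_inj hy.good h0
    rw [e1, e2] at hbits
    simp at hbits
  have hmat : ∀ w z : F9, (g : Matrix F9 F9 F) w z = if w = z then c z else 0 := by
    intro w z
    have := congrFun (hce z) w
    simp only [Matrix.mulVec_single, MulOpposite.op_one, one_smul, Matrix.col_apply, Pi.smul_apply,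
      smul_eq_mul, Pi.single_apply] at this
    rw [this]
    split_ifs <;> simp
  have hcd : ∀ z, c z = d := by
    intro z
    have := congrFun ed z
    simp only [Matrix.mulVec, dotProduct, hmat, Pi.smul_apply, smul_eq_mul, ite_mul, zero_mul,
      Finset.sum_ite_eq, Finset.mem_univ, if_true] at this
    exact mul_right_cancel₀ (hval z) this
  refine mem_Zs.mpr ⟨c 0, hc 0, ?_⟩
  ext w z
  rw [hmat, Matrix.smul_apply, Matrix.one_apply, hcd z, hcd 0]
  split_ifs <;> simp

/-- A normal subgroup inside the group, not made of scalars, is everything. -/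
theorem normal_eq_top {N : Subgroup (GL F9 F)} (hN : N ≤ threeJ3 F ω)
    (hnor : ∀ g ∈ threeJ3 F ω, ∀ n ∈ N, g * n * g⁻¹ ∈ N) (hns : ¬ N ≤ Zs F) :
    threeJ3 F ω ≤ N := by
  classical
  set J := threeJ3 F ω
  -- `N` is not contained in the stabiliser
  obtain ⟨n, hn, hnH⟩ : ∃ n ∈ N, n ∉ stabH F ω := by
    by_contra hcon
    push_neg at hcon
    refine hns fun n hn => zs_of_fix_all hy fun i hi => ?_
    obtain ⟨g, hg, hm⟩ := exists_orbit hy hi
    have h1 : g⁻¹ * n * g⁻¹⁻¹ ∈ N := hnor _ (inv_mem hg) n hn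
    have h2 := stabH_fix hy (hcon _ h1)
    have h3 := (hm.symm.comp h2).comp hm
    convert h3 using 1
    group
  obtain ⟨a, ha, k, hk, b, hb, e⟩ := inU_of_mem hy (hN hn)
  have hk0 : k ≠ 0 := by
    rintro rfl
    rw [dEl_zero, mul_one] at e
    exact hnH (e ▸ mul_mem ha hb)
  have conjN : ∀ {g : GL F9 F}, g ∈ J → ∀ {x : GL F9 F}, x ∈ N → g⁻¹ * x * g ∈ N := by
    intro g hg x hx
    simpa using hnor g⁻¹ (inv_mem hg) x hx
  -- products with the stabiliser
  let NH : Subgroup (GL F9 F) :=
    { carrier := {g | ∃ x ∈ N, ∃ h ∈ stabH F ω, g = x * h}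
      one_mem' := ⟨1, one_mem _, 1, one_mem _, by group⟩
      mul_mem' := by
        rintro _ _ ⟨x, hx, h, hh, rfl⟩ ⟨x', hx', h', hh', rfl⟩
        exact ⟨x * (h * x' * h⁻¹), mul_mem hx (hnor h (stabH_le hy hh) x' hx'), h * h',
          mul_mem hh hh', by group⟩
      inv_mem' := by
        rintro _ ⟨x, hx, h, hh, rfl⟩
        exact ⟨h⁻¹ * x⁻¹ * h, conjN (stabH_le hy hh) (inv_mem hx), h⁻¹, inv_mem hh, by group⟩ }
  have hHN : stabH F ω ≤ NH := fun h hh => ⟨1, one_mem _, h, hh, by group⟩
  have hdk : dEl hy k ∈ NH := by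
    have h1 : n ∈ NH := ⟨n, hn, 1, one_mem _, by group⟩
    rw [e] at h1
    have := mul_mem (mul_mem (inv_mem (hHN ha)) h1) (inv_mem (hHN hb))
    convert this using 1
    group
  have hNH : J ≤ NH := eq_top_of_dEl hy hHN hk hk0 hdk
  -- the normal subgroup of order three
  have hs := Data.simpleOk
  simp only [Cert.simpleOk, Bool.and_eq_true, Nat.blt, Nat.ble_eq] at hs
  obtain ⟨⟨⟨⟨haN, huN⟩, -⟩, hu⟩, hrange⟩ := hs
  set α := hel hy Data.cert.aNum with hα
  have hαJ : α ∈ J := stabH_le hy (hel_mem hy _)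
  let A : Subgroup (GL F9 F) := Subgroup.closure ({α} ∪ (Zs F : Set (GL F9 F)))
  have hαA : α ∈ A := Subgroup.subset_closure (Or.inl rfl)
  have hzA : Zs F ≤ A := fun z hz => Subgroup.subset_closure (Or.inr hz)
  have hAJ : A ≤ J := by
    rw [Subgroup.closure_le]
    rintro x (hx | hx)
    · rw [Set.mem_singleton_iff.mp hx]; exact hαJ
    · exact zs_le hy hx
  have hAcomm : ∀ x ∈ A, ∀ y ∈ A, x * y = y * x := by
    have hc : ∀ x ∈ A, x * α = α * x := by
      intro x hx
      have hle : A ≤ Subgroup.centralizer {α} := by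
        rw [Subgroup.closure_le]
        rintro y (hy' | hy') <;> rw [SetLike.mem_coe, Subgroup.mem_centralizer_singleton_iff]
        · rw [Set.mem_singleton_iff.mp hy']
        · exact Zs_comm hy' α
      exact Subgroup.mem_centralizer_singleton_iff.mp (hle hx)
    intro x hx y hy'
    have hle : A ≤ Subgroup.centralizer {x} := by
      rw [Subgroup.closure_le]
      rintro w (hw | hw) <;> rw [SetLike.mem_coe, Subgroup.mem_centralizer_singleton_iff]
      · rw [Set.mem_singleton_iff.mp hw]; exact (hc x hx).symm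
      · exact Zs_comm hw x
    exact (Subgroup.mem_centralizer_singleton_iff.mp (hle hy')).symm
  have haPow : ∀ e, ∃ x ∈ A, Rep ω x (Data.cert.aPow e) := by
    intro e
    rw [Cert.aPow]
    cases Nat.beq e 1
    · exact ⟨α * α, mul_mem hαA hαA,
        (hel_rep hy haN).mul hy.good (hel_rep hy haN)⟩
    · exact ⟨α, hαA, hel_rep hy haN⟩
  have hHA : ∀ h ∈ stabH F ω, ∀ x ∈ A, h * x * h⁻¹ ∈ A := by
    intro h hh
    refine closure_mem_of_mul_mem (U := {h | ∀ x ∈ A, h * x * h⁻¹ ∈ A}) ?_ ?_ hh
    · intro x hx; simpa using hx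
    · rintro s hs w hw x hx
      have hsA : ∀ x ∈ A, s * x * s⁻¹ ∈ A := by
        intro x hx
        have hle : A ≤ A.comap (MulAut.conj s).toMonoidHom := by
          rw [Subgroup.closure_le]
          rintro y (hy' | hy') <;> rw [SetLike.mem_coe, Subgroup.mem_comap, MulEquiv.coe_toMonoidHom,
            MulAut.conj_apply]
          · rw [Set.mem_singleton_iff.mp hy']
            rcases hs with ⟨j, hj, -, hsr⟩ | hs
            · have h' := (allRange_spec 8 0 2 hrange j (Nat.zero_le _) (by omega))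
              simp only [Bool.and_eq_true] at h'
              obtain ⟨x', hx', hxr⟩ := haPow (at0 Data.cert.aExp j)
              obtain ⟨z, hz, ez⟩ := (hxr.mul hy.good hsr).unique
                ((hsr.mul hy.good (hel_rep hy haN)).congr hy.good h'.1)
              rw [ez, mul_assoc, mul_assoc, mul_inv_cancel, mul_one]
              exact mul_mem (hzA hz) hx'
            · rw [Zs_comm hs α, mul_assoc, mul_inv_cancel, mul_one]; exact hαA
          · rw [← Zs_comm hy' s, mul_assoc, mul_inv_cancel, mul_one]; exact hzA hy'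
        exact hle hx
      have := hsA _ (hw x hx)
      convert this using 1
      group
  let W : Subgroup (GL F9 F) :=
    { carrier := {g | ∃ x ∈ N, ∃ y ∈ A, g = x * y}
      one_mem' := ⟨1, one_mem _, 1, one_mem _, by group⟩
      mul_mem' := by
        rintro _ _ ⟨x, hx, h, hh, rfl⟩ ⟨x', hx', h', hh', rfl⟩
        exact ⟨x * (h * x' * h⁻¹), mul_mem hx (hnor h (hAJ hh) x' hx'), h * h',
          mul_mem hh hh', by group⟩
      inv_mem' := by
        rintro _ ⟨x, hx, h, hh, rfl⟩
        exact ⟨h⁻¹ * x⁻¹ * h, conjN (hAJ hh) (inv_mem hx), h⁻¹, inv_mem hh, by group⟩ }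
  have hconj : ∀ g ∈ J, ∀ x ∈ A, g * x * g⁻¹ ∈ W := by
    intro g hg x hx
    obtain ⟨m, hm, h, hh, rfl⟩ := hNH hg
    set y := h * x * h⁻¹ with hy'
    have hyA : y ∈ A := hHA h hh x hx
    refine ⟨m * (y * m⁻¹ * y⁻¹), mul_mem hm (hnor y (hAJ hyA) _ (inv_mem hm)), y, hyA, ?_⟩
    rw [hy']; group
  have hHW : stabH F ω ≤ W := by
    conv_lhs => rw [stabH]
    rw [Subgroup.closure_le]
    rintro s (⟨j, hj, -, hsr⟩ | hs)
    · have h' := (allRange_spec 8 0 2 hrange j (Nat.zero_le _) (by omega))
      simp only [Bool.and_eq_true, List.all_eq_true, Nat.blt, Nat.ble_eq] at h'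
      obtain ⟨-, hall, hprod⟩ := h'
      have key : ∀ l : List (ℕ × ℕ × ℕ × ℕ),
          (∀ p ∈ l, ((p.1.succ ≤ 2160 ∧ p.2.1.succ ≤ 2160) ∧ p.2.2.1.succ ≤ 28) ∧
            peq (mmul (Data.cert.hm p.1) (Data.cert.hm p.2.1)) idCode = true) →
          ∃ g ∈ W, Rep ω g (Data.cert.conjProd l) := by
        intro l
        induction l with
        | nil => exact fun _ => ⟨1, one_mem _, rep_one hy.good⟩
        | cons p l ihl =>
          intro hl
          obtain ⟨al, al', kk, ee⟩ := p
          obtain ⟨g, hgW, hgr⟩ := ihl fun q hq => hl q (List.mem_cons_of_mem _ hq)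
          obtain ⟨⟨⟨h1, h2⟩, h3⟩, hinv⟩ := hl _ List.mem_cons_self
          obtain ⟨x, hx, hxr⟩ := haPow ee
          set d := dEl hy kk
          have hdi : Rep ω d⁻¹ (at0 Data.cert.repsInv kk) := by
            have hr := Data.repsOk
            simp only [Cert.repsOk, Bool.and_eq_true] at hr
            have hr' := allRange_spec 16 0 28 hr.2 kk (Nat.zero_le _)
              (by have : kk < 28 := h3; omega)
            simp only [Bool.and_eq_true] at hr'
            obtain ⟨b, hb, eb⟩ := peq_spec hy.good (mat_mulW hy.good) hr'.1.1.2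
            obtain ⟨a, ha, ea⟩ := dEl_rep hy (show kk < 28 from h3)
            rw [mat_mmul hy.good, mat_idCode] at eb
            have hdm : (d : Matrix F9 F9 F) * mat ω (at0 Data.cert.repsInv kk) =
                (a * b) • (1 : Matrix F9 F9 F) := by
              rw [ea, Matrix.smul_mul, eb, smul_smul]
            refine ⟨(a * b)⁻¹, inv_ne_zero (mul_ne_zero ha hb), ?_⟩
            have := congrArg (fun X => ((d⁻¹ : GL F9 F) : Matrix F9 F9 F) * X) hdm
            simp only [← mul_assoc, ← Units.val_mul, inv_mul_cancel, Units.val_one, one_mul,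
              Matrix.mul_smul, mul_one] at this
            rw [this, smul_smul, inv_mul_cancel₀ (mul_ne_zero ha hb), one_smul]
          obtain ⟨z, hz, ez⟩ := (rep_one (F := F) hy.good).unique
            (((hel_rep hy h1).mul hy.good (hel_rep hy h2)).congr hy.good hinv)
          refine ⟨(hel hy al * (d * (x * d⁻¹))) * hel hy al' * g, mul_mem ?_ hgW,
            ((((hel_rep hy h1).mul hy.good ((dEl_rep hy h3).mul hy.good (hxr.mul hy.good hdi))).mul
              hy.good (hel_rep hy h2))).mul hy.good hgr⟩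
          have hal' : hel hy al' = (hel hy al)⁻¹ * z := by
            rw [show z = hel hy al * hel hy al' by rw [ez, mul_one]]
            group
          rw [hal']
          have hc := hconj (hel hy al * d)
            (mul_mem (stabH_le hy (hel_mem hy al)) (dEl_mem_J hy)) x hx
          have := mul_mem hc (show z ∈ W from ⟨1, one_mem _, z, hzA hz, by group⟩)
          convert this using 1
          group
      obtain ⟨g, hgW, hgr⟩ := key _ hall
      obtain ⟨z, hz, e⟩ := (hgr.congr hy.good hprod).unique hsr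
      rw [e]
      exact mul_mem (show z ∈ W from ⟨1, one_mem _, z, hzA hz, by group⟩) hgW
    · exact ⟨1, one_mem _, s, hzA hs, by group⟩
  have hW : J ≤ W := by
    intro g hg
    obtain ⟨m, hm, h, hh, rfl⟩ := hNH hg
    exact mul_mem (show m ∈ W from ⟨m, hm, 1, one_mem _, by group⟩) (hHW hh)
  -- commutators lie in `N`
  have hcom : ∀ x ∈ J, ∀ y ∈ J, x * y * x⁻¹ * y⁻¹ ∈ N := by
    intro x hx y hy'
    obtain ⟨p, hp, a, ha, rfl⟩ := hW hx
    obtain ⟨q, hq, b, hb, rfl⟩ := hW hy'
    have e : p * a * (q * b) * (p * a)⁻¹ * (q * b)⁻¹ =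
        p * (a * q * a⁻¹) * (b * p⁻¹ * b⁻¹) * q⁻¹ := by
      have hab : a * b * a⁻¹ = b := by rw [hAcomm a ha b hb]; group
      calc p * a * (q * b) * (p * a)⁻¹ * (q * b)⁻¹
          = p * (a * q * a⁻¹) * (a * b * a⁻¹) * p⁻¹ * b⁻¹ * q⁻¹ := by group
        _ = _ := by rw [hab]; group
    rw [e]
    exact mul_mem (mul_mem (mul_mem hp (hnor a (hAJ ha) q hq)) (hnor b (hAJ hb) _ (inv_mem hp)))
      (inv_mem hq)
  have hzN : Zs F ≤ N := by
    have h := Data.scalarOk
    simp only [Bool.or_eq_true] at h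
    have key : ∀ a b, a < 43 → b < 43 →
        mmul (Data.cert.gen a) (Data.cert.gen b) = mulW (mmul (Data.cert.gen b) (Data.cert.gen a)) →
        ∃ z ∈ N, (z : Matrix F9 F9 F) = ω • 1 := by
      intro a b ha hb e
      refine ⟨genU hy a * genU hy b * (genU hy a)⁻¹ * (genU hy b)⁻¹,
        hcom _ (genU_mem hy a) _ (genU_mem hy b), ?_⟩
      have e1 : ((genU hy a * genU hy b : GL F9 F) : Matrix F9 F9 F) =
          ω • ((genU hy b * genU hy a : GL F9 F) : Matrix F9 F9 F) := by
        rw [Units.val_mul, Units.val_mul, genU_val hy ha, genU_val hy hb, ← mat_mmul hy.good, e,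
          mat_mulW hy.good, mat_mmul hy.good]
      rw [show genU hy a * genU hy b * (genU hy a)⁻¹ * (genU hy b)⁻¹ =
        (genU hy a * genU hy b) * (genU hy b * genU hy a)⁻¹ by group,
        Units.val_mul, e1, Matrix.smul_mul, ← Units.val_mul, mul_inv_cancel, Units.val_one]
    obtain ⟨z, hz, hzv⟩ : ∃ z ∈ N, (z : Matrix F9 F9 F) = ω • 1 := by
      rcases h with h | h
      · exact key 3 21 (by norm_num) (by norm_num) (Nat.eq_of_beq_eq_true h)
      · exact key 21 3 (by norm_num) (by norm_num) (Nat.eq_of_beq_eq_true h)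
    intro g hg
    obtain ⟨c, hc, ec⟩ := mem_Zs.mp hg
    rcases nonzero_cases hy.card hy.good hc with rfl | rfl | rfl
    · have : g = 1 := Units.ext (by rw [ec, one_smul, Units.val_one])
      rw [this]; exact one_mem _
    · rw [show g = z from Units.ext (ec.trans hzv.symm)]; exact hz
    · rw [show g = z * z from Units.ext (by rw [ec, Units.val_mul, hzv]; simp [smul_smul])]
      exact mul_mem hz hz
  have hαNN : α ∈ N := by
    obtain ⟨z, hz, ez⟩ := (((hel_rep hy haN).mul hy.good (hel_rep hy haN)).mul hy.good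
      (hel_rep hy huN)).unique (((hel_rep hy huN).mul hy.good (hel_rep hy haN)).congr hy.good hu)
    have h1 := hcom _ (stabH_le hy (hel_mem hy Data.cert.uNum)) _ hαJ
    have h2 : hel hy Data.cert.uNum * α * (hel hy Data.cert.uNum)⁻¹ * α⁻¹ = z * α := by
      rw [hα, ez]; group
    rw [h2] at h1
    simpa using mul_mem (inv_mem (hzN hz)) h1
  intro g hg
  obtain ⟨m, hm, a, ha, rfl⟩ := hW hg
  have hAN : A ≤ N := by
    rw [Subgroup.closure_le]
    rintro x (hx | hx)
    · rw [Set.mem_singleton_iff.mp hx]; exact hαNN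
    · exact hzN hx
  exact mul_mem hm (hAN ha)

theorem not_comm : ∃ x ∈ threeJ3 F ω, ∃ y ∈ threeJ3 F ω, x * y ≠ y * x := by
  refine ⟨genU hy 3, genU_mem hy 3, genU hy 21, genU_mem hy 21, fun e => ?_⟩
  have e' : mat ω (mmul (Data.cert.gen 3) (Data.cert.gen 21)) =
      mat ω (mmul (Data.cert.gen 21) (Data.cert.gen 3)) := by
    rw [mat_mmul hy.good, mat_mmul hy.good, ← genU_val hy (i := 3) (by norm_num),
      ← genU_val hy (i := 21) (by norm_num), ← Units.val_mul, ← Units.val_mul, e]
  have h := mat_inj hy.good (mmul_lt _ _) (mmul_lt _ _) e'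
  have key : mmul (Data.cert.gen 3) (Data.cert.gen 21) ≠ mmul (Data.cert.gen 21) (Data.cert.gen 3) := by
    decide +kernel
  exact key h

theorem mem_center_iff (g : threeJ3 F ω) :
    g ∈ Subgroup.center (threeJ3 F ω) ↔ (g : GL F9 F) ∈ Zs F := by
  constructor
  · intro hg
    by_contra hns
    let N : Subgroup (GL F9 F) := (Subgroup.center (threeJ3 F ω)).map (threeJ3 F ω).subtype
    have hN : ∀ {x}, x ∈ N ↔ x ∈ threeJ3 F ω ∧ ∀ y ∈ threeJ3 F ω, y * x = x * y := by
      intro x
      constructor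
      · rintro ⟨x', hx', rfl⟩
        exact ⟨x'.2, fun y hy' => congrArg Subtype.val (Subgroup.mem_center_iff.mp hx' ⟨y, hy'⟩)⟩
      · rintro ⟨hx, hc⟩
        exact ⟨⟨x, hx⟩, Subgroup.mem_center_iff.mpr fun y => Subtype.ext (hc y y.2), rfl⟩
    have hall := normal_eq_top hy (N := N) (fun x hx => (hN.mp hx).1)
      (fun a ha n hn => by
        have : a * n * a⁻¹ = n := by rw [(hN.mp hn).2 a ha]; group
        rwa [this]) (fun hle => hns (hle ⟨g, hg, rfl⟩))
    obtain ⟨x, hx, y, hy', hne⟩ := not_comm hy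
    exact hne ((hN.mp (hall hy')).2 x hx)
  · intro hg
    exact Subgroup.mem_center_iff.mpr fun y => Subtype.ext (Zs_comm hg y).symm

theorem card_center : Nat.card (Subgroup.center (threeJ3 F ω)) = 3 := by
  refine Eq.trans (Nat.card_congr ?_) (card_Zs (F := F) hy.card)
  exact
    { toFun := fun g => ⟨g.1.1, (mem_center_iff hy g.1).mp g.2⟩
      invFun := fun z => ⟨⟨z.1, zs_le hy z.2⟩, (mem_center_iff hy _).mpr z.2⟩
      left_inv := fun g => rfl
      right_inv := fun z => rfl }

theorem card_J3 : Nat.card (J3 F ω) = 50232960 := by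
  have h := Subgroup.card_eq_card_quotient_mul_card_subgroup (Subgroup.center (threeJ3 F ω))
  rw [card_threeJ3 hy, card_center hy] at h
  show Nat.card (threeJ3 F ω ⧸ Subgroup.center (threeJ3 F ω)) = 50232960
  omega

theorem isSimpleGroup_J3 : IsSimpleGroup (J3 F ω) := by
  haveI : Finite (threeJ3 F ω) := Nat.finite_of_card_ne_zero (by rw [card_threeJ3 hy]; norm_num)
  haveI : Nontrivial (J3 F ω) := Finite.one_lt_card_iff_nontrivial.mp (by rw [card_J3 hy]; norm_num)
  refine { eq_bot_or_eq_top_of_normal := fun Nb hNb => ?_ }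
  let P := Nb.comap (QuotientGroup.mk' (Subgroup.center (threeJ3 F ω)))
  haveI : P.Normal := hNb.comap _
  let N : Subgroup (GL F9 F) := P.map (threeJ3 F ω).subtype
  by_cases hle : N ≤ Zs F
  · left
    rw [eq_bot_iff]
    intro q hq
    obtain ⟨g, rfl⟩ := QuotientGroup.mk'_surjective _ q
    have : g ∈ Subgroup.center (threeJ3 F ω) := (mem_center_iff hy g).mpr (hle ⟨g, hq, rfl⟩)
    rw [Subgroup.mem_bot]
    exact (QuotientGroup.eq_one_iff g).mpr this
  · right
    have hall := normal_eq_top hy (N := N) (by rintro _ ⟨x, -, rfl⟩; exact x.2)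
      (by
        rintro a ha _ ⟨x, hx, rfl⟩
        exact ⟨⟨a, ha⟩ * x * ⟨a, ha⟩⁻¹, this.conj_mem x hx _, rfl⟩) hle
    rw [eq_top_iff]
    intro q _
    obtain ⟨g, rfl⟩ := QuotientGroup.mk'_surjective _ q
    obtain ⟨x, hx, e⟩ := hall g.2
    rw [show g = x from Subtype.ext e.symm]
    exact hx

end Cfsg.Agent.JankoThree
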