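import Cfsg.Agent.Lib.JankoThree.OutModel
import Cfsg.Agent.Lib.StemCert.JankoThree

/-! The elements of order three of J₃ and their fusion. -/

set_option autoImplicit false

namespace Cfsg.Agent.JankoThree.OutAut

open Matrix Cfsg.Spor Cfsg.Agent.JankoThree.TwoFusion
open Enum (allRange allRange_spec)

universe u

variable {F : Type u} [Field F] [Fintype F] {ω : F} (hy : Hyp F ω)

include hy

theorem exists_tri {t : ℕ × ℕ × ℕ} (h : triB t = true) : ∃ q : J3 F ω, RQ ω q (triC t) := by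
  simp only [triB, Bool.and_eq_true, Nat.blt_eq] at h
  obtain ⟨⟨h1, h2⟩, h3⟩ := h
  exact ⟨QuotientGroup.mk ⟨hel hy t.1 * (dEl hy t.2.1 * hel hy t.2.2),
    mul_mem (stabH_le hy (hel_mem hy _)) (mul_mem (dEl_mem_J hy) (stabH_le hy (hel_mem hy _)))⟩,
    _, rfl, (hel_rep hy h1).mul hy.good ((dEl_rep hy h2).mul hy.good (hel_rep hy h3))⟩

theorem rq_pow {q : J3 F ω} {M : ℕ} (h : RQ ω q M) : ∀ n : ℕ, RQ ω (q ^ n) (powC M n)
  | 0 => by rw [pow_zero]; exact rq_one hy
  | n + 1 => by rw [pow_succ']; exact RQ.mul hy h (rq_pow h n)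

theorem ne_of_not_peq {p q : J3 F ω} {M N : ℕ} (hp : RQ ω p M) (hq : RQ ω q N) (hM : M < 2 ^ 162)
    (hN : N < 2 ^ 162) (e : peq M N = false) : p ≠ q := by
  rintro rfl
  exact Bool.noConfusion ((RQ.peq hy hp hq hM hN).symm.trans e)

theorem aC_rep : Rep ω (hel hy 1407) aC := hel_rep hy (show 1407 < 2160 by norm_num)

omit hy in
/-- The element of order three. -/
noncomputable def aQ (hy : Hyp F ω) : J3 F ω :=
  QuotientGroup.mk ⟨hel hy 1407, stabH_le hy (hel_mem hy _)⟩

theorem aQ_rq : RQ ω (aQ hy) aC := ⟨_, rfl, aC_rep hy⟩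

theorem aQ_pow_three : aQ hy ^ 3 = 1 := by
  have h : peq (powC aC 3) idCode = true := by decide +kernel
  exact RQ.eq hy (rq_pow hy (aQ_rq hy) 3) (rq_one hy) h

theorem aQ_ne_one : aQ hy ≠ 1 := by
  have h : peq aC idCode = false := by decide +kernel
  exact ne_of_not_peq hy (aQ_rq hy) (rq_one hy) (hm_lt _) (by decide +kernel) h

omit hy in
/-- `g` normalises the group of `b`, an element of order three. -/
def Norm3 {G : Type*} [Group G] (b g : G) : Prop := g * b * g⁻¹ = b ∨ g * b * g⁻¹ = b * b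

omit hy in
theorem norm3_conj {G : Type*} [Group G] (g b q : G) :
    Norm3 (g * b * g⁻¹) q ↔ Norm3 b (g⁻¹ * q * g) := by
  have e : g * b * g⁻¹ * (g * b * g⁻¹) = g * (b * b) * g⁻¹ := by group
  have e' : q * (g * b * g⁻¹) * q⁻¹ = g * (g⁻¹ * q * g * b * (g⁻¹ * q * g)⁻¹) * g⁻¹ := by group
  rw [Norm3, Norm3, e, e']
  simp

omit hy in
theorem norm3_sq {G : Type*} [Group G] {b : G} (hb : b ^ 3 = 1) (q : G) :
    Norm3 (b * b) q ↔ Norm3 b q := by
  have h4 : b * b * (b * b) = b := by
    calc b * b * (b * b) = b ^ 3 * b := by rw [pow_succ, pow_two]; group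
      _ = b := by rw [hb, one_mul]
  have e : q * (b * b) * q⁻¹ = q * b * q⁻¹ * (q * b * q⁻¹) := by group
  constructor
  · rintro (h | h)
    · rw [e] at h
      have h' : q * b * q⁻¹ * (q * b * q⁻¹) * (q * b * q⁻¹ * (q * b * q⁻¹)) = _ :=
        congrArg (fun z => z * z) h
      rw [h4] at h'
      have hq : q * b * q⁻¹ * (q * b * q⁻¹) * (q * b * q⁻¹ * (q * b * q⁻¹)) = q * b * q⁻¹ := by
        calc _ = q * (b * b * (b * b)) * q⁻¹ := by group
          _ = _ := by rw [h4]
      exact Or.inl (hq.symm.trans h')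
    · rw [h4, e] at h
      refine Or.inr ?_
      have h' : q * b * q⁻¹ * (q * b * q⁻¹) * (q * b * q⁻¹ * (q * b * q⁻¹)) = _ :=
        congrArg (fun z => z * z) h
      have hq : q * b * q⁻¹ * (q * b * q⁻¹) * (q * b * q⁻¹ * (q * b * q⁻¹)) = q * b * q⁻¹ := by
        calc _ = q * (b * b * (b * b)) * q⁻¹ := by group
          _ = _ := by rw [h4]
      exact hq.symm.trans h'
  · rintro (h | h)
    · exact Or.inl (by rw [e, h])
    · exact Or.inr (by rw [e, h])

theorem norm3_of_mem {q : J3 F ω} (hq : q ∈ St hy 0) : Norm3 (aQ hy) q := by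
  obtain ⟨i, hi, hr⟩ := exists_stab hy hq
  have h := allRange_spec 16 0 2160 norm_check i (Nat.zero_le _) (by omega)
  simp only [normOk, Bool.or_eq_true] at h
  rcases h with h | h
  · exact Or.inl (mul_inv_eq_of_eq_mul
      (RQ.eq hy (RQ.mul hy hr (aQ_rq hy)) (RQ.mul hy (aQ_rq hy) hr) h))
  · exact Or.inr (mul_inv_eq_of_eq_mul
      (RQ.eq hy (RQ.mul hy hr (aQ_rq hy)) (RQ.mul hy (RQ.mul hy (aQ_rq hy) (aQ_rq hy)) hr) h))

theorem perm_aQ_fix {g : J3 F ω} (h : Norm3 (aQ hy) g) :
    perm hy (aQ hy) (perm hy g 0) = perm hy g 0 := by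
  have ha : perm hy (aQ hy) 0 = 0 :=
    stabH_fix_zero hy (g := ⟨_, stabH_le hy (hel_mem hy 1407)⟩) (hel_mem hy 1407)
  rcases h with h | h
  · have e : aQ hy * g = g * aQ hy := (mul_inv_eq_iff_eq_mul.1 h).symm
    rw [← perm_mul_apply hy, e, perm_mul_apply hy, ha]
  · have e : aQ hy * aQ hy * g = g * aQ hy := (mul_inv_eq_iff_eq_mul.1 h).symm
    have h2 : perm hy (aQ hy * aQ hy) (perm hy g 0) = perm hy g 0 := by
      rw [← perm_mul_apply hy, e, perm_mul_apply hy, ha]
    have h4 : aQ hy = aQ hy * aQ hy * (aQ hy * aQ hy) := by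
      calc aQ hy = aQ hy ^ 3 * aQ hy := by rw [aQ_pow_three hy, one_mul]
        _ = _ := by rw [pow_succ, pow_two]; group
    rw [h4, perm_mul_apply hy, h2, h2]

/-- The normaliser of the subgroup of order three is the stabiliser of the first line. -/
theorem mem_St_zero_iff {q : J3 F ω} : q ∈ St hy 0 ↔ Norm3 (aQ hy) q := by
  refine ⟨norm3_of_mem hy, fun h => ?_⟩
  have hfix := perm_aQ_fix hy h
  generalize hj : perm hy q 0 = j at hfix
  by_contra hq
  have h' := allRange_spec 32 0 23256 fix_check j (Nat.zero_le _) (by omega)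
  simp only [fixOk, Bool.or_eq_true, Bool.not_eq_true', List.any_eq_true, Bool.and_eq_true,
    Nat.blt_eq] at h'
  rcases h' with (h' | h') | ⟨⟨i, a, k⟩, -, ⟨⟨hi, ha⟩, hk⟩, ⟨hT, h1⟩, h2⟩
  · exact hq (hj.trans (Fin.ext (Nat.eq_of_beq_eq_true h')))
  · obtain ⟨g, e, hg⟩ := perm_lq hy (aQ hy) j
    rw [hfix] at hg
    obtain ⟨c, hc, ec⟩ := RQ.lift hy (aQ_rq hy) e
    obtain ⟨d, hd, ed⟩ := hg
    rw [ec, Matrix.smul_mulVec,
      ← dec_tapp hy.good (show chkTab aTab aC = true by
        have := base_check; simp only [baseOk, Bool.and_eq_true] at this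
        exact this.1.1.1.1.1.1.1.2) _ (pt_lt _)] at ed
    have hp : peq (tapp aTab (Data.cert.pt j)) (Data.cert.pt j) = true := by
      refine peq_of_smul hy (f := dec ω) (S := fun x => x < 2 ^ 18) (dec_mulW hy.good)
        (fun x hx => mulW_lt18 hx) (fun x y hx hy' => dec_inj hy.good hx hy') (tapp_lt _ _) (pt_lt _)
        (mul_ne_zero (inv_ne_zero hc) hd) ?_
      rw [← smul_smul, ← ed, smul_smul, inv_mul_cancel₀ hc, one_smul]
    exact Bool.noConfusion (hp.symm.trans h')
  · let T : J3 F ω :=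
      QuotientGroup.mk ⟨hel hy a * dEl hy k, mul_mem (stabH_le hy (hel_mem hy _)) (dEl_mem_J hy)⟩
    have hTr : RQ ω T (repC a k) := ⟨_, rfl, (hel_rep hy ha).mul hy.good (dEl_rep hy hk)⟩
    have hT0 : perm hy T 0 = j := perm_of_code hy hTr (by simpa [pt_zero hy] using hT)
    have n1 : T * aQ hy ≠ aQ hy * T :=
      ne_of_not_peq hy (RQ.mul hy hTr (aQ_rq hy)) (RQ.mul hy (aQ_rq hy) hTr) (mmul_lt _ _)
        (mmul_lt _ _) (by simpa using h1)
    have n2 : T * aQ hy ≠ aQ hy * aQ hy * T :=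
      ne_of_not_peq hy (RQ.mul hy hTr (aQ_rq hy))
        (RQ.mul hy (RQ.mul hy (aQ_rq hy) (aQ_rq hy)) hTr) (mmul_lt _ _) (mmul_lt _ _)
        (by simpa [aaC] using h2)
    have hu : T⁻¹ * q ∈ St hy 0 := by
      rw [mem_St hy, perm_mul_apply hy, hj, perm_inv_apply hy hT0]
    have hT3 : Norm3 (aQ hy) T := by
      rcases norm3_of_mem hy hu with hcase | hcase
      · have e : T * aQ hy * T⁻¹ = q * aQ hy * q⁻¹ := by
          calc T * aQ hy * T⁻¹ = T * (T⁻¹ * q * aQ hy * (T⁻¹ * q)⁻¹) * T⁻¹ := by rw [hcase]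
            _ = _ := by group
        rcases h with h | h
        · exact Or.inl (e.trans h)
        · exact Or.inr (e.trans h)
      · rw [← norm3_sq (aQ_pow_three hy)]
        have e : T * (aQ hy * aQ hy) * T⁻¹ = q * aQ hy * q⁻¹ := by
          calc T * (aQ hy * aQ hy) * T⁻¹ = T * (T⁻¹ * q * aQ hy * (T⁻¹ * q)⁻¹) * T⁻¹ := by rw [hcase]
            _ = _ := by group
        rcases h with h | h
        · refine Or.inr ((e.trans h).trans ?_)
          calc aQ hy = aQ hy ^ 3 * aQ hy := by rw [aQ_pow_three hy, one_mul]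
            _ = _ := by rw [pow_succ, pow_two]; group
        · exact Or.inl (e.trans h)
    rcases hT3 with e | e
    · exact n1 (mul_inv_eq_iff_eq_mul.1 e)
    · exact n2 (mul_inv_eq_iff_eq_mul.1 e)

theorem centralizer_le : Subgroup.centralizer {aQ hy} ≤ St hy 0 := by
  intro q hq
  rw [Subgroup.mem_centralizer_singleton_iff] at hq
  exact (mem_St_zero_iff hy).2 (Or.inl (mul_inv_eq_of_eq_mul hq))

/-- A listed element of the Sylow 3-subgroup. -/
theorem exists_g3 (i : ℕ) : ∃ q : J3 F ω, RQ ω q (g3C i) := by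
  have h := StemCert.JankoThree.check3.2.2.2.1
  simp only [StemCert.JankoThree.groupOk, Bool.and_eq_true] at h
  obtain ⟨g, hg⟩ := StemCert.JankoThree.exists_list_elt hy _ h.1.1.1.1.1.1.1 i
  exact ⟨QuotientGroup.mk g, g, rfl, hg⟩

theorem form_spec {e : ℕ} (he : e < 243) :
    isMin (formC e) = true ∧ formC e < 2 ^ 162 ∧
      ∃ w : List ℕ, (∀ i ∈ w, i < 5) ∧
        peq (StemCert.JankoThree.wprod StemCert.JankoThree.gens3 w) (formC e) = true := by
  have h := StemCert.JankoThree.check3.2.2.2.1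
  simp only [StemCert.JankoThree.groupOk, Bool.and_eq_true, List.all_eq_true, List.mem_range,
    Nat.blt_eq] at h
  obtain ⟨⟨h1, h2⟩, h3⟩ := h.1.2 e (by rw [StemCert.JankoThree.check3.2.2.2.2.2.1]; exact he)
  rw [List.getD_eq_getElem?_getD] at h1 h2 h3
  refine ⟨h1, h2, _, fun i hi => ?_, h3⟩
  simp only [StemCert.Cert.lets, List.mem_flatMap, List.mem_range, List.mem_replicate] at hi
  obtain ⟨j, hj, -, rfl⟩ := hi
  exact hj

theorem form_inj {d e : ℕ} (hd : d < 243) (he : e < 243) (h : formC d = formC e) : d = e := by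
  have hl : StemCert.JankoThree.forms3.length = 243 := by decide +kernel
  have hn := StemCert.JankoThree.check3.2.2.2.1
  simp only [StemCert.JankoThree.groupOk, Bool.and_eq_true, decide_eq_true_eq] at hn
  simp only [formC, at0, List.getElem?_eq_getElem (show d < StemCert.JankoThree.forms3.length by omega),
    List.getElem?_eq_getElem (show e < StemCert.JankoThree.forms3.length by omega),
    Option.getD_some] at h
  exact (hn.2.getElem_inj_iff).1 h

omit hy in
/-- The Sylow 3-subgroup. -/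
noncomputable def syl3 (hy : Hyp F ω) : Subgroup (J3 F ω) :=
  Subgroup.closure {q | ∃ i < 5, RQ ω q (g3C i)}

theorem exists_form {e : ℕ} (he : e < 243) : ∃ q ∈ syl3 hy, RQ ω q (formC e) := by
  obtain ⟨-, -, w, hw, hp⟩ := form_spec hy he
  have key : ∀ w : List ℕ, (∀ i ∈ w, i < 5) →
      ∃ q ∈ syl3 hy, RQ ω q (StemCert.JankoThree.wprod StemCert.JankoThree.gens3 w) := by
    intro w
    induction w with
    | nil => exact fun _ => ⟨1, one_mem _, rq_one hy⟩
    | cons i w ih =>
      intro hw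
      obtain ⟨q, hq, hqr⟩ := ih fun j hj => hw j (List.mem_cons_of_mem _ hj)
      obtain ⟨g, hg⟩ := exists_g3 hy i
      exact ⟨g * q, mul_mem (Subgroup.subset_closure ⟨i, hw i List.mem_cons_self, hg⟩) hq,
        RQ.mul hy hg hqr⟩
  obtain ⟨q, hq, hqr⟩ := key w hw
  exact ⟨q, hq, RQ.congr hy hqr hp⟩

theorem syl3_form {q : J3 F ω} (hq : q ∈ syl3 hy) : ∃ e < 243, RQ ω q (formC e) := by
  haveI : Finite (J3 F ω) := Nat.finite_of_card_ne_zero (by rw [card_J3 hy]; norm_num)
  refine closure_mem_of_mul_mem (U := {x | ∃ e < 243, RQ ω x (formC e)}) ?_ ?_ hq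
  · refine ⟨0, by norm_num, ?_⟩
    rw [show formC 0 = idCode from rfl]
    exact rq_one hy
  · rintro s ⟨i, hi, hs⟩ x ⟨e, he, hx⟩
    have h := allRange_spec 16 0 243 (allRange_spec 8 0 5 img_check i (Nat.zero_le _) (by omega)) e
      (Nat.zero_le _) (by omega)
    simp only [Bool.and_eq_true, Nat.blt_eq] at h
    exact ⟨_, h.1, RQ.congr hy (RQ.mul hy hs hx) h.2⟩

theorem card_syl3 : Nat.card (syl3 hy) = 243 := by
  have h : ∀ e : Fin 243, ∃ q ∈ syl3 hy, RQ ω q (formC e) := fun e => exists_form hy e.2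
  choose f hf hfr using h
  let g : Fin 243 → syl3 hy := fun e => ⟨f e, hf e⟩
  have hg : Function.Bijective g := by
    constructor
    · intro d e hde
      have hde' : f d = f e := congrArg Subtype.val hde
      obtain ⟨x, ex, hx⟩ := hfr d
      have hx' := RQ.lift hy (hfr e) (ex.trans hde')
      obtain ⟨m1, l1, -⟩ := form_spec hy d.2
      obtain ⟨m2, l2, -⟩ := form_spec hy e.2
      exact Fin.ext (form_inj hy d.2 e.2 (hx.code_unique hy.good hy.card hx' l1 l2 m1 m2))
    · rintro ⟨q, hq⟩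
      obtain ⟨e, he, hqe⟩ := syl3_form hy hq
      exact ⟨⟨e, he⟩, Subtype.ext (RQ.inj hy (hfr ⟨e, he⟩) hqe)⟩
  rw [← Nat.card_congr (Equiv.ofBijective g hg), Nat.card_fin]

/-- Every element of order three is conjugate to a power of the chosen one, or has a centraliser
containing a Sylow 3-subgroup. -/
theorem ord_three_cases {z : J3 F ω} (hz : z ^ 3 = 1) (hne : z ≠ 1) :
    (∃ g, z = g * aQ hy * g⁻¹ ∨ z = g * (aQ hy * aQ hy) * g⁻¹) ∨
      243 ∣ Nat.card (Subgroup.centralizer {z}) := by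
  haveI : Fact (Nat.Prime 3) := ⟨Nat.prime_three⟩
  haveI : Finite (J3 F ω) := Nat.finite_of_card_ne_zero (by rw [card_J3 hy]; norm_num)
  have hfac : (Nat.card (J3 F ω)).factorization 3 = 5 := by
    rw [card_J3 hy, show (50232960 : ℕ) = 3 ^ 5 * 206720 by norm_num,
      Nat.factorization_mul (by norm_num) (by norm_num), Finsupp.add_apply,
      Nat.Prime.factorization_pow Nat.prime_three, Finsupp.single_eq_same,
      Nat.factorization_eq_zero_of_not_dvd (by norm_num)]
  let P : Sylow 3 (J3 F ω) := Sylow.ofCard (syl3 hy) (by rw [card_syl3 hy, hfac]; norm_num)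
  have hp : IsPGroup 3 (Subgroup.zpowers z) := by
    refine IsPGroup.of_card (n := 1) ?_
    rw [Nat.card_zpowers, pow_one]
    exact orderOf_eq_prime hz hne
  obtain ⟨Q, hQ⟩ := hp.exists_le_sylow
  obtain ⟨w, rfl⟩ := MulAction.exists_smul_eq (J3 F ω) P Q
  have hz' : w⁻¹ * z * w ∈ syl3 hy := by
    have := hQ (Subgroup.mem_zpowers z)
    rw [Sylow.coe_subgroup_smul, Subgroup.mem_pointwise_smul_iff_inv_smul_mem] at this
    simpa [MulAut.smul_def, ← map_inv, MulAut.conj_apply, mul_assoc, P] using this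
  obtain ⟨e, he, hr⟩ := syl3_form hy hz'
  have hne' : w⁻¹ * z * w ≠ 1 := fun h => hne (by
    calc z = w * (w⁻¹ * z * w) * w⁻¹ := by group
      _ = 1 := by rw [h]; group)
  have hz3 : (w⁻¹ * z * w) ^ 3 = 1 := by
    calc (w⁻¹ * z * w) ^ 3 = w⁻¹ * z ^ 3 * w := by simp only [pow_succ, pow_zero]; group
      _ = 1 := by rw [hz]; group
  have h := allRange_spec 16 0 243 ord_check e (Nat.zero_le _) (by omega)
  simp only [ordOk, Bool.or_eq_true, Bool.not_eq_true', List.any_eq_true, Bool.and_eq_true] at h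
  rcases h with (h | h) | ⟨⟨d, t, kind, c⟩, -, ⟨-, ht⟩, h⟩
  · exact absurd (RQ.eq hy hr (rq_one hy) h) hne'
  · have h1 : powC (formC e) 3 < 2 ^ 162 := mmul_lt _ _
    exact absurd hz3 (ne_of_not_peq hy (rq_pow hy hr 3) (rq_one hy) h1 (by decide +kernel) h)
  obtain ⟨g, hg⟩ := exists_tri hy ht
  have back : ∀ {b : J3 F ω}, g * (w⁻¹ * z * w) = b * g → z = w * g⁻¹ * b * (w * g⁻¹)⁻¹ := by
    intro b hb
    calc z = w * g⁻¹ * (g * (w⁻¹ * z * w)) * w⁻¹ := by group
      _ = _ := by rw [hb]; group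
  cases k0 : Nat.beq kind 0 with
  | true =>
    simp only [k0, cond_true] at h
    exact Or.inl ⟨_, Or.inl (back (RQ.eq hy (RQ.mul hy hg hr) (RQ.mul hy (aQ_rq hy) hg) h))⟩
  | false =>
    simp only [k0, cond_false] at h
    cases k1 : Nat.beq kind 1 with
    | true =>
      simp only [k1, cond_true] at h
      exact Or.inl ⟨_, Or.inr (back (RQ.eq hy (RQ.mul hy hg hr)
        (RQ.mul hy (RQ.mul hy (aQ_rq hy) (aQ_rq hy)) hg) h))⟩
    | false =>
      simp only [k1, cond_false, Bool.and_eq_true, Nat.blt_eq] at h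
      obtain ⟨⟨hc, hp'⟩, hcom⟩ := h
      obtain ⟨q, -, hq⟩ := exists_form hy hc
      have ez := back (RQ.eq hy (RQ.mul hy hg hr) (RQ.mul hy hq hg) hp')
      right
      have hle : syl3 hy ≤ Subgroup.centralizer {q} := by
        rw [syl3, Subgroup.closure_le]
        rintro s ⟨i, hi, hs⟩
        rw [SetLike.mem_coe, Subgroup.mem_centralizer_singleton_iff]
        exact RQ.eq hy (RQ.mul hy hs hq) (RQ.mul hy hq hs)
          (allRange_spec 8 0 5 hcom i (Nat.zero_le _) (by omega))
      have hd := Subgroup.card_dvd_of_le hle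
      rw [card_syl3 hy] at hd
      refine hd.trans (dvd_of_eq ?_)
      set v := w * g⁻¹
      have hmap : (Subgroup.centralizer {q}).map (MulAut.conj v).toMonoidHom =
          Subgroup.centralizer {z} := by
        ext s
        rw [Subgroup.mem_map_equiv, Subgroup.mem_centralizer_singleton_iff,
          Subgroup.mem_centralizer_singleton_iff, MulAut.conj_symm_apply, ez]
        constructor <;> intro hs
        · calc s * (v * q * v⁻¹) = v * (v⁻¹ * s * v * q) * v⁻¹ := by group
            _ = _ := by rw [hs]; group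
        · calc v⁻¹ * s * v * q = v⁻¹ * (s * (v * q * v⁻¹)) * v := by group
            _ = _ := by rw [hs]; group
      rw [← hmap]
      exact (Nat.card_congr ((Subgroup.centralizer {q}).equivMapOfInjective _
        (MulAut.conj v).injective).toEquiv)

/-- The image of the element of order three under an automorphism. -/
theorem aut_aQ (α : J3 F ω ≃* J3 F ω) :
    ∃ g, α (aQ hy) = g * aQ hy * g⁻¹ ∨ α (aQ hy) = g * (aQ hy * aQ hy) * g⁻¹ := by
  have h3 : α (aQ hy) ^ 3 = 1 := by rw [← map_pow, aQ_pow_three hy, map_one]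
  have hne : α (aQ hy) ≠ 1 := fun h => aQ_ne_one hy (α.injective (h.trans α.map_one.symm))
  rcases ord_three_cases hy h3 hne with h | h
  · exact h
  exfalso
  have hmap : (Subgroup.centralizer {aQ hy}).map α.toMonoidHom = Subgroup.centralizer {α (aQ hy)} := by
    ext s
    rw [Subgroup.mem_map_equiv, Subgroup.mem_centralizer_singleton_iff,
      Subgroup.mem_centralizer_singleton_iff]
    constructor <;> intro hs
    · simpa using congrArg α hs
    · apply α.injective
      simpa using hs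
  rw [← hmap, ← Nat.card_congr ((Subgroup.centralizer {aQ hy}).equivMapOfInjective _ α.injective).toEquiv]
    at h
  have h' := h.trans (Subgroup.card_dvd_of_le (centralizer_le hy))
  rw [card_St_zero hy] at h'
  norm_num at h'

/-- An automorphism sends the stabiliser of the first line to a stabiliser. -/
theorem aut_St (α : J3 F ω ≃* J3 F ω) :
    ∃ g, (α (aQ hy) = g * aQ hy * g⁻¹ ∨ α (aQ hy) = g * (aQ hy * aQ hy) * g⁻¹) ∧
      (St hy 0).map α.toMonoidHom = St hy (perm hy g 0) := by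
  obtain ⟨g, hg⟩ := aut_aQ hy α
  refine ⟨g, hg, ?_⟩
  ext s
  rw [Subgroup.mem_map_equiv, ← conj_mem_St hy (q := s) rfl, mem_St_zero_iff hy, mem_St_zero_iff hy]
  have key : Norm3 (aQ hy) (α.symm s) ↔ Norm3 (α (aQ hy)) s := by
    rw [Norm3, Norm3, ← α.injective.eq_iff, ← α.injective.eq_iff (b := aQ hy * aQ hy)]
    simp
  rw [key]
  rcases hg with e | e <;> rw [e, norm3_conj]
  exact norm3_sq (aQ_pow_three hy) _

end Cfsg.Agent.JankoThree.OutAut
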