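import Cfsg.Agent.Lib.JankoThree.FusionModel
import Cfsg.Agent.Lib.JankoThree.OutCheck
import Cfsg.Agent.Lib.JankoThree.OutCheckLines

/-! The action of J₃ on 23256 lines. -/

set_option autoImplicit false

namespace Cfsg.Agent.JankoThree.OutAut

open Matrix Cfsg.Spor Cfsg.Agent.JankoThree.TwoFusion
open Enum (allRange allRange_spec)

universe u

variable {F : Type u} [Field F] [Fintype F] {ω : F} (hy : Hyp F ω)

include hy

theorem pt_zero : Data.cert.pt 0 = 1 := by
  have := (reps_spec (show 0 < 28 by norm_num)).2.1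
  rwa [reps_zero.2.2.1, reps_zero.2.1] at this

theorem exists_move {g : GL F9 F} (hg : g ∈ threeJ3 F ω) (i : Fin 23256) :
    ∃ j : Fin 23256, Maps ω g (Data.cert.pt i) (Data.cert.pt j) := by
  obtain ⟨u, hu, hm⟩ := exists_orbit hy i.2
  obtain ⟨j, hj, hm'⟩ := orbit_mem hy (mul_mem hg hu)
  refine ⟨⟨j, hj⟩, ?_⟩
  have h := hm.symm.comp hm'
  rwa [mul_inv_cancel_right] at h

theorem index_unique {g : GL F9 F} {i j k : Fin 23256}
    (h1 : Maps ω g (Data.cert.pt i) (Data.cert.pt j)) (h2 : Maps ω g (Data.cert.pt i) (Data.cert.pt k)) :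
    j = k :=
  Fin.ext (pt_injective j.2 k.2
    (h1.unique hy.good hy.card h2 (pt_lt _) (pt_lt _) (pt_isMin j.2) (pt_isMin k.2)))

omit hy in
/-- The image of a line. -/
noncomputable def move (hy : Hyp F ω) (g : threeJ3 F ω) (i : Fin 23256) : Fin 23256 :=
  (exists_move hy g.2 i).choose

theorem move_maps (g : threeJ3 F ω) (i : Fin 23256) :
    Maps ω (g : GL F9 F) (Data.cert.pt i) (Data.cert.pt (move hy g i)) :=
  (exists_move hy g.2 i).choose_spec

theorem move_eq {g : threeJ3 F ω} {i j : Fin 23256}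
    (h : Maps ω (g : GL F9 F) (Data.cert.pt i) (Data.cert.pt j)) : move hy g i = j :=
  index_unique hy (move_maps hy g i) h

omit hy in
/-- The permutations of the lines. -/
noncomputable def permL (hy : Hyp F ω) : threeJ3 F ω →* Equiv.Perm (Fin 23256) where
  toFun g :=
    { toFun := move hy g
      invFun := move hy g⁻¹
      left_inv := fun i => move_eq hy (move_maps hy g i).symm
      right_inv := fun i => move_eq hy (by
        have := (move_maps hy g⁻¹ i).symm
        simpa using this) }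
  map_one' := Equiv.ext fun _ => move_eq hy (maps_one _)
  map_mul' g h := Equiv.ext fun i => move_eq hy ((move_maps hy h i).comp (move_maps hy g _))

omit hy in
/-- The action of the central quotient. -/
noncomputable def perm (hy : Hyp F ω) : J3 F ω →* Equiv.Perm (Fin 23256) :=
  QuotientGroup.lift _ (permL hy) fun g hg => by
    rw [MonoidHom.mem_ker]
    exact Equiv.ext fun i => move_eq hy (maps_zs ((mem_center_iff hy g).1 hg) _)

theorem perm_eq {q : J3 F ω} {i j : Fin 23256}
    (h : LQ ω q (Data.cert.pt i) (Data.cert.pt j)) : perm hy q i = j := by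
  obtain ⟨g, rfl, hg⟩ := h
  exact move_eq hy hg

theorem perm_lq (q : J3 F ω) (i : Fin 23256) :
    LQ ω q (Data.cert.pt i) (Data.cert.pt (perm hy q i)) := by
  obtain ⟨g, rfl⟩ := QuotientGroup.mk_surjective q
  exact ⟨g, rfl, move_maps hy g i⟩

theorem perm_of_code {q : J3 F ω} {M : ℕ} {i j : Fin 23256} (h : RQ ω q M)
    (e : peq (app M (Data.cert.pt i)) (Data.cert.pt j) = true) : perm hy q i = j :=
  perm_eq hy (RQ.maps' hy h e)

omit hy in
/-- The action. -/
@[reducible] noncomputable def act (hy : Hyp F ω) : MulAction (J3 F ω) (Fin 23256) :=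
  MulAction.compHom _ (perm hy)

omit hy in
/-- The stabiliser of a line. -/
noncomputable def St (hy : Hyp F ω) (i : Fin 23256) : Subgroup (J3 F ω) :=
  @MulAction.stabilizer (J3 F ω) (Fin 23256) _ (act hy) i

theorem mem_St {q : J3 F ω} {i : Fin 23256} : q ∈ St hy i ↔ perm hy q i = i := Iff.rfl

theorem perm_mul_apply (p q : J3 F ω) (i : Fin 23256) :
    perm hy (p * q) i = perm hy p (perm hy q i) := by rw [map_mul, Equiv.Perm.mul_apply]

theorem perm_inv_apply {q : J3 F ω} {i j : Fin 23256} (h : perm hy q i = j) :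
    perm hy q⁻¹ j = i := by
  rw [← h, ← perm_mul_apply hy, inv_mul_cancel, map_one, Equiv.Perm.one_apply]

theorem conj_mem_St {g q : J3 F ω} {i j : Fin 23256} (h : perm hy g i = j) :
    g⁻¹ * q * g ∈ St hy i ↔ q ∈ St hy j := by
  rw [mem_St hy, mem_St hy, perm_mul_apply hy, perm_mul_apply hy, h]
  constructor
  · intro e
    have := congrArg (perm hy g) e
    rw [← perm_mul_apply hy, mul_inv_cancel, map_one, Equiv.Perm.one_apply] at this
    rwa [h] at this
  · intro e; rw [e]; exact perm_inv_apply hy h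

theorem map_St {g : J3 F ω} {i j : Fin 23256} (h : perm hy g i = j) :
    (St hy i).map (MulAut.conj g).toMonoidHom = St hy j := by
  ext q
  rw [Subgroup.mem_map_equiv, ← conj_mem_St hy h, MulAut.conj_symm_apply]

theorem exists_stab {q : J3 F ω} (h : q ∈ St hy 0) : ∃ i < 2160, RQ ω q (Data.cert.hm i) := by
  obtain ⟨g, rfl⟩ := QuotientGroup.mk_surjective q
  have hm : Maps ω (g : GL F9 F) (Data.cert.pt 0) (Data.cert.pt 0) := by
    have := move_maps hy g 0
    rw [show move hy g 0 = 0 from h] at this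
    simpa using this
  rw [pt_zero hy] at hm
  obtain ⟨i, hi, hr⟩ := stabH_rep hy (mem_stabH_of_fix hy g.2 hm)
  exact ⟨i, hi, g, rfl, hr⟩

theorem stabH_fix_zero {g : threeJ3 F ω} (h : (g : GL F9 F) ∈ stabH F ω) :
    (QuotientGroup.mk g : J3 F ω) ∈ St hy 0 := by
  refine perm_eq hy ⟨g, rfl, ?_⟩
  simpa [pt_zero hy] using stabH_fix hy h

theorem transitive (i : Fin 23256) : ∃ g : J3 F ω, perm hy g 0 = i := by
  obtain ⟨g, hg, hm⟩ := exists_orbit hy i.2
  exact ⟨QuotientGroup.mk ⟨g, hg⟩, perm_eq hy ⟨_, rfl, by simpa [pt_zero hy] using hm⟩⟩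

theorem card_St_zero : Nat.card (St hy 0) = 2160 := by
  letI := act hy
  haveI : Finite (J3 F ω) := (Nat.finite_of_card_ne_zero (by rw [card_J3 hy]; norm_num))
  haveI : MulAction.IsPretransitive (J3 F ω) (Fin 23256) := ⟨fun i j => by
    obtain ⟨g, hg⟩ := transitive hy i
    obtain ⟨h, hh⟩ := transitive hy j
    exact ⟨h * g⁻¹, (perm_mul_apply hy h g⁻¹ i).trans (by rw [perm_inv_apply hy hg, hh])⟩⟩
  have h := (St hy 0).card_mul_index
  rw [show (St hy 0).index = Nat.card (Fin 23256) from MulAction.index_stabilizer_of_transitive _ 0,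
    card_J3 hy, Nat.card_fin] at h
  omega

theorem orbit_block {k : ℕ} (hk : k < 28) {s : Fin 23256}
    (h1 : Data.cert.start k ≤ s) (h2 : (s : ℕ) < Data.cert.start k + Data.cert.size k)
    (l : Fin 23256) :
    (∃ q ∈ St hy 0, perm hy q s = l) ↔
      Data.cert.start k ≤ l ∧ (l : ℕ) < Data.cert.start k + Data.cert.size k := by
  obtain ⟨κ, hκ, r, hr, -, hm⟩ := point_spec hy hk h1 h2
  have hs : κ * r ∈ stabH F ω := mul_mem hκ.1 hr
  constructor
  · rintro ⟨q, hq, rfl⟩
    obtain ⟨i, hi, hr'⟩ := exists_stab hy hq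
    obtain ⟨b, hb1, hb2, hb, -⟩ := cover hy hk (mul_mem (hel_mem hy i) hs)
    have hb3 := block_le hk
    have := (hm.symm.comp hb)
    rw [mul_inv_cancel_right] at this
    have e : perm hy q s = ⟨b, by omega⟩ := by
      refine perm_eq hy ?_
      obtain ⟨g, e, hg⟩ := hr'
      obtain ⟨z, hz, ez⟩ := (hel_rep hy hi).unique hg
      exact ⟨g, e, by rw [ez]; exact this.comp (maps_zs hz _)⟩
    rw [e]; exact ⟨hb1, hb2⟩
  · rintro ⟨l1, l2⟩
    obtain ⟨κ', hκ', r', hr', -, hm'⟩ := point_spec hy hk l1 l2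
    have hs' : κ' * r' ∈ stabH F ω := mul_mem hκ'.1 hr'
    have hx : (κ' * r') * (κ * r)⁻¹ ∈ stabH F ω := mul_mem hs' (inv_mem hs)
    exact ⟨_, stabH_fix_zero hy (g := ⟨_, stabH_le hy hx⟩) hx,
      perm_eq hy ⟨_, rfl, hm.symm.comp hm'⟩⟩

theorem card_inter_block {k : ℕ} (hk : k < 28) {s : Fin 23256}
    (h1 : Data.cert.start k ≤ s) (h2 : (s : ℕ) < Data.cert.start k + Data.cert.size k) :
    Nat.card (St hy 0 ⊓ St hy s : Subgroup (J3 F ω)) * Data.cert.size k = 2160 := by
  classical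
  letI := act hy
  have hb := block_le hk
  have horb : MulAction.orbit (St hy 0) s = Set.range fun a : Fin (Data.cert.size k) =>
      (⟨Data.cert.start k + a, by omega⟩ : Fin 23256) := by
    ext l
    rw [MulAction.mem_orbit_iff]
    constructor
    · rintro ⟨q, rfl⟩
      obtain ⟨l1, l2⟩ := (orbit_block hy hk h1 h2 _).1 ⟨q, q.2, rfl⟩
      exact ⟨⟨_, Nat.sub_lt_left_of_lt_add l1 l2⟩, Fin.ext (Nat.add_sub_cancel' l1)⟩
    · rintro ⟨a, rfl⟩
      obtain ⟨q, hq, e⟩ := (orbit_block hy hk h1 h2 ⟨Data.cert.start k + a, by omega⟩).2 ⟨Nat.le_add_right _ _, Nat.add_lt_add_left a.2 (Data.cert.start k)⟩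
      exact ⟨⟨q, hq⟩, e⟩
  have h := (MulAction.stabilizer (St hy 0) s).card_mul_index
  rw [MulAction.index_stabilizer, horb, Set.ncard_range_of_injective (fun a b e =>
    Fin.ext (Nat.add_left_cancel (congrArg Fin.val e))), Nat.card_fin, card_St_zero hy] at h
  rw [← h]
  congr 1
  exact Nat.card_congr
    { toFun := fun q => ⟨⟨q.1, q.2.1⟩, q.2.2⟩
      invFun := fun q => ⟨q.1.1, q.1.2, q.2⟩
      left_inv := fun _ => rfl
      right_inv := fun _ => rfl }

end Cfsg.Agent.JankoThree.OutAut
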