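import Cfsg.Agent.Lib.JankoThree.OutFusion

/-! The automorphism group of J₃ has order at most twice that of the group. -/

set_option autoImplicit false

namespace Cfsg.Agent.JankoThree.OutAut

open Matrix Cfsg.Spor Cfsg.Agent.JankoThree.TwoFusion
open Enum (allRange allRange_spec)

universe u

variable {F : Type u} [Field F] [Fintype F] {ω : F} (hy : Hyp F ω)

include hy

theorem base_spec :
    triB xDec = true ∧ peq xCode (triC xDec) = true ∧ chkTab xTab xCode = true ∧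
    peq (powC xCode 19) idCode = true ∧ peq xCode idCode = false ∧ xCode < 2 ^ 162 ∧
    triB yDec = true ∧ peq (mmul yC xCode) (mmul (powC xCode 4) yC) = true ∧
    peq (powC (mmul xCode aC) 6) idCode = true ∧ peq (powC (mmul xCode aaC) 6) idCode = false := by
  have h := base_check
  simp only [baseOk, Bool.and_eq_true, Bool.not_eq_true', Nat.blt_eq] at h
  obtain ⟨⟨⟨⟨⟨⟨⟨⟨⟨⟨h1, h2⟩, h3⟩, -⟩, h5⟩, h6⟩, h7⟩, h8⟩, h9⟩, h10⟩, h11⟩ := h
  exact ⟨h1, h2, h3, h5, h6, h7, h8, h9, h10, h11⟩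

theorem exists_x : ∃ q : J3 F ω, RQ ω q xCode := by
  obtain ⟨h1, h2, -⟩ := base_spec hy
  obtain ⟨q, hq⟩ := exists_tri hy h1
  exact ⟨q, RQ.congr' hy hq h2⟩

omit hy in
/-- The element of order 19. -/
noncomputable def xQ (hy : Hyp F ω) : J3 F ω := (exists_x hy).choose

theorem xQ_rq : RQ ω (xQ hy) xCode := (exists_x hy).choose_spec

theorem orderOf_xQ : orderOf (xQ hy) = 19 := by
  haveI : Fact (Nat.Prime 19) := ⟨by norm_num⟩
  obtain ⟨-, -, -, h19, hne, hlt, -⟩ := base_spec hy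
  exact orderOf_eq_prime (RQ.eq hy (rq_pow hy (xQ_rq hy) 19) (rq_one hy) h19)
    (ne_of_not_peq hy (xQ_rq hy) (rq_one hy) hlt (by decide +kernel) hne)

omit hy in
/-- A place in an orbit of the element of order 19. -/
def atFin (n : ℕ) : Fin 23256 := ⟨atF n % 23256, Nat.mod_lt _ (by norm_num)⟩

theorem atFin_val {n : ℕ} (h : n < 23256) : (atFin n : ℕ) = atF n := by
  have h' := allRange_spec 32 0 23256 orb_check n (Nat.zero_le _) (by omega)
  simp only [orbOk, Bool.and_eq_true, Nat.blt_eq] at h'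
  exact Nat.mod_eq_of_lt h'.1.1.1

theorem perm_pow_at {o : ℕ} (ho : o < 1224) :
    ∀ p < 19, perm hy (xQ hy ^ p) (atFin (o * 19)) = atFin (o * 19 + p)
  | 0, _ => by simp
  | p + 1, hp => by
    rw [pow_succ', perm_mul_apply hy, perm_pow_at ho p (by omega)]
    have h := allRange_spec 32 0 23256 orb_check (o * 19 + p) (Nat.zero_le _) (by omega)
    simp only [orbOk, Bool.and_eq_true, Bool.or_eq_true, Nat.blt_eq] at h
    rcases h.2 with h' | h'
    · have := Nat.eq_of_beq_eq_true h'; omega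
    · obtain ⟨g, e, hg⟩ := xQ_rq hy
      refine perm_eq hy ⟨g, e, ?_⟩
      rw [atFin_val hy (by omega), atFin_val hy (show o * 19 + (p + 1) < 23256 by omega)]
      exact Rep.maps_tab hy.good ⟨_, hg.choose_spec.1, hg.choose_spec.2⟩ (base_spec hy).2.2.1
        (pt_lt _) h'

theorem exists_place (i : Fin 23256) :
    ∃ o < 1224, ∃ p < 19, perm hy (xQ hy ^ p) (atFin (o * 19)) = i := by
  have h := allRange_spec 32 0 23256 orb_check i (Nat.zero_le _) (by omega)
  simp only [orbOk, Bool.and_eq_true, Nat.blt_eq] at h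
  have ho : posF i / 19 < 1224 := by omega
  refine ⟨posF i / 19, ho, posF i % 19, Nat.mod_lt _ (by norm_num), ?_⟩
  rw [perm_pow_at hy ho _ (Nat.mod_lt _ (by norm_num)), Nat.div_add_mod' (posF i) 19]
  exact Fin.ext ((atFin_val hy h.1.1.2).trans (Nat.eq_of_beq_eq_true h.1.2))

omit hy in
/-- The size of the common stabiliser of a line and its image under a power of the element. -/
noncomputable def common (hy : Hyp F ω) (p : ℕ) (i : Fin 23256) : ℕ :=
  Nat.card (St hy i ⊓ St hy (perm hy (xQ hy ^ p) i) : Subgroup (J3 F ω))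

theorem card_map_inf (φ : J3 F ω ≃* J3 F ω) (A B : Subgroup (J3 F ω)) :
    Nat.card (A.map φ.toMonoidHom ⊓ B.map φ.toMonoidHom : Subgroup (J3 F ω)) =
      Nat.card (A ⊓ B : Subgroup (J3 F ω)) := by
  rw [← Subgroup.map_inf _ _ _ φ.injective]
  exact (Nat.card_congr ((A ⊓ B).equivMapOfInjective _ φ.injective).toEquiv).symm

theorem common_pow (p m : ℕ) (i : Fin 23256) :
    common hy p (perm hy (xQ hy ^ m) i) = common hy p i := by
  rw [common, common, ← map_St hy (g := xQ hy ^ m) rfl,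
    ← map_St hy (g := xQ hy ^ m) (i := perm hy (xQ hy ^ p) i)
      (j := perm hy (xQ hy ^ p) (perm hy (xQ hy ^ m) i))
      (by rw [← perm_mul_apply hy, ← perm_mul_apply hy, ← pow_add, ← pow_add, add_comm])]
  exact card_map_inf hy _ _ _

theorem common_at {o : ℕ} (ho : o < 1224) :
    ∃ k₁ k₂, common hy 1 (atFin (o * 19)) * Data.cert.size k₁ = 2160 ∧
      common hy 2 (atFin (o * 19)) * Data.cert.size k₂ = 2160 ∧
      (o = 0 → atFin (o * 19) = 0 ∧ Data.cert.size k₁ = 1080 ∧ Data.cert.size k₂ = 80) ∧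
      (o ≠ 0 → ¬ (Data.cert.size k₁ = 1080 ∧ Data.cert.size k₂ = 80)) := by
  have h := allRange_spec 16 0 1224 sig_check o (Nat.zero_le _) (by omega)
  simp only [sigOk, inBlock, Bool.and_eq_true, Nat.blt_eq, Nat.ble_eq] at h
  obtain ⟨⟨⟨⟨⟨⟨⟨ha, hk⟩, hr⟩, ⟨⟨hk1, hs1⟩, hs1'⟩⟩, hl1⟩, ⟨⟨hk2, hs2⟩, hs2'⟩⟩, hl2⟩, hsame⟩ := h
  generalize sgF o % 2 ^ 12 = a at *
  generalize sgF o / 2 ^ 12 % 2 ^ 5 = k at *
  generalize sgF o / 2 ^ 17 % 2 ^ 15 = s₁ at *
  generalize sgF o / 2 ^ 32 % 2 ^ 5 = k₁ at *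
  generalize sgF o / 2 ^ 37 % 2 ^ 15 = s₂ at *
  generalize sgF o / 2 ^ 52 % 2 ^ 5 = k₂ at *
  let g : J3 F ω :=
    QuotientGroup.mk ⟨hel hy a * dEl hy k, mul_mem (stabH_le hy (hel_mem hy _)) (dEl_mem_J hy)⟩
  have hg : RQ ω g (repC a k) := ⟨_, rfl, (hel_rep hy ha).mul hy.good (dEl_rep hy hk)⟩
  have hg0 : perm hy g 0 = atFin (o * 19) :=
    perm_of_code hy hg (by rw [atFin_val hy (by omega)]; simpa [pt_zero hy] using hr)
  have go : ∀ p k' s, k' < 28 → Data.cert.start k' ≤ s →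
      s < Data.cert.start k' + Data.cert.size k' → p < 19 →
      peq (app (repC a k) (Data.cert.pt s)) (Data.cert.pt (atF (o * 19 + p))) = true →
      common hy p (atFin (o * 19)) * Data.cert.size k' = 2160 := by
    intro p k' s hk' h1 h2 hp hl
    have hb := block_le hk'
    have hgs : perm hy g ⟨s, by omega⟩ = perm hy (xQ hy ^ p) (atFin (o * 19)) := by
      rw [perm_pow_at hy ho p hp]
      exact perm_of_code hy hg (by rw [atFin_val hy (by omega)]; exact hl)
    rw [common, ← map_St hy hg0, ← hgs, ← map_St hy (rfl : perm hy g ⟨s, _⟩ = _),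
      map_St hy hg0, ← map_St hy hg0, card_map_inf hy]
    exact card_inter_block hy hk' (s := ⟨s, _⟩) h1 h2
  refine ⟨k₁, k₂, go 1 k₁ s₁ hk1 hs1 hs1' (by norm_num) hl1,
    go 2 k₂ s₂ hk2 hs2 hs2' (by norm_num) hl2, fun h0 => ?_, fun h0 => ?_⟩
  · subst h0
    simp only [Nat.beq_refl, cond_true, Bool.and_eq_true] at hsame
    exact ⟨Fin.ext ((atFin_val hy (by norm_num)).trans (Nat.eq_of_beq_eq_true hsame.1)),
      Nat.eq_of_beq_eq_true hsame.2.1, Nat.eq_of_beq_eq_true hsame.2.2⟩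
  · rintro ⟨e1, e2⟩
    have e0 : Nat.beq o 0 = false := by
      cases e : Nat.beq o 0 with
      | false => rfl
      | true => exact absurd (Nat.eq_of_beq_eq_true e) h0
    simp [e0, e1, e2] at hsame

/-- The first line's orbit is determined by the two invariants. -/
theorem eq_pow_of_common {j : Fin 23256} (h1 : common hy 1 j = common hy 1 0)
    (h2 : common hy 2 j = common hy 2 0) : ∃ m < 19, perm hy (xQ hy ^ m) 0 = j := by
  obtain ⟨o, ho, p, hp, rfl⟩ := exists_place hy j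
  obtain ⟨k₁, k₂, c1, c2, h0, hn⟩ := common_at hy ho
  obtain ⟨l₁, l₂, d1, d2, g0, -⟩ := common_at hy (show 0 < 1224 by norm_num)
  obtain ⟨ez, e1, e2⟩ := g0 rfl
  rw [ez, e1] at d1
  rw [ez, e2] at d2
  rw [common_pow hy] at h1 h2
  by_cases ho0 : o = 0
  · exact ⟨p, hp, by rw [(h0 ho0).1]⟩
  · rw [h1, show common hy 1 0 = 2 by omega] at c1
    rw [h2, show common hy 2 0 = 27 by omega] at c2
    exact absurd ⟨by omega, by omega⟩ (hn ho0)

omit hy in
/-- The subgroup generated by the two elements. -/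
noncomputable def twoGen (hy : Hyp F ω) : Subgroup (J3 F ω) := Subgroup.closure {xQ hy, aQ hy}

theorem exists_bits : ∀ n v : ℕ, ∃ q ∈ twoGen hy, RQ ω q (bitsC n v)
  | 0, _ => ⟨1, one_mem _, rq_one hy⟩
  | n + 1, v => by
    obtain ⟨q, hq, hr⟩ := exists_bits n (Nat.shiftRight v 1)
    rw [bitsC]
    cases Nat.beq (Nat.land v 1) 0
    · exact ⟨aQ hy * q, mul_mem (Subgroup.subset_closure (Or.inr rfl)) hq, RQ.mul hy (aQ_rq hy) hr⟩
    · exact ⟨xQ hy * q, mul_mem (Subgroup.subset_closure (Or.inl rfl)) hq, RQ.mul hy (xQ_rq hy) hr⟩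

theorem twoGen_top : twoGen hy = ⊤ := by
  let π := QuotientGroup.mk' (Subgroup.center (threeJ3 F ω))
  let M : Subgroup (GL F9 F) := ((twoGen hy).comap π).map (threeJ3 F ω).subtype
  have key : ∀ {g : GL F9 F} {n v N : ℕ}, g ∈ threeJ3 F ω → Rep ω g N →
      peq (bitsC n v) N = true → g ∈ M := by
    intro g n v N hg hr e
    obtain ⟨q, hq, hqr⟩ := exists_bits hy n v
    have : (QuotientGroup.mk ⟨g, hg⟩ : J3 F ω) = q :=
      (RQ.eq hy hqr ⟨⟨g, hg⟩, rfl, hr⟩ e).symm
    exact ⟨⟨g, hg⟩, show (QuotientGroup.mk ⟨g, hg⟩ : J3 F ω) ∈ twoGen hy by rw [this]; exact hq, rfl⟩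
  have hw := words_check
  simp only [wordsOk, Bool.and_eq_true] at hw
  have hM : stabH F ω ≤ M := by
    conv_lhs => rw [stabH]
    rw [Subgroup.closure_le]
    rintro g (⟨i, hi, hg, hr⟩ | hg)
    · interval_cases i
      · exact key hg hr hw.1.1
      · exact key hg hr hw.1.2
    · refine ⟨⟨g, zs_le hy hg⟩, ?_, rfl⟩
      rw [SetLike.mem_coe, Subgroup.mem_comap]
      have : π ⟨g, zs_le hy hg⟩ = 1 := (QuotientGroup.eq_one_iff _).2 ((mem_center_iff hy _).2 hg)
      rw [this]; exact one_mem _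
  have ht : tU hy ∈ M := key (genU_mem hy _) (tU_rep hy) hw.2
  have hall : threeJ3 F ω ≤ M := by
    rw [← genP_eq hy, genP, Subgroup.closure_le]
    rintro g (hg | hg)
    · exact hM hg
    · rw [Set.mem_singleton_iff.mp hg]; exact ht
  rw [eq_top_iff]
  intro q _
  obtain ⟨g, rfl⟩ := QuotientGroup.mk_surjective q
  obtain ⟨g', hg', e⟩ := hall g.2
  rw [show g = g' from Subtype.ext e.symm]
  exact hg'

theorem eq_zero_of_St_eq {i : Fin 23256} (h : St hy i = St hy 0) : i = 0 := by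
  obtain ⟨k, hk, h1, h2⟩ := exists_block i.2
  have hc := card_inter_block hy hk h1 h2
  rw [h, inf_idem, card_St_zero hy] at hc
  have key : ∀ k < 28, Data.cert.size k = 1 → k = 0 := by decide +kernel
  obtain rfl := key k hk (by omega)
  obtain ⟨-, -, hs, hz, -⟩ := reps_zero
  exact Fin.ext (show (i : ℕ) = 0 by omega)

/-- An automorphism fixing the element of order 19 and the first stabiliser is trivial. -/
theorem aut_eq_refl {β : J3 F ω ≃* J3 F ω} (hx : β (xQ hy) = xQ hy)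
    (hH : (St hy 0).map β.toMonoidHom = St hy 0) :
    β = MulEquiv.refl _ := by
  obtain ⟨g, hg, hmap⟩ := aut_St hy β
  have hgH := norm3_of_mem hy (q := g) ((mem_St hy).2 (eq_zero_of_St_eq hy (hmap.symm.trans hH)))
  have h4 : aQ hy = aQ hy * aQ hy * (aQ hy * aQ hy) := by
    calc aQ hy = aQ hy ^ 3 * aQ hy := by rw [aQ_pow_three hy, one_mul]
      _ = _ := by rw [pow_succ, pow_two]; group
  have esq : g * (aQ hy * aQ hy) * g⁻¹ = g * aQ hy * g⁻¹ * (g * aQ hy * g⁻¹) := by group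
  have ha : β (aQ hy) = aQ hy ∨ β (aQ hy) = aQ hy * aQ hy := by
    rcases hg with e | e <;> rcases hgH with e' | e' <;>
      simp only [esq, e'] at e <;> first
        | exact Or.inl e
        | exact Or.inr e
        | exact Or.inl (e.trans h4.symm)
  rcases ha with ha | ha
  · have hfix : (⊤ : Subgroup (J3 F ω)) ≤ β.toMonoidHom.eqLocus (MonoidHom.id _) := by
      rw [← twoGen_top hy, twoGen, Subgroup.closure_le]
      rintro s (rfl | rfl)
      · exact hx
      · exact ha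
    exact MulEquiv.ext fun q => hfix (Subgroup.mem_top q)
  · exfalso
    obtain ⟨-, -, -, -, -, -, -, -, h6, hn6⟩ := base_spec hy
    have e1 : (xQ hy * aQ hy) ^ 6 = 1 :=
      RQ.eq hy (rq_pow hy (RQ.mul hy (xQ_rq hy) (aQ_rq hy)) 6) (rq_one hy) h6
    have e2 := congrArg β e1
    rw [map_pow, map_mul, hx, ha, map_one] at e2
    exact ne_of_not_peq hy (rq_pow hy (RQ.mul hy (xQ_rq hy) (RQ.mul hy (aQ_rq hy) (aQ_rq hy))) 6)
      (rq_one hy) (mmul_lt _ _) (by decide +kernel) hn6 e2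

/-- An automorphism fixing the element of order 19 is conjugation by one of its powers. -/
theorem fix_x {α : J3 F ω ≃* J3 F ω} (hx : α (xQ hy) = xQ hy) :
    ∃ m < 19, α = MulAut.conj (xQ hy ^ m) := by
  obtain ⟨g, hg, hmap⟩ := aut_St hy α
  set j := perm hy g 0 with hj
  have hc : ∀ p, common hy p j = common hy p 0 := by
    intro p
    have h2 : (St hy (perm hy (xQ hy ^ p) 0)).map α.toMonoidHom =
        St hy (perm hy (xQ hy ^ p) j) := by
      rw [← map_St hy (g := xQ hy ^ p) (i := 0) rfl, ← map_St hy (g := xQ hy ^ p) (i := j) rfl,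
        ← hmap, Subgroup.map_map, Subgroup.map_map]
      congr 1
      refine MonoidHom.ext fun q => ?_
      show α (xQ hy ^ p * q * (xQ hy ^ p)⁻¹) = xQ hy ^ p * α q * (xQ hy ^ p)⁻¹
      rw [map_mul, map_mul, map_inv, map_pow, hx]
    rw [common, common, ← h2, ← hmap, card_map_inf hy]
  obtain ⟨m, hm, hmj⟩ := eq_pow_of_common hy (hc 1) (hc 2)
  refine ⟨m, hm, ?_⟩
  have hβ : α.trans (MulAut.conj (xQ hy ^ m))⁻¹ = MulEquiv.refl _ := by
    refine aut_eq_refl hy ?_ ?_
    · rw [MulEquiv.trans_apply, hx, MulAut.conj_inv_apply]; group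
    · have e : (α.trans (MulAut.conj (xQ hy ^ m))⁻¹).toMonoidHom =
          (MulAut.conj (xQ hy ^ m)⁻¹).toMonoidHom.comp α.toMonoidHom := by
        ext q; simp
      rw [e, ← Subgroup.map_map, hmap, map_St hy (perm_inv_apply hy hmj)]
  ext q
  have := congrArg (fun f => MulAut.conj (xQ hy ^ m) (f q)) hβ
  simpa using this

/-- A power of the element of order 19 is conjugate to it or its inverse. -/
theorem pow_conj (e : ℕ) (he : e % 19 ≠ 0) :
    ∃ g, xQ hy ^ e = g * xQ hy * g⁻¹ ∨ xQ hy ^ e = g * (xQ hy)⁻¹ * g⁻¹ := by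
  obtain ⟨-, -, -, -, -, -, ht, hy4, -⟩ := base_spec hy
  obtain ⟨y, hyr⟩ := exists_tri hy ht
  have hconj : y * xQ hy = xQ hy ^ 4 * y :=
    RQ.eq hy (RQ.mul hy hyr (xQ_rq hy)) (RQ.mul hy (rq_pow hy (xQ_rq hy) 4) hyr) hy4
  have hm : ∀ m : ℕ, y ^ m * xQ hy * (y ^ m)⁻¹ = xQ hy ^ (4 ^ m) := by
    intro m
    induction m with
    | zero => simp
    | succ m ih =>
      have h1 : y * xQ hy * y⁻¹ = xQ hy ^ 4 := mul_inv_eq_of_eq_mul hconj
      calc y ^ (m + 1) * xQ hy * (y ^ (m + 1))⁻¹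
          = y * (y ^ m * xQ hy * (y ^ m)⁻¹) * y⁻¹ := by rw [pow_succ']; group
        _ = (y * xQ hy * y⁻¹) ^ (4 ^ m) := by rw [ih, conj_pow]
        _ = _ := by rw [h1, ← pow_mul, ← pow_succ']
  have key : ∀ r < 19, r ≠ 0 → ∃ m < 9, 4 ^ m % 19 = r ∨ 4 ^ m % 19 + r = 19 := by decide +kernel
  obtain ⟨m, -, h⟩ := key (e % 19) (Nat.mod_lt _ (by norm_num)) he
  refine ⟨y ^ m, ?_⟩
  have hmod : ∀ n, xQ hy ^ n = xQ hy ^ (n % 19) := fun n => by
    rw [← orderOf_xQ hy, pow_mod_orderOf]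
  rcases h with h | h
  · exact Or.inl (by rw [hm, hmod (4 ^ m), h, ← hmod])
  · refine Or.inr ?_
    rw [show y ^ m * (xQ hy)⁻¹ * (y ^ m)⁻¹ = (y ^ m * xQ hy * (y ^ m)⁻¹)⁻¹ by group, hm,
      hmod (4 ^ m), eq_inv_iff_mul_eq_one, ← pow_add, hmod, Nat.add_mod, Nat.mod_mod, add_comm,
      h, pow_zero]

omit hy in
/-- Conjugates of the element of order 19 and of its inverse, by cosets. -/
noncomputable def ordList (hy : Hyp F ω) (p : (J3 F ω ⧸ Subgroup.zpowers (xQ hy)) × Bool) : J3 F ω :=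
  p.1.out * (bif p.2 then xQ hy else (xQ hy)⁻¹) * p.1.out⁻¹

theorem ordList_surj {z : J3 F ω} (hz : orderOf z = 19) : ∃ p, ordList hy p = z := by
  haveI : Fact (Nat.Prime 19) := ⟨by norm_num⟩
  haveI : Finite (J3 F ω) := Nat.finite_of_card_ne_zero (by rw [card_J3 hy]; norm_num)
  have hfac : (Nat.card (J3 F ω)).factorization 19 = 1 := by
    rw [card_J3 hy, show (50232960 : ℕ) = 19 ^ 1 * 2643840 by norm_num,
      Nat.factorization_mul (by norm_num) (by norm_num), Finsupp.add_apply,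
      Nat.Prime.factorization_pow (Fact.out : Nat.Prime 19), Finsupp.single_eq_same,
      Nat.factorization_eq_zero_of_not_dvd (by norm_num)]
  let P : Sylow 19 (J3 F ω) := Sylow.ofCard (Subgroup.zpowers (xQ hy))
    (by rw [Nat.card_zpowers, orderOf_xQ hy, hfac, pow_one])
  let Q : Sylow 19 (J3 F ω) := Sylow.ofCard (Subgroup.zpowers z)
    (by rw [Nat.card_zpowers, hz, hfac, pow_one])
  obtain ⟨w, hw⟩ := MulAction.exists_smul_eq (J3 F ω) P Q
  have hz' : w⁻¹ * z * w ∈ Subgroup.zpowers (xQ hy) := by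
    have h0 : z ∈ (Q : Subgroup (J3 F ω)) := Subgroup.mem_zpowers z
    rw [← hw, Sylow.coe_subgroup_smul, Subgroup.mem_pointwise_smul_iff_inv_smul_mem] at h0
    simpa [MulAut.smul_def, ← map_inv, MulAut.conj_apply, mul_assoc, P] using h0
  obtain ⟨e, he⟩ := (Submonoid.mem_powers_iff _ _).1 (mem_powers_iff_mem_zpowers.2 hz')
  have he' : xQ hy ^ e = w⁻¹ * z * w := he
  have hne : e % 19 ≠ 0 := by
    intro h0
    have h1 : xQ hy ^ e = 1 := by rw [← pow_mod_orderOf, orderOf_xQ hy, h0, pow_zero]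
    have : z = 1 := by
      calc z = w * (w⁻¹ * z * w) * w⁻¹ := by group
        _ = 1 := by rw [← he', h1]; group
    rw [this, orderOf_one] at hz
    norm_num at hz
  have key : ∀ (g v : J3 F ω), (v = xQ hy ∨ v = (xQ hy)⁻¹) → z = g * v * g⁻¹ →
      ∃ p, ordList hy p = z := by
    intro g v hv e
    let c : J3 F ω ⧸ Subgroup.zpowers (xQ hy) := QuotientGroup.mk g
    obtain ⟨n, hn⟩ := QuotientGroup.mk_out_eq_mul (Subgroup.zpowers (xQ hy)) g
    obtain ⟨i, hi⟩ := Subgroup.mem_zpowers_iff.1 n.2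
    have hcomm : ∀ u : J3 F ω, (u = xQ hy ∨ u = (xQ hy)⁻¹) → c.out * u * c.out⁻¹ = g * u * g⁻¹ := by
      intro u hu
      show Quotient.out (QuotientGroup.mk g : J3 F ω ⧸ Subgroup.zpowers (xQ hy)) * u * _⁻¹ = _
      rw [hn, ← hi]
      rcases hu with rfl | rfl <;> group
    rcases hv with rfl | rfl
    · exact ⟨(c, true), (hcomm _ (Or.inl rfl)).trans e.symm⟩
    · exact ⟨(c, false), (hcomm _ (Or.inr rfl)).trans e.symm⟩
  obtain ⟨g, h | h⟩ := pow_conj hy e hne
  · refine key (w * g) (xQ hy) (Or.inl rfl) ?_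
    calc z = w * (w⁻¹ * z * w) * w⁻¹ := by group
      _ = _ := by rw [← he', h]; group
  · refine key (w * g) (xQ hy)⁻¹ (Or.inr rfl) ?_
    calc z = w * (w⁻¹ * z * w) * w⁻¹ := by group
      _ = _ := by rw [← he', h]; group

/-- The automorphism group has order at most twice that of the group. -/
theorem card_mulAut_le : Finite (MulAut (J3 F ω)) ∧ Nat.card (MulAut (J3 F ω)) ≤ 100465920 := by
  classical
  haveI : Finite (J3 F ω) := Nat.finite_of_card_ne_zero (by rw [card_J3 hy]; norm_num)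
  let I := (J3 F ω ⧸ Subgroup.zpowers (xQ hy)) × Bool
  have hsel : ∀ α : MulAut (J3 F ω), ∃ p : I, ordList hy p = α (xQ hy) := fun α =>
    ordList_surj hy (by rw [MulEquiv.orderOf_eq, orderOf_xQ hy])
  choose sel hsel using hsel
  let rp : I → MulAut (J3 F ω) := fun p => if h : ∃ α, sel α = p then h.choose else 1
  have hrp : ∀ α, sel (rp (sel α)) = sel α := fun α => by
    have h : ∃ β, sel β = sel α := ⟨α, rfl⟩
    simp only [rp, dif_pos h]
    exact h.choose_spec
  have hsame : ∀ α, ∃ m : Fin 19, (rp (sel α))⁻¹ * α = MulAut.conj (xQ hy ^ m.1) := by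
    intro α
    have e : rp (sel α) (xQ hy) = α (xQ hy) := by rw [← hsel, hrp, hsel]
    obtain ⟨m, hm, h⟩ := fix_x hy (α := (rp (sel α))⁻¹ * α) (by
      rw [MulAut.mul_apply, ← e, MulAut.inv_apply_self])
    exact ⟨⟨m, hm⟩, h⟩
  choose m hm using hsame
  let f : MulAut (J3 F ω) → I × Fin 19 := fun α => (sel α, m α)
  have hf : Function.Injective f := by
    intro α β h
    simp only [f, Prod.mk.injEq] at h
    calc α = rp (sel α) * ((rp (sel α))⁻¹ * α) := by group
      _ = rp (sel β) * ((rp (sel β))⁻¹ * β) := by rw [hm α, hm β, h.1, h.2]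
      _ = β := by group
  refine ⟨Finite.of_injective f hf, (Nat.card_le_card_of_injective f hf).trans (le_of_eq ?_)⟩
  have h := Subgroup.card_eq_card_quotient_mul_card_subgroup (Subgroup.zpowers (xQ hy))
  rw [Nat.card_zpowers, orderOf_xQ hy, card_J3 hy] at h
  rw [Nat.card_prod, Nat.card_prod, Nat.card_fin, Nat.card_eq_fintype_card (α := Bool),
    Fintype.card_bool]
  omega

end Cfsg.Agent.JankoThree.OutAut
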