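import Cfsg.Agent.Lib.JankoThree.Gens
import Cfsg.Agent.Lib.JankoThree.CheckH
import Cfsg.Agent.Lib.JankoThree.CheckRoots
import Cfsg.Agent.Lib.JankoThree.CheckSort
import Cfsg.Agent.Lib.JankoThree.CheckPts

/-!
# The triple cover of J₃: orbit and stabiliser of a coordinate line
-/

set_option autoImplicit false

namespace Cfsg.Agent.JankoThree

open Matrix Cfsg.Spor
open Enum (allRange allRange_spec field)

universe u

variable {F : Type u} [Field F]

variable (F) in
/-- The hypotheses of the statements. -/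
structure Hyp (ω : F) [Fintype F] : Prop where
  card : Fintype.card F = 4
  root : ω ^ 2 + ω + 1 = 0

variable [Fintype F] {ω : F}

theorem Hyp.good (h : Hyp F ω) : Good ω := good_of_card ω h.card h.root

theorem field_lt (w v i : ℕ) : field w v i < 2 ^ w := by
  rw [show field w v i = (Nat.shiftRight v (i * w)) % 2 ^ w from Nat.and_two_pow_sub_one_eq_mod _ w]
  exact Nat.mod_lt _ (Nat.two_pow_pos w)

theorem hm_lt (i : ℕ) : Data.cert.hm i < 2 ^ 162 := field_lt _ _ _

theorem pt_lt (i : ℕ) : Data.cert.pt i < 2 ^ 18 := field_lt _ _ _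

theorem hOk_spec {i : ℕ} (hi : i < 2160) :
    isMin (Data.cert.hm i) = true ∧ (i + 1 < 2160 → Data.cert.hm i < Data.cert.hm (i + 1)) ∧
    (∀ g, g < 2 → ∃ j < 2160, peq (tmul (Data.cert.tab g) (Data.cert.hm i)) (Data.cert.hm j) = true) ∧
    ((Data.cert.hi i / 2 ^ 13) % 2 ^ 8 = 0 → i = Data.cert.hId) ∧
    ((Data.cert.hi i / 2 ^ 13) % 2 ^ 8 ≠ 0 → ∃ p g, p < 2160 ∧ g < 2 ∧
      (Data.cert.hi p / 2 ^ 13) % 2 ^ 8 < (Data.cert.hi i / 2 ^ 13) % 2 ^ 8 ∧
      peq (tmul (Data.cert.tab g) (Data.cert.hm p)) (Data.cert.hm i) = true) := by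
  have h := allRange_spec 32 0 2160 Data.hOk i (Nat.zero_le _) (by omega)
  simp only [Cert.hOk, Bool.and_eq_true, Bool.or_eq_true, Nat.blt, Nat.ble_eq] at h
  obtain ⟨⟨⟨⟨⟨⟨h1, h2⟩, h3⟩, h4⟩, h5⟩, h6⟩, h7⟩ := h
  refine ⟨h1, fun hlt => ?_, ?_, fun hr => ?_, fun hr => ?_⟩
  · rcases h2 with h2 | h2
    · have := Nat.eq_of_beq_eq_true h2; omega
    · omega
  · intro g hg
    interval_cases g
    · exact ⟨_, by omega, h4⟩
    · exact ⟨_, by omega, h6⟩
  · rw [hr] at h7
    exact Nat.eq_of_beq_eq_true h7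
  · have e : Nat.beq ((Data.cert.hi i / 2 ^ 13) % 2 ^ 8) 0 = false := by
      cases e : Nat.beq ((Data.cert.hi i / 2 ^ 13) % 2 ^ 8) 0 with
      | false => rfl
      | true => exact absurd (Nat.eq_of_beq_eq_true e) hr
    rw [e] at h7
    simp only [cond_false, Bool.and_eq_true, Nat.ble_eq] at h7
    exact ⟨_, _, by omega, Nat.mod_lt _ (by norm_num), by omega, h7.2⟩

theorem hId_lt : Data.cert.hId < 2160 := by
  have h := Data.baseOk
  simp only [Cert.baseOk, Bool.and_eq_true, Nat.blt, Nat.ble_eq] at h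
  omega

theorem hm_hId : Data.cert.hm Data.cert.hId = idCode := by
  have h := Data.baseOk
  simp only [Cert.baseOk, Bool.and_eq_true] at h
  exact Nat.eq_of_beq_eq_true h.1.1.1.1.2

theorem tNum_lt : Data.cert.tNum < 43 := by
  have h := Data.baseOk
  simp only [Cert.baseOk, Bool.and_eq_true, Nat.blt, Nat.ble_eq] at h
  omega

theorem t_tab : chkTab (Data.cert.tab 2) Data.cert.tCode = true := by
  have h := Data.baseOk
  simp only [Cert.baseOk, Bool.and_eq_true] at h
  exact h.1.1.2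

theorem hGen_spec {g : ℕ} (hg : g < 2) :
    at0 Data.cert.hGen g < 2160 ∧ chkTab (Data.cert.tab g) (Data.cert.hm (at0 Data.cert.hGen g)) = true ∧
    (∀ x ∈ (Data.cert.hWord[g]?).getD [], x < 43) ∧
    peq (wordCode Data.cert.gen ((Data.cert.hWord[g]?).getD [])) (Data.cert.hm (at0 Data.cert.hGen g)) = true ∧
    peq (app (Data.cert.hm (at0 Data.cert.hGen g)) 1) 1 = true := by
  have h := Data.baseOk
  simp only [Cert.baseOk, Bool.and_eq_true] at h
  have h' := allRange_spec 8 0 2 h.1.2 g (Nat.zero_le _) (by omega)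
  simp only [Bool.and_eq_true, List.all_eq_true, Nat.blt, Nat.ble_eq] at h'
  exact ⟨h'.1.1.1.1, h'.1.1.1.2, h'.1.1.2, h'.1.2, h'.2⟩

theorem kg_spec {g : ℕ} (hg : g < 3) :
    (Data.cert.kg g).1 < 2160 ∧ (Data.cert.kg g).2 < 2160 ∧ chkTab (Data.cert.ktab g) (Data.cert.hm (Data.cert.kg g).1) = true ∧
    peq (tmul (Data.cert.tab 2) (Data.cert.hm (Data.cert.kg g).1)) (mmul (Data.cert.hm (Data.cert.kg g).2) Data.cert.tCode) = true := by
  have h := Data.baseOk
  simp only [Cert.baseOk, Bool.and_eq_true] at h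
  have h' := allRange_spec 8 0 3 h.2 g (Nat.zero_le _) (by omega)
  simp only [Bool.and_eq_true, Nat.blt, Nat.ble_eq] at h'
  exact ⟨h'.1.1.1, h'.1.1.2, h'.1.2, h'.2⟩

theorem reps_spec {k : ℕ} (hk : k < 28) :
    0 < Data.cert.size k ∧ Data.cert.pt (Data.cert.start k) = Data.cert.y k ∧ peq (app (Data.cert.rep k) 1) (Data.cert.y k) = true ∧
    (k < 27 → Data.cert.start (k + 1) = Data.cert.start k + Data.cert.size k) ∧
    (k ≠ 0 → ∃ z, at0 Data.cert.repRoot k < 918 ∧ z = Data.cert.root (at0 Data.cert.repRoot k) ∧ z % 2 ^ 5 < k ∧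
      (z / 2 ^ 29) % 2 ^ 5 = k ∧ (z / 2 ^ 17) % 2 ^ 12 = Data.cert.hId ∧ (z / 2 ^ 34) % 2 ^ 12 = Data.cert.hId) := by
  have h := Data.repsOk
  simp only [Cert.repsOk, Bool.and_eq_true] at h
  have h' := allRange_spec 16 0 28 h.2 k (Nat.zero_le _) (by omega)
  simp only [Bool.and_eq_true, Bool.or_eq_true, Nat.blt, Nat.ble_eq] at h'
  obtain ⟨⟨⟨⟨⟨h1, h2⟩, h3⟩, _⟩, h5⟩, h6⟩ := h'
  refine ⟨h1, Nat.eq_of_beq_eq_true h2, h3, fun h27 => ?_, fun h0 => ?_⟩
  · rcases h5 with h5 | h5
    · exact absurd (Nat.eq_of_beq_eq_true h5) (by omega)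
    · exact Nat.eq_of_beq_eq_true h5
  · rcases h6 with h6 | h6
    · exact absurd (Nat.eq_of_beq_eq_true h6) h0
    · exact ⟨_, h6.1.1.1.1, rfl, h6.1.1.1.2, Nat.eq_of_beq_eq_true h6.1.1.2,
        Nat.eq_of_beq_eq_true h6.1.2, Nat.eq_of_beq_eq_true h6.2⟩

theorem reps_zero : Data.cert.rep 0 = idCode ∧ Data.cert.y 0 = 1 ∧ Data.cert.start 0 = 0 ∧ Data.cert.size 0 = 1 ∧
    Data.cert.start 27 + Data.cert.size 27 = 23256 := by
  have h := Data.repsOk
  simp only [Cert.repsOk, Bool.and_eq_true] at h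
  exact ⟨Nat.eq_of_beq_eq_true h.1.1.1.1.1, Nat.eq_of_beq_eq_true h.1.1.1.1.2,
    Nat.eq_of_beq_eq_true h.1.1.1.2, Nat.eq_of_beq_eq_true h.1.1.2, Nat.eq_of_beq_eq_true h.1.2⟩

theorem block_le {k : ℕ} (hk : k < 28) : Data.cert.start k + Data.cert.size k ≤ 23256 := by
  have key : ∀ d k, k + d = 27 → Data.cert.start k + Data.cert.size k ≤ 23256 := by
    intro d
    induction d with
    | zero =>
      intro k hk
      rw [show k = 27 by omega]
      exact reps_zero.2.2.2.2.le
    | succ d ih =>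
      intro k hk
      have h1 := ih (k + 1) (by omega)
      rw [(reps_spec (show k < 28 by omega)).2.2.2.1 (by omega)] at h1
      omega
  exact key (27 - k) k (by omega)

theorem exists_block {i : ℕ} (hi : i < 23256) :
    ∃ k < 28, Data.cert.start k ≤ i ∧ i < Data.cert.start k + Data.cert.size k := by
  have key : ∀ k, k < 28 → i < Data.cert.start k + Data.cert.size k →
      ∃ k < 28, Data.cert.start k ≤ i ∧ i < Data.cert.start k + Data.cert.size k := by
    intro k
    induction k with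
    | zero =>
      intro h0 h
      exact ⟨0, h0, by rw [reps_zero.2.2.1]; omega, h⟩
    | succ k ih =>
      intro h0 h
      rcases Nat.lt_or_ge i (Data.cert.start (k + 1)) with h' | h'
      · exact ih (by omega) (by rw [← (reps_spec (show k < 28 by omega)).2.2.2.1 (by omega)]; exact h')
      · exact ⟨k + 1, h0, h', h⟩
  exact key 27 (by omega) (by rw [reps_zero.2.2.2.2]; exact hi)

theorem start_pos {k : ℕ} (hk : k < 28) (h0 : k ≠ 0) : 0 < Data.cert.start k := by
  obtain ⟨j, rfl⟩ : ∃ j, k = j + 1 := ⟨k - 1, by omega⟩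
  rw [(reps_spec (show j < 28 by omega)).2.2.2.1 (by omega)]
  have := (reps_spec (show j < 28 by omega)).1
  omega

theorem pt_isMin {i : ℕ} (hi : i < 23256) : isMin (Data.cert.pt i) = true := by
  obtain ⟨k, hk, h1, h2⟩ := exists_block hi
  have h := allRange_spec 16 0 28 Data.blockOk k (Nat.zero_le _) (by omega)
  have h' := allRange_spec 32 (Data.cert.start k) (Data.cert.size k) h i h1 h2
  simp only [Cert.ptOk, Bool.and_eq_true] at h'
  exact h'.1

theorem pt_injective {i j : ℕ} (hi : i < 23256) (hj : j < 23256) (h : Data.cert.pt i = Data.cert.pt j) : i = j := by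
  have hs : ∀ a, a < 23256 → Data.cert.srt a < 23256 ∧
      (a + 1 < 23256 → Data.cert.pt (Data.cert.srt a) < Data.cert.pt (Data.cert.srt (a + 1))) := by
    intro a ha
    have h := allRange_spec 32 0 23256 Data.sortOk a (Nat.zero_le _) (by omega)
    simp only [Cert.sortOk, Bool.and_eq_true, Bool.or_eq_true, Nat.blt, Nat.ble_eq] at h
    refine ⟨h.1, fun hlt => ?_⟩
    rcases h.2 with h2 | h2
    · exact absurd (Nat.eq_of_beq_eq_true h2) (by omega)
    · omega
  have mono : ∀ d a, a + d < 23256 → 0 < d → Data.cert.pt (Data.cert.srt a) < Data.cert.pt (Data.cert.srt (a + d)) := by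
    intro d
    induction d with
    | zero => intro a _ h0; omega
    | succ d ih =>
      intro a ha _
      rcases Nat.eq_zero_or_pos d with rfl | hd
      · exact (hs a (by omega)).2 (by omega)
      · exact lt_trans (ih a (by omega) hd) ((hs (a + d) (by omega)).2 (by omega))
  let f : Fin 23256 → Fin 23256 := fun a => ⟨Data.cert.srt a, (hs a a.2).1⟩
  have hf : Function.Injective fun a => Data.cert.pt (f a).1 := by
    intro a b hab
    have hab' : Data.cert.pt (Data.cert.srt a) = Data.cert.pt (Data.cert.srt b) := hab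
    by_contra hne
    rcases Nat.lt_or_gt_of_ne (fun e => hne (Fin.ext e)) with h' | h'
    · have := mono (b.1 - a.1) a (by omega) (by omega)
      rw [show a.1 + (b.1 - a.1) = b.1 by omega, hab'] at this
      omega
    · have := mono (a.1 - b.1) b (by omega) (by omega)
      rw [show b.1 + (a.1 - b.1) = a.1 by omega, hab'] at this
      omega
  have hfs : Function.Surjective f :=
    Finite.injective_iff_surjective.mp fun a b e => hf (by show Data.cert.pt (f a).1 = Data.cert.pt (f b).1; rw [e])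
  obtain ⟨a, ha⟩ := hfs ⟨i, hi⟩
  obtain ⟨b, hb⟩ := hfs ⟨j, hj⟩
  have e : a = b := hf (by show Data.cert.pt (f a).1 = Data.cert.pt (f b).1; rw [ha, hb]; exact h)
  subst e
  rw [ha] at hb
  exact congrArg Fin.val hb

/-! ### The elements -/

variable (hy : Hyp F ω)

/-- The unit of a generator. -/
noncomputable def genU (i : ℕ) : GL F9 F :=
  if h : i < 43 then (exists_gen_unit hy.good h).choose else 1

include hy

theorem genU_mem (i : ℕ) : genU hy i ∈ threeJ3 F ω := by
  rw [genU]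
  split_ifs with h
  · exact (exists_gen_unit hy.good h).choose_spec.1
  · exact one_mem _

theorem genU_val {i : ℕ} (hi : i < 43) :
    (genU hy i : Matrix F9 F9 F) = mat ω (Data.cert.gen i) := by
  rw [genU, dif_pos hi]
  exact (exists_gen_unit hy.good hi).choose_spec.2

theorem genU_rep {i : ℕ} (hi : i < 43) : Rep ω (genU hy i) (Data.cert.gen i) :=
  ⟨1, one_ne_zero, by rw [genU_val hy hi, one_smul]⟩

theorem gens_genU {g : GL F9 F} (h : (g : Matrix F9 F9 F) ∈ j3Gens F ω) : ∃ i < 43, g = genU hy i := by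
  obtain ⟨i, hi, e⟩ := gens_are_codes hy.good h
  exact ⟨i, hi, Units.ext (e.trans (genU_val hy hi).symm)⟩

omit hy in
/-- The further generator. -/
noncomputable def tU (hy : Hyp F ω) : GL F9 F := genU hy Data.cert.tNum

theorem tU_rep : Rep ω (tU hy) Data.cert.tCode := genU_rep hy tNum_lt

theorem exists_word_rep : ∀ w : List ℕ, (∀ x ∈ w, x < 43) →
    ∃ g ∈ threeJ3 F ω, Rep ω g (wordCode Data.cert.gen w)
  | [], _ => ⟨1, one_mem _, rep_one hy.good⟩
  | x :: w, hw => by
    obtain ⟨g, hgm, hgr⟩ := exists_word_rep w fun y hy' => hw y (List.mem_cons_of_mem _ hy')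
    exact ⟨genU hy x * g, mul_mem (genU_mem hy x) hgm,
      (genU_rep hy (hw x List.mem_cons_self)).mul hy.good hgr⟩

theorem zs_le : Zs F ≤ threeJ3 F ω := by
  have h := Data.scalarOk
  simp only [Bool.or_eq_true] at h
  have key : ∀ a b, a < 43 → b < 43 →
      mmul (Data.cert.gen a) (Data.cert.gen b) = mulW (mmul (Data.cert.gen b) (Data.cert.gen a)) →
      ∃ z ∈ threeJ3 F ω, (z : Matrix F9 F9 F) = ω • 1 := by
    intro a b ha hb e
    refine ⟨genU hy a * genU hy b * (genU hy b * genU hy a)⁻¹,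
      mul_mem (mul_mem (genU_mem hy a) (genU_mem hy b))
        (inv_mem (mul_mem (genU_mem hy b) (genU_mem hy a))), ?_⟩
    have e1 : ((genU hy a * genU hy b : GL F9 F) : Matrix F9 F9 F) =
        ω • ((genU hy b * genU hy a : GL F9 F) : Matrix F9 F9 F) := by
      rw [Units.val_mul, Units.val_mul, genU_val hy ha, genU_val hy hb, ← mat_mmul hy.good, e,
        mat_mulW hy.good, mat_mmul hy.good]
    rw [Units.val_mul, e1, Matrix.smul_mul, ← Units.val_mul, mul_inv_cancel, Units.val_one]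
  obtain ⟨z, hz, hzv⟩ : ∃ z ∈ threeJ3 F ω, (z : Matrix F9 F9 F) = ω • 1 := by
    rcases h with h | h
    · exact key 3 21 (by norm_num) (by norm_num) (Nat.eq_of_beq_eq_true h)
    · exact key 21 3 (by norm_num) (by norm_num) (Nat.eq_of_beq_eq_true h)
  intro g hg
  obtain ⟨c, hc, e⟩ := mem_Zs.mp hg
  rcases nonzero_cases hy.card hy.good hc with rfl | rfl | rfl
  · have : g = 1 := Units.ext (by rw [e, one_smul, Units.val_one])
    rw [this]; exact one_mem _
  · rw [show g = z from Units.ext (e.trans hzv.symm)]; exact hz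
  · rw [show g = z * z from Units.ext (by rw [e, Units.val_mul, hzv]; simp [smul_smul])]
    exact mul_mem hz hz

omit hy in
variable (F ω) in
/-- The stabiliser of the first coordinate line. -/
def stabH : Subgroup (GL F9 F) :=
  Subgroup.closure ({g | ∃ i < 2, g ∈ threeJ3 F ω ∧ Rep ω g (Data.cert.hm (at0 Data.cert.hGen i))} ∪ (Zs F : Set (GL F9 F)))

theorem stabH_le : stabH F ω ≤ threeJ3 F ω := by
  rw [stabH, Subgroup.closure_le]
  rintro g (⟨i, _, hg, _⟩ | hg)
  · exact hg
  · exact zs_le hy hg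

omit hy in
theorem zs_le_stabH : Zs F ≤ stabH F ω := fun _ h => Subgroup.subset_closure (Or.inr h)

theorem mem_stabH_of_rep {g h : GL F9 F} {M : ℕ} (hh : h ∈ stabH F ω) (h1 : Rep ω h M)
    (h2 : Rep ω g M) : g ∈ stabH F ω := by
  obtain ⟨z, hz, rfl⟩ := h1.unique h2
  exact mul_mem (zs_le_stabH hz) hh

theorem exists_hel {i : ℕ} (hi : i < 2160) : ∃ g ∈ stabH F ω, Rep ω g (Data.cert.hm i) := by
  have key : ∀ r, ∀ i < 2160, (Data.cert.hi i / 2 ^ 13) % 2 ^ 8 = r →
      ∃ g ∈ stabH F ω, Rep ω g (Data.cert.hm i) := by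
    intro r
    induction r using Nat.strong_induction_on with
    | _ r ih =>
      intro i hi hr
      by_cases h0 : r = 0
      · refine ⟨1, one_mem _, ?_⟩
        rw [(hOk_spec hi).2.2.2.1 (hr.trans h0), hm_hId]
        exact rep_one hy.good
      · obtain ⟨p, g, hp, hg, hlt, he⟩ := (hOk_spec hi).2.2.2.2 (hr ▸ h0)
        obtain ⟨x, hx, hxr⟩ := ih _ (hr ▸ hlt) p hp rfl
        obtain ⟨s, hs, hsr⟩ := exists_word_rep hy _ (hGen_spec hg).2.2.1
        have hsr' := hsr.congr hy.good (hGen_spec hg).2.2.2.1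
        exact ⟨s * x, mul_mem (Subgroup.subset_closure (Or.inl ⟨g, hg, hs, hsr'⟩)) hx,
          (hsr'.tmul hy.good (hGen_spec hg).2.1 hxr).congr hy.good he⟩
  exact key _ i hi rfl

omit hy in
/-- The elements of the stabiliser. -/
noncomputable def hel (hy : Hyp F ω) (i : ℕ) : GL F9 F :=
  if h : i < 2160 then (exists_hel hy h).choose else 1

theorem hel_mem (i : ℕ) : hel hy i ∈ stabH F ω := by
  rw [hel]
  split_ifs with h
  · exact (exists_hel hy h).choose_spec.1
  · exact one_mem _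

theorem hel_rep {i : ℕ} (hi : i < 2160) : Rep ω (hel hy i) (Data.cert.hm i) := by
  rw [hel, dif_pos hi]
  exact (exists_hel hy hi).choose_spec.2

theorem stabH_rep {g : GL F9 F} (hg : g ∈ stabH F ω) : ∃ i < 2160, Rep ω g (Data.cert.hm i) := by
  refine closure_mem_of_mul_mem (U := {x | ∃ i < 2160, Rep ω x (Data.cert.hm i)}) ?_ ?_ hg
  · exact ⟨Data.cert.hId, hId_lt, by rw [hm_hId]; exact rep_one hy.good⟩
  · rintro s (⟨j, hj, _, hs⟩ | hs) x ⟨i, hi, hx⟩
    · obtain ⟨i', hi', he⟩ := (hOk_spec hi).2.2.1 j hj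
      exact ⟨i', hi', (hs.tmul hy.good (hGen_spec hj).2.1 hx).congr hy.good he⟩
    · exact ⟨i, hi, hx.zs_mul hs⟩

theorem hel_inj {i j : ℕ} (hi : i < 2160) (hj : j < 2160) {g : GL F9 F} (h1 : Rep ω g (Data.cert.hm i))
    (h2 : Rep ω g (Data.cert.hm j)) : i = j := by
  have e := h1.code_unique hy.good hy.card h2 (hm_lt i) (hm_lt j) (hOk_spec hi).1 (hOk_spec hj).1
  have mono : ∀ d a, a + d < 2160 → 0 < d → Data.cert.hm a < Data.cert.hm (a + d) := by
    intro d
    induction d with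
    | zero => intro a _ h0; omega
    | succ d ih =>
      intro a ha _
      rcases Nat.eq_zero_or_pos d with rfl | hd
      · exact (hOk_spec (i := a) (by omega)).2.1 (by omega)
      · exact lt_trans (ih a (by omega) hd) ((hOk_spec (i := a + d) (by omega)).2.1 (by omega))
  rcases Nat.lt_trichotomy i j with h | h | h
  · have := mono (j - i) i (by omega) (by omega)
    rw [show i + (j - i) = j by omega, e] at this
    omega
  · exact h
  · have := mono (i - j) j (by omega) (by omega)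
    rw [show j + (i - j) = i by omega, e] at this
    omega

theorem card_stabH : Nat.card (stabH F ω) = 6480 := by
  let f : Zs F × Fin 2160 → stabH F ω := fun p =>
    ⟨p.1.1 * hel hy p.2, mul_mem (zs_le_stabH p.1.2) (hel_mem hy _)⟩
  have hf : Function.Bijective f := by
    refine ⟨?_, ?_⟩
    · rintro ⟨z, i⟩ ⟨z', i'⟩ h
      have h' : (z : GL F9 F) * hel hy i = z' * hel hy i' := congrArg Subtype.val h
      have hi : i = i' := by
        refine Fin.ext (hel_inj hy i.2 i'.2 ((hel_rep hy i.2).zs_mul z.2) ?_)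
        rw [h']
        exact (hel_rep hy i'.2).zs_mul z'.2
      subst hi
      rw [mul_right_cancel_iff] at h'
      rw [Subtype.ext h']
    · rintro ⟨g, hg⟩
      obtain ⟨i, hi, hr⟩ := stabH_rep hy hg
      obtain ⟨z, hz, e⟩ := (hel_rep hy hi).unique hr
      exact ⟨(⟨z, hz⟩, ⟨i, hi⟩), Subtype.ext e.symm⟩
  rw [← Nat.card_congr (Equiv.ofBijective f hf), Nat.card_prod, card_Zs hy.card, Nat.card_fin]

theorem stabH_fix {g : GL F9 F} (hg : g ∈ stabH F ω) : Maps ω g 1 1 := by
  rw [stabH] at hg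
  induction hg using Subgroup.closure_induction with
  | mem x hx =>
    rcases hx with ⟨j, hj, _, hs⟩ | hx
    · exact hs.maps hy.good (hGen_spec hj).2.2.2.2
    · exact maps_zs hx 1
  | one => exact maps_one 1
  | mul x y _ _ ihx ihy => exact ihy.comp ihx
  | inv x _ ih => exact ih.symm

/-! ### Double coset representatives -/

theorem rootOk_spec {i : ℕ} (hi : i < 918) :
    Data.cert.root i % 2 ^ 5 < 28 ∧ (Data.cert.root i / 2 ^ 5) % 2 ^ 12 < 2160 ∧
    (Data.cert.root i / 2 ^ 17) % 2 ^ 12 < 2160 ∧ (Data.cert.root i / 2 ^ 29) % 2 ^ 5 < 28 ∧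
    (Data.cert.root i / 2 ^ 34) % 2 ^ 12 < 2160 ∧
    peq (tmul (Data.cert.tab 2) (mmul (Data.cert.hm ((Data.cert.root i / 2 ^ 5) % 2 ^ 12)) (Data.cert.rep (Data.cert.root i % 2 ^ 5))))
      (mmul (Data.cert.hm ((Data.cert.root i / 2 ^ 17) % 2 ^ 12))
        (mmul (Data.cert.rep ((Data.cert.root i / 2 ^ 29) % 2 ^ 5)) (Data.cert.hm ((Data.cert.root i / 2 ^ 34) % 2 ^ 12)))) = true := by
  have h := allRange_spec 32 0 918 Data.rootOk i (Nat.zero_le _) (by omega)
  simp only [Cert.rootOk, Bool.and_eq_true, Nat.blt, Nat.ble_eq] at h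
  exact ⟨h.1.1.1.1.1, h.1.1.1.1.2, h.1.1.1.2, h.1.1.2, h.1.2, h.2⟩

theorem mat_id_mid (k : ℕ) : mat ω (mmul idCode (mmul (Data.cert.rep k) idCode)) = mat ω (Data.cert.rep k) := by
  rw [mat_mmul hy.good, mat_mmul hy.good, mat_idCode, one_mul, mul_one]

omit hy in
/-- The group generated by the stabiliser and the further generator. -/
noncomputable def genP (hy : Hyp F ω) : Subgroup (GL F9 F) :=
  Subgroup.closure ((stabH F ω : Set (GL F9 F)) ∪ {tU hy})

theorem exists_dEl {k : ℕ} (hk : k < 28) :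
    ∃ g ∈ genP hy, Rep ω g (Data.cert.rep k) ∧ (k = 0 → g = 1) := by
  induction k using Nat.strong_induction_on with
  | _ k ih =>
    by_cases h0 : k = 0
    · subst h0
      exact ⟨1, one_mem _, by rw [reps_zero.1]; exact rep_one hy.good, fun _ => rfl⟩
    · obtain ⟨z, hz, rfl, hlt, hj, ha, hb⟩ := (reps_spec hk).2.2.2.2 h0
      obtain ⟨g, hgm, hgr, -⟩ := ih _ hlt (by omega)
      obtain ⟨-, hr, -, -, -, he⟩ := rootOk_spec hy hz
      rw [ha, hb, hj, hm_hId] at he
      exact ⟨tU hy * (hel hy ((Data.cert.root (at0 Data.cert.repRoot k) / 2 ^ 5) % 2 ^ 12) * g),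
        mul_mem (Subgroup.subset_closure (Or.inr rfl))
          (mul_mem (Subgroup.subset_closure (Or.inl (hel_mem hy _))) hgm),
        (((tU_rep hy).tmul hy.good t_tab ((hel_rep hy hr).mul hy.good hgr)).congr hy.good he).of_mat
          (mat_id_mid hy k), fun h => absurd h h0⟩

omit hy in
/-- The representatives of the double cosets. -/
noncomputable def dEl (hy : Hyp F ω) (k : ℕ) : GL F9 F :=
  if h : k < 28 then (exists_dEl hy h).choose else 1

theorem dEl_mem (k : ℕ) : dEl hy k ∈ genP hy := by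
  rw [dEl]
  split_ifs with h
  · exact (exists_dEl hy h).choose_spec.1
  · exact one_mem _

theorem dEl_rep {k : ℕ} (hk : k < 28) : Rep ω (dEl hy k) (Data.cert.rep k) := by
  rw [dEl, dif_pos hk]
  exact (exists_dEl hy hk).choose_spec.2.1

theorem dEl_zero : dEl hy 0 = 1 := by
  rw [dEl, dif_pos (by norm_num)]
  exact (exists_dEl hy (by norm_num : 0 < 28)).choose_spec.2.2 rfl

theorem dEl_maps {k : ℕ} (hk : k < 28) : Maps ω (dEl hy k) 1 (Data.cert.y k) :=
  (dEl_rep hy hk).maps hy.good (reps_spec hk).2.2.1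

omit hy in
/-- The union of the listed double cosets. -/
def inU (hy : Hyp F ω) (g : GL F9 F) : Prop :=
  ∃ a ∈ stabH F ω, ∃ k < 28, ∃ b ∈ stabH F ω, g = a * dEl hy k * b

theorem inU_of_rep {g : GL F9 F} {a j b : ℕ} (ha : a < 2160) (hj : j < 28) (hb : b < 2160)
    (h : Rep ω g (mmul (Data.cert.hm a) (mmul (Data.cert.rep j) (Data.cert.hm b)))) : inU hy g := by
  obtain ⟨z, hz, e⟩ :=
    ((hel_rep hy ha).mul hy.good ((dEl_rep hy hj).mul hy.good (hel_rep hy hb))).unique h
  refine ⟨z * hel hy a, mul_mem (zs_le_stabH hz) (hel_mem hy a), j, hj, hel hy b, hel_mem hy b, ?_⟩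
  rw [e]; group

omit hy in
/-- Elements of the stabiliser conjugated into it by the further generator. -/
def inK (hy : Hyp F ω) (g : GL F9 F) : Prop :=
  g ∈ stabH F ω ∧ ∃ g' ∈ stabH F ω, tU hy * g = g' * tU hy

theorem inK_kg {g : ℕ} (hg : g < 3) : inK hy (hel hy (Data.cert.kg g).1) := by
  obtain ⟨h1, h2, -, he⟩ := kg_spec hg
  refine ⟨hel_mem hy _, ?_⟩
  obtain ⟨z, hz, e⟩ := ((hel_rep hy h2).mul hy.good (tU_rep hy)).unique
    (((tU_rep hy).tmul hy.good t_tab (hel_rep hy h1)).congr hy.good he)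
  exact ⟨z * hel hy (Data.cert.kg g).2, mul_mem (zs_le_stabH hz) (hel_mem hy _), by rw [e, mul_assoc]⟩

theorem point_spec {k : ℕ} (hk : k < 28) {i : ℕ} (h1 : Data.cert.start k ≤ i)
    (h2 : i < Data.cert.start k + Data.cert.size k) :
    ∃ κ, inK hy κ ∧ ∃ r ∈ stabH F ω, inU hy (tU hy * r * dEl hy k) ∧
      Maps ω (κ * r) (Data.cert.y k) (Data.cert.pt i) := by
  induction i using Nat.strong_induction_on with
  | _ i ih =>
    have h := allRange_spec 32 (Data.cert.start k) (Data.cert.size k)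
      (allRange_spec 16 0 28 Data.blockOk k (Nat.zero_le _) (by omega)) i h1 h2
    simp only [Cert.ptOk, Bool.and_eq_true] at h
    have h' := h.2
    cases e3 : Nat.beq (Data.cert.fe i % 4) 3 with
    | true =>
      rw [e3] at h'
      simp only [cond_true, Bool.and_eq_true, Nat.blt, Nat.ble_eq] at h'
      obtain ⟨⟨hz, hzk⟩, hap⟩ := h'
      obtain ⟨-, hr, ha, hj, hb, he⟩ := rootOk_spec hy (show Data.cert.fe i / 4 < 918 by omega)
      rw [Nat.eq_of_beq_eq_true hzk] at he
      refine ⟨1, ⟨one_mem _, 1, one_mem _, by group⟩, _, hel_mem hy _, ?_,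
        by rw [one_mul]; exact (hel_rep hy hr).maps hy.good hap⟩
      refine inU_of_rep hy ha hj hb ?_
      rw [mul_assoc]
      exact ((tU_rep hy).tmul hy.good t_tab ((hel_rep hy hr).mul hy.good (dEl_rep hy hk))).congr
        hy.good he
    | false =>
      rw [e3] at h'
      simp only [cond_false, Bool.and_eq_true, Nat.blt, Nat.ble_eq] at h'
      obtain ⟨⟨hp1, hp2⟩, hap⟩ := h'
      have hne : Data.cert.fe i % 4 ≠ 3 := fun e => by rw [e] at e3; exact Bool.noConfusion e3
      have hg : Data.cert.fe i % 4 < 3 := by omega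
      obtain ⟨κ, ⟨hκ, κ', hκ', eκ⟩, r, hr, hu, hm⟩ := ih _ (by omega) hp1 (by omega)
      obtain ⟨hH, g', hg', eg⟩ := inK_kg hy hg
      obtain ⟨hk1, -, hkt, -⟩ := kg_spec hg
      refine ⟨hel hy (Data.cert.kg (Data.cert.fe i % 4)).1 * κ, ⟨mul_mem hH hκ, g' * κ', mul_mem hg' hκ', ?_⟩,
        r, hr, hu, ?_⟩
      · rw [← mul_assoc, eg, mul_assoc, eκ, mul_assoc]
      · rw [mul_assoc]
        exact hm.comp ((hel_rep hy hk1).maps_tab hy.good hkt (pt_lt _) hap)

theorem cover {k : ℕ} (hk : k < 28) {h : GL F9 F} (hh : h ∈ stabH F ω) :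
    ∃ i, Data.cert.start k ≤ i ∧ i < Data.cert.start k + Data.cert.size k ∧ Maps ω h (Data.cert.y k) (Data.cert.pt i) ∧
      ∃ κ, inK hy κ ∧ ∃ r ∈ stabH F ω, inU hy (tU hy * r * dEl hy k) ∧
        ∃ h' ∈ stabH F ω, h * dEl hy k = κ * r * dEl hy k * h' := by
  by_cases h0 : k = 0
  · subst h0
    obtain ⟨-, hy0, hs, hz, -⟩ := reps_zero
    obtain ⟨κ, hκ, r, hr, hu, hm⟩ := point_spec hy hk (le_refl (Data.cert.start 0)) (by omega)
    refine ⟨Data.cert.start 0, le_rfl, by omega, ?_, κ, hκ, r, hr, hu, (κ * r)⁻¹ * h,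
      mul_mem (inv_mem (mul_mem hκ.1 hr)) hh, ?_⟩
    · rw [(reps_spec hk).2.1, hy0]; exact stabH_fix hy hh
    · rw [dEl_zero]; group
  have hsOk := allRange_spec 16 0 28 Data.stabOk k (Nat.zero_le _) (by omega)
  simp only [Cert.stabOk, Bool.or_eq_true, Bool.and_eq_true, List.all_eq_true, Nat.blt,
    Nat.ble_eq] at hsOk
  rcases hsOk with hsOk | ⟨⟨hlen, hinc⟩, hall⟩
  · exact absurd (Nat.eq_of_beq_eq_true hsOk) h0
  generalize hl : (Data.cert.stabs[k]?).getD [] = l at hlen hinc hall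
  have hlen' := Nat.eq_of_beq_eq_true hlen
  let S : Set (GL F9 F) := {s | s ∈ stabH F ω ∧ Maps ω s (Data.cert.y k) (Data.cert.y k)}
  have hpt : ∀ a : Fin (Data.cert.size k), ∃ κ, inK hy κ ∧ ∃ r ∈ stabH F ω,
      inU hy (tU hy * r * dEl hy k) ∧ Maps ω (κ * r) (Data.cert.y k) (Data.cert.pt (Data.cert.start k + a.1)) :=
    fun a => point_spec hy hk (Nat.le_add_right _ _) (by omega)
  choose κ hκ r hr hu hm using hpt
  let f : Fin (Data.cert.size k) × S → stabH F ω := fun p =>
    ⟨κ p.1 * r p.1 * p.2.1, mul_mem (mul_mem (hκ p.1).1 (hr p.1)) p.2.2.1⟩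
  have hb := block_le hk
  have hf : Function.Injective f := by
    rintro ⟨a, s⟩ ⟨b, s'⟩ h
    have h' : κ a * r a * (s : GL F9 F) = κ b * r b * s' := congrArg Subtype.val h
    have ha := s.2.2.comp (hm a)
    have hb' := s'.2.2.comp (hm b)
    rw [h'] at ha
    have hab : a = b := Fin.ext (Nat.add_left_cancel (pt_injective (by omega) (by omega)
      (ha.unique hy.good hy.card hb' (pt_lt _) (pt_lt _) (pt_isMin (by omega)) (pt_isMin (by omega)))))
    subst hab
    rw [Subtype.ext (mul_left_cancel h')]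
  have hsort : ∀ l : List (ℕ × ℕ), Cert.incr l = true → l.Pairwise (fun p q => p.1 < q.1) := by
    intro l
    induction l with
    | nil => simp
    | cons p l ih =>
      intro h
      cases l with
      | nil => simp
      | cons q l =>
        simp only [Cert.incr, Bool.and_eq_true, Nat.blt, Nat.ble_eq] at h
        have hp := ih h.2
        refine List.pairwise_cons.mpr ⟨fun x hx => ?_, hp⟩
        rcases List.mem_cons.mp hx with rfl | hx
        · omega
        · exact lt_trans (show p.1 < q.1 by omega) ((List.pairwise_cons.mp hp).1 x hx)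
  let φ : Zs F × Fin l.length → S := fun p =>
    ⟨p.1.1 * hel hy l[p.2].1, mul_mem (zs_le_stabH p.1.2) (hel_mem hy _),
      (((hel_rep hy (hall _ (List.getElem_mem p.2.2)).1.1.1).maps hy.good
        (hall _ (List.getElem_mem p.2.2)).1.2)).comp (maps_zs p.1.2 _)⟩
  have hφ : Function.Injective φ := by
    rintro ⟨z, i⟩ ⟨z', j⟩ h
    have h' : (z : GL F9 F) * hel hy l[i.1].1 = z' * hel hy l[j.1].1 := congrArg Subtype.val h
    have hij : (l[i.1].1 : ℕ) = l[j.1].1 := by
      refine hel_inj hy (hall _ (List.getElem_mem i.2)).1.1.1 (hall _ (List.getElem_mem j.2)).1.1.1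
        ((hel_rep hy (hall _ (List.getElem_mem i.2)).1.1.1).zs_mul z.2) ?_
      rw [h']
      exact (hel_rep hy (hall _ (List.getElem_mem j.2)).1.1.1).zs_mul z'.2
    have hij' : i = j := by
      have hp := List.pairwise_iff_getElem.mp (hsort l hinc)
      rcases Nat.lt_trichotomy i.1 j.1 with h1 | h1 | h1
      · exact absurd hij (Nat.ne_of_lt (hp i.1 j.1 i.2 j.2 h1))
      · exact Fin.ext h1
      · exact absurd hij.symm (Nat.ne_of_lt (hp j.1 i.1 j.2 i.2 h1))
    subst hij'
    rw [mul_right_cancel_iff] at h'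
    rw [Subtype.ext h']
  have c1 := Nat.card_le_card_of_injective f hf
  have c2 := Nat.card_le_card_of_injective φ hφ
  rw [Nat.card_prod, card_Zs hy.card, Nat.card_fin] at c2
  rw [card_stabH hy, Nat.card_prod, Nat.card_fin] at c1
  have hsz := (reps_spec hk).1
  have c3 : Nat.card S ≤ 3 * l.length := Nat.le_of_mul_le_mul_left
    (by calc Data.cert.size k * Nat.card S ≤ 6480 := c1
      _ = Data.cert.size k * (3 * l.length) := by
        rw [show Data.cert.size k * (3 * l.length) = 3 * (l.length * Data.cert.size k) by ring, hlen']) hsz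
  have cS : Nat.card S = 3 * l.length := le_antisymm c3 c2
  have hfb : Function.Bijective f := by
    refine hf.bijective_of_nat_card_le ?_
    rw [card_stabH hy, Nat.card_prod, Nat.card_fin, cS,
      show Data.cert.size k * (3 * l.length) = 3 * (l.length * Data.cert.size k) by ring, hlen']
  have hφb : Function.Bijective φ := by
    refine hφ.bijective_of_nat_card_le ?_
    rw [Nat.card_prod, card_Zs hy.card, Nat.card_fin, cS]
  obtain ⟨⟨a, s⟩, hs⟩ := hfb.2 ⟨h, hh⟩
  have hs' : κ a * r a * (s : GL F9 F) = h := congrArg Subtype.val hs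
  obtain ⟨⟨z, q⟩, hq⟩ := hφb.2 s
  have hq' : (z : GL F9 F) * hel hy l[q.1].1 = s := congrArg Subtype.val hq
  obtain ⟨⟨⟨hq1, hq2⟩, -⟩, hqe⟩ := hall _ (List.getElem_mem q.2)
  obtain ⟨z', hz', ez⟩ := ((dEl_rep hy hk).mul hy.good (hel_rep hy hq2)).unique
    (((hel_rep hy hq1).mul hy.good (dEl_rep hy hk)).congr hy.good hqe)
  refine ⟨Data.cert.start k + a.1, Nat.le_add_right _ _, by omega, hs' ▸ s.2.2.comp (hm a), κ a, hκ a, r a,
    hr a, hu a, z.1 * z' * hel hy l[q.1].2,
    mul_mem (mul_mem (zs_le_stabH z.2) (zs_le_stabH hz')) (hel_mem hy _), ?_⟩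
  calc h * dEl hy k = κ a * r a * ((z : GL F9 F) * (hel hy l[q.1].1 * dEl hy k)) := by
        rw [← hs', ← hq']; group
    _ = κ a * r a * (((z : GL F9 F) * z') * (dEl hy k * hel hy l[q.1].2)) := by
        rw [ez, mul_assoc (z : GL F9 F) z' (dEl hy k * hel hy l[q.1].2)]
    _ = κ a * r a * (dEl hy k * ((z : GL F9 F) * z') * hel hy l[q.1].2) := by
        rw [← mul_assoc ((z : GL F9 F) * z') (dEl hy k),
          Zs_comm (mul_mem z.2 hz') (dEl hy k)]
    _ = _ := by group

theorem inU_stab_mul {g : GL F9 F} {a : GL F9 F} (ha : a ∈ stabH F ω) (h : inU hy g) :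
    inU hy (a * g) := by
  obtain ⟨a', ha', k, hk, b, hb, rfl⟩ := h
  exact ⟨a * a', mul_mem ha ha', k, hk, b, hb, by group⟩

theorem inU_t_mul {g : GL F9 F} (h : inU hy g) : inU hy (tU hy * g) := by
  obtain ⟨a, ha, k, hk, b, hb, rfl⟩ := h
  obtain ⟨i, -, -, -, κ, ⟨-, κ', hκ', eκ⟩, r, -, hu, h', hh', e⟩ := cover hy hk ha
  obtain ⟨a', ha', k', hk', b', hb', eu⟩ := hu
  refine ⟨κ' * a', mul_mem hκ' ha', k', hk', b' * h' * b, mul_mem (mul_mem hb' hh') hb, ?_⟩
  calc tU hy * (a * dEl hy k * b) = tU hy * κ * r * dEl hy k * h' * b := by rw [e]; group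
    _ = κ' * (tU hy * r * dEl hy k) * h' * b := by rw [eκ]; group
    _ = _ := by rw [eu]; group

theorem inU_of_genP {g : GL F9 F} (hg : g ∈ genP hy) : inU hy g := by
  refine closure_mem_of_mul_mem (U := {x | inU hy x}) ?_ ?_ hg
  · exact ⟨1, one_mem _, 0, by norm_num, 1, one_mem _, by rw [dEl_zero]; group⟩
  · rintro s (hs | hs) x hx
    · exact inU_stab_mul hy hs hx
    · rw [Set.mem_singleton_iff.mp hs]; exact inU_t_mul hy hx

theorem genP_eq : genP hy = threeJ3 F ω := by
  apply le_antisymm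
  · rw [genP, Subgroup.closure_le]
    rintro g (hg | hg)
    · exact stabH_le hy hg
    · rw [Set.mem_singleton_iff.mp hg]; exact genU_mem hy _
  · rw [threeJ3, Subgroup.closure_le]
    intro g hg
    obtain ⟨i, hi, rfl⟩ := gens_genU hy hg
    have h := allRange_spec 16 0 43 Data.genDecOk i (Nat.zero_le _) (by omega)
    simp only [Cert.genDecOk, Bool.and_eq_true, Nat.blt, Nat.ble_eq] at h
    obtain ⟨a, ha, k, -, b, hb, e⟩ :=
      inU_of_rep hy h.1.1.1 h.1.1.2 h.1.2 ((genU_rep hy hi).congr hy.good h.2)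
    rw [e]
    exact mul_mem (mul_mem (Subgroup.subset_closure (Or.inl ha)) (dEl_mem hy k))
      (Subgroup.subset_closure (Or.inl hb))

theorem inU_of_mem {g : GL F9 F} (hg : g ∈ threeJ3 F ω) : inU hy g :=
  inU_of_genP hy (genP_eq hy ▸ hg)

theorem dEl_mem_J {k : ℕ} : dEl hy k ∈ threeJ3 F ω := genP_eq hy ▸ dEl_mem hy k

theorem orbit_mem {g : GL F9 F} (hg : g ∈ threeJ3 F ω) : ∃ i < 23256, Maps ω g 1 (Data.cert.pt i) := by
  obtain ⟨a, ha, k, hk, b, hb, rfl⟩ := inU_of_mem hy hg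
  obtain ⟨i, -, hi, hm, -⟩ := cover hy hk ha
  exact ⟨i, lt_of_lt_of_le hi (block_le hk), ((stabH_fix hy hb).comp (dEl_maps hy hk)).comp hm |>
    fun e => by rwa [← mul_assoc] at e⟩

theorem exists_orbit {i : ℕ} (hi : i < 23256) : ∃ g ∈ threeJ3 F ω, Maps ω g 1 (Data.cert.pt i) := by
  obtain ⟨k, hk, h1, h2⟩ := exists_block hi
  obtain ⟨κ, hκ, r, hr, -, hm⟩ := point_spec hy hk h1 h2
  exact ⟨κ * r * dEl hy k, mul_mem (mul_mem (stabH_le hy hκ.1) (stabH_le hy hr)) (dEl_mem_J hy),
    (dEl_maps hy hk).comp hm⟩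

theorem mem_stabH_of_fix {g : GL F9 F} (hg : g ∈ threeJ3 F ω) (h : Maps ω g 1 1) :
    g ∈ stabH F ω := by
  obtain ⟨a, ha, k, hk, b, hb, rfl⟩ := inU_of_mem hy hg
  obtain ⟨i, hi1, hi2, hm, -⟩ := cover hy hk ha
  have h' : Maps ω (a * dEl hy k * b) 1 (Data.cert.pt i) := by
    rw [mul_assoc]; exact ((stabH_fix hy hb).comp (dEl_maps hy hk)).comp hm
  have hb' := block_le hk
  have h1 : Data.cert.pt 0 = 1 := by
    have := (reps_spec (show 0 < 28 by norm_num)).2.1
    rwa [reps_zero.2.2.1, reps_zero.2.1] at this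
  have e := h.unique hy.good hy.card h' (by norm_num) (pt_lt _) (h1 ▸ pt_isMin (by norm_num))
    (pt_isMin (by omega))
  have hi0 : 0 = i := pt_injective (by norm_num) (by omega) (h1.trans e)
  have hk0 : k = 0 := by
    by_contra hk0
    have := start_pos hk hk0
    omega
  subst hk0
  rw [dEl_zero, mul_one]
  exact mul_mem ha hb

theorem card_threeJ3 : Nat.card (threeJ3 F ω) = 150698880 := by
  have hx : ∀ i : Fin 23256, ∃ g ∈ threeJ3 F ω, Maps ω g 1 (Data.cert.pt i) := fun i => exists_orbit hy i.2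
  choose g hgm hgp using hx
  let f : Fin 23256 × stabH F ω → threeJ3 F ω := fun p =>
    ⟨g p.1 * p.2.1, mul_mem (hgm p.1) (stabH_le hy p.2.2)⟩
  have hf : Function.Bijective f := by
    refine ⟨?_, ?_⟩
    · rintro ⟨i, h⟩ ⟨j, h'⟩ e
      have e' : g i * (h : GL F9 F) = g j * h' := congrArg Subtype.val e
      have m1 := (stabH_fix hy h.2).comp (hgp i)
      have m2 := (stabH_fix hy h'.2).comp (hgp j)
      rw [e'] at m1
      have hij : i = j := Fin.ext (pt_injective i.2 j.2
        (m1.unique hy.good hy.card m2 (pt_lt _) (pt_lt _) (pt_isMin i.2) (pt_isMin j.2)))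
      subst hij
      rw [Subtype.ext (mul_left_cancel e')]
    · rintro ⟨x, hx⟩
      obtain ⟨i, hi, hm⟩ := orbit_mem hy hx
      have : (g ⟨i, hi⟩)⁻¹ * x ∈ stabH F ω :=
        mem_stabH_of_fix hy (mul_mem (inv_mem (hgm _)) hx) (hm.comp (hgp ⟨i, hi⟩).symm)
      exact ⟨(⟨i, hi⟩, ⟨_, this⟩), Subtype.ext (by simp [f])⟩
  rw [← Nat.card_congr (Equiv.ofBijective f hf), Nat.card_prod, Nat.card_fin, card_stabH hy]

end Cfsg.Agent.JankoThree
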