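import Cfsg.Agent.Lib.JankoThree.SubData

/-! Kernel check of a quarter of the list of the subgroup of order 8160. -/

set_option autoImplicit false

namespace Cfsg.Agent.JankoThree.SubData

open Enum (allRange)

theorem lOk3 : allRange lOk 32 6120 2040 = true := by decide +kernel

end Cfsg.Agent.JankoThree.SubData
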