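import Cfsg.Agent.Lib.JankoThree.Simple
import Cfsg.Agent.Lib.JankoThree.SubCheck0
import Cfsg.Agent.Lib.JankoThree.SubCheck1
import Cfsg.Agent.Lib.JankoThree.SubCheck2
import Cfsg.Agent.Lib.JankoThree.SubCheck3

/-!
# A subgroup of order 8160 of J₃, of index 6156
-/

set_option autoImplicit false

namespace Cfsg.Agent.JankoThree

open Matrix Cfsg.Spor
open Enum (allRange allRange_spec)
open SubData

universe u

theorem lm_lt (i : ℕ) : lm i < 2 ^ 162 := field_lt _ _ _

theorem subBase :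
    (Nat.blt lId 8160 && Nat.beq (lm lId) idCode &&
      allRange (fun g => Nat.blt (at0 lGen g) 8160 && chkTab (ltab g) (lm (at0 lGen g)) &&
        ((lWord[g]?).getD []).all (fun x => Nat.blt x 43) &&
        peq (wordCode Data.cert.gen ((lWord[g]?).getD [])) (lm (at0 lGen g))) 8 0 2) = true := by
  decide +kernel

theorem lId_lt : lId < 8160 := by
  have h := subBase
  simp only [Bool.and_eq_true, Nat.blt, Nat.ble_eq] at h
  omega

theorem lm_lId : lm lId = idCode := by
  have h := subBase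
  simp only [Bool.and_eq_true] at h
  exact Nat.eq_of_beq_eq_true h.1.2

theorem lGen_spec {g : ℕ} (hg : g < 2) :
    at0 lGen g < 8160 ∧ chkTab (ltab g) (lm (at0 lGen g)) = true ∧
    (∀ x ∈ (lWord[g]?).getD [], x < 43) ∧
    peq (wordCode Data.cert.gen ((lWord[g]?).getD [])) (lm (at0 lGen g)) = true := by
  have h := subBase
  simp only [Bool.and_eq_true] at h
  have h' := allRange_spec 8 0 2 h.2 g (Nat.zero_le _) (by omega)
  simp only [Bool.and_eq_true, List.all_eq_true, Nat.blt, Nat.ble_eq] at h'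
  exact ⟨h'.1.1.1, h'.1.1.2, h'.1.2, h'.2⟩

theorem lOk_all {i : ℕ} (hi : i < 8160) : lOk i = true := by
  rcases Nat.lt_or_ge i 2040 with h | h
  · exact allRange_spec 32 0 2040 lOk0 i (Nat.zero_le _) (by omega)
  rcases Nat.lt_or_ge i 4080 with h' | h'
  · exact allRange_spec 32 2040 2040 lOk1 i h (by omega)
  rcases Nat.lt_or_ge i 6120 with h'' | h''
  · exact allRange_spec 32 4080 2040 lOk2 i h' (by omega)
  exact allRange_spec 32 6120 2040 lOk3 i h'' (by omega)

theorem lOk_spec {i : ℕ} (hi : i < 8160) :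
    isMin (lm i) = true ∧ (i + 1 < 8160 → lm i < lm (i + 1)) ∧
    (∀ g, g < 2 → ∃ j < 8160, peq (tmul (ltab g) (lm i)) (lm j) = true) ∧
    (lrk i = 0 → i = lId) ∧
    (lrk i ≠ 0 → ∃ p g, p < 8160 ∧ g < 2 ∧ lrk p < lrk i ∧
      peq (tmul (ltab g) (lm p)) (lm i) = true) := by
  have h := lOk_all hi
  simp only [lOk, Bool.and_eq_true, Bool.or_eq_true, Nat.blt, Nat.ble_eq] at h
  obtain ⟨⟨⟨⟨⟨⟨h1, h2⟩, h3⟩, h4⟩, h5⟩, h6⟩, h7⟩ := h
  refine ⟨h1, fun hlt => ?_, ?_, fun hr => ?_, fun hr => ?_⟩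
  · rcases h2 with h2 | h2
    · have := Nat.eq_of_beq_eq_true h2; omega
    · omega
  · intro g hg
    interval_cases g
    · exact ⟨_, by omega, h4⟩
    · exact ⟨_, by omega, h6⟩
  · rw [hr] at h7
    exact Nat.eq_of_beq_eq_true h7
  · have e : Nat.beq (lrk i) 0 = false := by
      cases e : Nat.beq (lrk i) 0 with
      | false => rfl
      | true => exact absurd (Nat.eq_of_beq_eq_true e) hr
    rw [e] at h7
    simp only [cond_false, Bool.and_eq_true, Nat.ble_eq] at h7
    exact ⟨_, _, by omega, Nat.mod_lt _ (by norm_num), by omega, h7.2⟩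

theorem lm_mono {i j : ℕ} (hij : i < j) (hj : j < 8160) : lm i < lm j := by
  induction j with
  | zero => omega
  | succ j ih =>
    rcases Nat.lt_or_ge i j with h | h
    · exact lt_trans (ih h (by omega)) ((lOk_spec (by omega)).2.1 hj)
    · rw [show i = j by omega]
      exact (lOk_spec (by omega)).2.1 hj

variable {F : Type u} [Field F] [Fintype F] {ω : F} (hy : Hyp F ω)

/-- The product of a word in the generators. -/
noncomputable def wordU (w : List ℕ) : GL F9 F := (w.map (genU hy)).prod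

include hy

theorem wordU_mem (w : List ℕ) : wordU hy w ∈ threeJ3 F ω :=
  list_prod_mem fun x hx => by
    obtain ⟨i, -, rfl⟩ := List.mem_map.mp hx
    exact genU_mem hy i

theorem wordU_rep : ∀ w : List ℕ, (∀ x ∈ w, x < 43) →
    Rep ω (wordU hy w) (wordCode Data.cert.gen w)
  | [], _ => by
    rw [wordU, List.map_nil, List.prod_nil]
    exact rep_one hy.good
  | x :: w, hw => by
    rw [wordU, List.map_cons, List.prod_cons]
    exact (genU_rep hy (hw x List.mem_cons_self)).mul hy.good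
      (wordU_rep w fun y hy' => hw y (List.mem_cons_of_mem _ hy'))

omit hy in
/-- The generator `g` of the subgroup. -/
noncomputable def lU (hy : Hyp F ω) (g : ℕ) : GL F9 F := wordU hy ((lWord[g]?).getD [])

omit hy in
/-- The preimage of the subgroup in the triple cover. -/
def subMax (hy : Hyp F ω) : Subgroup (GL F9 F) :=
  Subgroup.closure ({x | ∃ g < 2, x = lU hy g} ∪ (Zs F : Set (GL F9 F)))

theorem subMax_le : subMax hy ≤ threeJ3 F ω := by
  rw [subMax, Subgroup.closure_le]
  rintro x (⟨g, _, rfl⟩ | hx)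
  · exact wordU_mem hy _
  · exact zs_le hy hx

theorem zs_le_subMax : Zs F ≤ subMax hy := fun _ h => Subgroup.subset_closure (Or.inr h)

theorem lU_rep {g : ℕ} (hg : g < 2) : Rep ω (lU hy g) (lm (at0 lGen g)) :=
  (wordU_rep hy _ (lGen_spec hg).2.2.1).congr hy.good (lGen_spec hg).2.2.2

theorem exists_sel {i : ℕ} (hi : i < 8160) : ∃ x ∈ subMax hy, Rep ω x (lm i) := by
  have key : ∀ r, ∀ i < 8160, lrk i = r → ∃ x ∈ subMax hy, Rep ω x (lm i) := by
    intro r
    induction r using Nat.strong_induction_on with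
    | _ r ih =>
      intro i hi hr
      by_cases h0 : r = 0
      · refine ⟨1, one_mem _, ?_⟩
        rw [(lOk_spec hi).2.2.2.1 (hr.trans h0), lm_lId]
        exact rep_one hy.good
      · obtain ⟨p, g, hp, hg, hlt, he⟩ := (lOk_spec hi).2.2.2.2 (hr ▸ h0)
        obtain ⟨x, hx, hxr⟩ := ih _ (hr ▸ hlt) p hp rfl
        exact ⟨lU hy g * x, mul_mem (Subgroup.subset_closure (Or.inl ⟨g, hg, rfl⟩)) hx,
          ((lU_rep hy hg).tmul hy.good (lGen_spec hg).2.1 hxr).congr hy.good he⟩
  exact key _ i hi rfl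

theorem subMax_rep {x : GL F9 F} (hx : x ∈ subMax hy) : ∃ i < 8160, Rep ω x (lm i) := by
  rw [subMax] at hx
  refine closure_mem_of_mul_mem (U := {x | ∃ i < 8160, Rep ω x (lm i)}) ?_ ?_ hx
  · exact ⟨lId, lId_lt, by rw [lm_lId]; exact rep_one hy.good⟩
  · rintro s (⟨g, hg, rfl⟩ | hs) y ⟨i, hi, hyr⟩
    · obtain ⟨j, hj, hp⟩ := (lOk_spec hi).2.2.1 g hg
      exact ⟨j, hj, ((lU_rep hy hg).tmul hy.good (lGen_spec hg).2.1 hyr).congr hy.good hp⟩
    · exact ⟨i, hi, hyr.zs_mul hs⟩

theorem card_subMax : Nat.card (subMax hy) = 24480 := by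
  classical
  choose! sel hsel hrep using fun i (hi : i < 8160) => exists_sel hy hi
  let f : Zs F × Fin 8160 → subMax hy := fun p =>
    ⟨p.1.1 * sel p.2, mul_mem (zs_le_subMax hy p.1.2) (hsel _ p.2.2)⟩
  have hinj : ∀ {i j : ℕ} {g : GL F9 F}, i < 8160 → j < 8160 → Rep ω g (lm i) → Rep ω g (lm j) →
      i = j := by
    intro i j g hi hj h1 h2
    have e := h1.code_unique hy.good hy.card h2 (lm_lt i) (lm_lt j) (lOk_spec hi).1 (lOk_spec hj).1
    rcases Nat.lt_trichotomy i j with h | h | h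
    · exact absurd e (Nat.ne_of_lt (lm_mono h hj))
    · exact h
    · exact absurd e.symm (Nat.ne_of_lt (lm_mono h hi))
  have hf : Function.Bijective f := by
    refine ⟨?_, ?_⟩
    · rintro ⟨z, i⟩ ⟨z', i'⟩ h
      have h' : (z : GL F9 F) * sel i = z' * sel i' := congrArg Subtype.val h
      have hi : i = i' := by
        refine Fin.ext (hinj i.2 i'.2 ((hrep i i.2).zs_mul z.2) ?_)
        rw [h']
        exact (hrep i' i'.2).zs_mul z'.2
      subst hi
      rw [mul_right_cancel_iff] at h'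
      rw [Subtype.ext h']
    · rintro ⟨g, hg⟩
      obtain ⟨i, hi, hr⟩ := subMax_rep hy hg
      obtain ⟨z, hz, e⟩ := (hrep i hi).unique hr
      exact ⟨(⟨z, hz⟩, ⟨i, hi⟩), Subtype.ext e.symm⟩
  rw [← Nat.card_congr (Equiv.ofBijective f hf), Nat.card_prod, card_Zs hy.card, Nat.card_fin]

/-- J₃ has a subgroup of index 6156. -/
theorem exists_index_6156 : ∃ K : Subgroup (J3 F ω), K.index = 6156 := by
  refine ⟨((subMax hy).subgroupOf (threeJ3 F ω)).map
    (QuotientGroup.mk' (Subgroup.center (threeJ3 F ω))), ?_⟩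
  rw [Subgroup.index_map_eq _ (QuotientGroup.mk'_surjective _) ?_]
  · have h := Subgroup.card_mul_index ((subMax hy).subgroupOf (threeJ3 F ω))
    rw [Nat.card_congr (Subgroup.subgroupOfEquivOfLe (subMax_le hy)).toEquiv, card_subMax hy,
      card_threeJ3 hy] at h
    omega
  · rw [QuotientGroup.ker_mk']
    intro g hg
    exact zs_le_subMax hy ((mem_center_iff hy g).1 hg)

end Cfsg.Agent.JankoThree
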