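import Cfsg.Agent.Lib.JankoThree.Simple
import Cfsg.Prelude.Def_Classical

/-!
The triple cover of `J₃` preserves the standard Hermitian form and has determinant one.
-/

set_option autoImplicit false
set_option linter.style.haveILetI false

universe u

namespace Cfsg.Agent.JankoThree

open Cfsg Cfsg.Spor Matrix

/-- Product of entry codes. -/
def mulC (a b : ℕ) : ℕ :=
  if a = 0 ∨ b = 0 then 0 else (a - 1 + (b - 1)) % 3 + 1

/-- The Hermitian product of two columns, below `n`. -/
def hermC (M : ℕ) (a b : F9) : ℕ → ℕ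
  | 0 => 0
  | n + 1 => Nat.xor (hermC M a b n)
      (mulC (Nat.land (Nat.shiftRight (col M (idx a)) (2 * n)) 3)
        (mulC (Nat.land (Nat.shiftRight (col M (idx b)) (2 * n)) 3)
          (Nat.land (Nat.shiftRight (col M (idx b)) (2 * n)) 3)))

theorem hermC_gens : ∀ i : Fin 43, ∀ a b : F9,
    hermC (Data.cert.gen i) a b 9 = if a = b then 1 else 0 := by decide +kernel

theorem land_three_lt (x : ℕ) : Nat.land x 3 < 4 :=
  lt_of_le_of_lt (Nat.and_le_right (n := x) (m := 3)) (by norm_num)

theorem mulC_lt (a b : ℕ) : mulC a b < 4 := by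
  unfold mulC
  split
  · norm_num
  · omega

variable {F : Type u} [Field F] {ω : F}

theorem val2_xor {a b : ℕ} : val2 ω (Nat.xor a b) = val2 ω a + val2 ω b ∨ ¬ Good ω := by
  by_cases hg : Good ω
  · left
    show val2 ω (a ^^^ b) = _
    simp only [val2, Nat.testBit_xor, bitVal_xor hg]
    ring
  · exact Or.inr hg

theorem val2_mulC (hg : Good ω) {a b : ℕ} (ha : a < 4) (hb : b < 4) :
    val2 ω (mulC a b) = val2 ω a * val2 ω b := by
  have h2 : val2 ω 2 = ω := by simp [val2, bitVal, Nat.testBit]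
  have h3 : val2 ω 3 = ω ^ 2 := by rw [sq_eq hg]; simp [val2, bitVal, Nat.testBit, add_comm]
  have hc : ω ^ 3 = 1 := by linear_combination (ω - 1) * hg.root
  interval_cases a <;> interval_cases b <;>
    simp only [mulC, val2_zero, val2_one, h2, h3] <;>
    (try simp [val2_zero, val2_one, h2, h3]) <;>
    (try linear_combination (-1 : F) * hc) <;> (try linear_combination (-ω) * hc) <;>
    (try ring)

/-- A generator preserves the form. -/
theorem gram_gen (hg : Good ω) {i : ℕ} (hi : i < 43) (a b : F9) :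
    ∑ z : F9, mat ω (Data.cert.gen i) z a * mat ω (Data.cert.gen i) z b ^ 2 =
      if a = b then 1 else 0 := by
  set M := Data.cert.gen i
  set f : ℕ → F := fun n =>
    val2 ω (Nat.land (Nat.shiftRight (col M (idx a)) (2 * n)) 3) *
      val2 ω (Nat.land (Nat.shiftRight (col M (idx b)) (2 * n)) 3) ^ 2
  have key : ∀ n, val2 ω (hermC M a b n) = ∑ j ∈ Finset.range n, f j := by
    intro n
    induction n with
    | zero => simp [hermC, val2_zero]
    | succ n ih =>
      rw [hermC, val2_xor.resolve_right (not_not.2 hg), ih, Finset.sum_range_succ,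
        val2_mulC hg (land_three_lt _) (mulC_lt _ _), val2_mulC hg (land_three_lt _) (land_three_lt _)]
      simp only [f]
      ring
  have e : (∑ z : F9, mat ω M z a * mat ω M z b ^ 2) = ∑ z : F9, f (idx z) :=
    Finset.sum_congr rfl fun z _ => by rw [mat_apply, mat_apply]; rfl
  rw [e, sum_idx, ← key, show M = Data.cert.gen ((⟨i, hi⟩ : Fin 43) : ℕ) from rfl, hermC_gens]
  split
  · exact val2_one
  · exact val2_zero

variable [Fintype F]

theorem det_eq_one (hy : Hyp F ω) {g : GL F9 F} (hg : g ∈ threeJ3 F ω) :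
    (g : Matrix F9 F9 F).det = 1 := by
  classical
  let D : GL F9 F →* Fˣ := Matrix.GeneralLinearGroup.det
  let N := threeJ3 F ω ⊓ D.ker
  suffices hle : threeJ3 F ω ≤ N by
    have := congrArg Units.val ((hle hg).2 : D g = 1)
    simpa [D] using this
  refine normal_eq_top hy inf_le_left (fun a ha n hn => ⟨Subgroup.mul_mem _ (Subgroup.mul_mem _ ha hn.1)
    (Subgroup.inv_mem _ ha), D.normal_ker.conj_mem n hn.2 a⟩) fun hle => ?_
  let φ : threeJ3 F ω →* Fˣ := D.comp (threeJ3 F ω).subtype
  have hker : Nat.card φ.ker ≤ 3 := by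
    refine le_trans ?_ (card_Zs (F := F) hy.card).le
    exact Nat.card_le_card_of_injective (fun x => ⟨x.1.1, hle ⟨x.1.2, x.2⟩⟩)
      fun x y e => Subtype.ext (Subtype.ext (congrArg (fun z : Zs F => (z : GL F9 F)) e))
  have hrange : Nat.card φ.range ≤ 3 := by
    refine le_trans (Subgroup.card_le_card_group _) ?_
    rw [Nat.card_eq_fintype_card, Fintype.card_units, hy.card]
  have h := φ.ker.card_mul_index
  rw [Subgroup.index_ker, card_threeJ3 hy] at h
  have : Nat.card φ.ker * Nat.card φ.range ≤ 3 * 3 := Nat.mul_le_mul hker hrange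
  omega

theorem herm_preserved (hy : Hyp F ω) {g : GL F9 F} (hg : g ∈ threeJ3 F ω) (u v : F9 → F) :
    ∑ z, ((g : Matrix F9 F9 F) *ᵥ u) z * ((g : Matrix F9 F9 F) *ᵥ v) z ^ 2 = ∑ z, u z * v z ^ 2 := by
  classical
  unfold threeJ3 at hg
  induction hg using Subgroup.closure_induction generalizing u v with
  | mem g hg =>
    obtain ⟨i, hi, e⟩ := gens_are_codes hy.good hg
    rw [e]
    haveI : CharP F 2 := CharTwo.of_one_ne_zero_of_two_eq_zero one_ne_zero hy.good.two
    have hsq : ∀ z, (mat ω (Data.cert.gen i) *ᵥ v) z ^ 2 =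
        ∑ b, mat ω (Data.cert.gen i) z b ^ 2 * v b ^ 2 := fun z => by
      rw [Matrix.mulVec, dotProduct, CharTwo.sum_sq]
      exact Finset.sum_congr rfl fun b _ => mul_pow _ _ 2
    calc ∑ z, (mat ω (Data.cert.gen i) *ᵥ u) z * (mat ω (Data.cert.gen i) *ᵥ v) z ^ 2
        = ∑ z, ∑ a, ∑ b, (mat ω (Data.cert.gen i) z a * mat ω (Data.cert.gen i) z b ^ 2) *
            (u a * v b ^ 2) := by
          refine Finset.sum_congr rfl fun z _ => ?_
          rw [hsq, Matrix.mulVec, dotProduct, Finset.sum_mul]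
          refine Finset.sum_congr rfl fun a _ => ?_
          rw [Finset.mul_sum]
          exact Finset.sum_congr rfl fun b _ => by ring
      _ = ∑ a, ∑ b, (∑ z, mat ω (Data.cert.gen i) z a * mat ω (Data.cert.gen i) z b ^ 2) *
            (u a * v b ^ 2) := by
          rw [Finset.sum_comm]
          refine Finset.sum_congr rfl fun a _ => ?_
          rw [Finset.sum_comm]
          exact Finset.sum_congr rfl fun b _ => (Finset.sum_mul _ _ _).symm
      _ = ∑ a, u a * v a ^ 2 := by
          simp only [gram_gen hy.good hi, ite_mul, one_mul, zero_mul, Finset.sum_ite_eq,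
            Finset.mem_univ, if_true]
  | one => simp
  | mul a b _ _ ha hb =>
    rw [Units.val_mul, ← Matrix.mulVec_mulVec, ← Matrix.mulVec_mulVec, ha, hb]
  | inv a _ ha =>
    rw [← ha (((a⁻¹ : GL F9 F) : Matrix F9 F9 F) *ᵥ u), Matrix.mulVec_mulVec, Matrix.mulVec_mulVec,
      ← Units.val_mul, mul_inv_cancel, Units.val_one, Matrix.one_mulVec, Matrix.one_mulVec]

/-- An indexing of the nine basis vectors. -/
noncomputable def e9 : F9 ≃ Fin 9 := Fintype.equivFinOfCardEq (by simp)

/-- The triple cover as a subgroup of `SU₉(2)`. -/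
noncomputable def toSU (hy : Hyp F ω) : threeJ3 F ω →* Cfsg.SU 9 F 2 where
  toFun g := ⟨⟨Matrix.reindex e9 e9 ((g : GL F9 F) : Matrix F9 F9 F),
      by rw [Matrix.det_reindex_self]; exact det_eq_one hy g.2⟩, fun u v => by
    show hermForm 9 F 2 (Matrix.reindex e9 e9 ((g : GL F9 F) : Matrix F9 F9 F) *ᵥ u)
      (Matrix.reindex e9 e9 ((g : GL F9 F) : Matrix F9 F9 F) *ᵥ v) = hermForm 9 F 2 u v
    have h := herm_preserved hy g.2 (u ∘ e9) (v ∘ e9)
    rw [hermForm, hermForm, Matrix.reindex_apply, Matrix.submatrix_mulVec_equiv,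
      Matrix.submatrix_mulVec_equiv, Equiv.symm_symm, ← e9.sum_comp, ← e9.sum_comp (fun i => u i * v i ^ 2)]
    simpa using h⟩
  map_one' := by
    refine Subtype.ext (Subtype.ext ?_)
    simp
  map_mul' g h := by
    refine Subtype.ext (Subtype.ext ?_)
    show Matrix.reindex e9 e9 ((g : GL F9 F) * (h : GL F9 F) : GL F9 F).val =
      Matrix.reindex e9 e9 (g : GL F9 F).val * Matrix.reindex e9 e9 (h : GL F9 F).val
    simp [Matrix.reindex_apply, Matrix.submatrix_mul_equiv]

theorem toSU_injective (hy : Hyp F ω) : Function.Injective (toSU hy) := by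
  intro g h e
  have e' := congrArg (fun x : Cfsg.SU 9 F 2 =>
    ((x : Matrix.SpecialLinearGroup (Fin 9) F) : Matrix (Fin 9) (Fin 9) F)) e
  exact Subtype.ext (Units.ext ((Matrix.reindex e9 e9).injective e'))

end Cfsg.Agent.JankoThree
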